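import Cfsg.Agent.SM.SpC.Bt
import Cfsg.Agent.BMx.LocAbs
import Cfsg.Agent.H566.RowMod
import Cfsg.Agent.H855.RC.Small
import Cfsg.Agent.H940.EngLoc
import Cfsg.Agent.S0144

/-!
# SM (S3570), the socle `PSU₄(3)`: the abstract local analysis (helper82)

* `Dt S` : the data on classes which are used;
* `o2` : a subgroup of order divisible by `81` has `O₂ = 1`;
* `str` : if moreover `O₃ = 1` and `7` does not divide the order, it is simple of order `25920`;
* `full` : Borel–Tits, the normaliser of a Sylow subgroup;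
* `no1120`, `k6` : two kills.
-/

set_option autoImplicit false

namespace Cfsg.Agent.SM.U.B43

open Cfsg Subgroup Cfsg.Agent.SM.Sp Cfsg.Agent.H940.Eng Cfsg.Agent.OrdDiv

/-! ### general tools -/

section gen

variable {G : Type} [Group G] [Finite G]

theorem dvd_of_stab {P X : Type} [Group P] [Finite P] [Finite X] [MulAction P X] {d : ℕ}
    (h : ∀ x : X, d ∣ (MulAction.stabilizer P x).index) : d ∣ Nat.card X := by
  classical
  have := Fintype.ofFinite (MulAction.orbitRel.Quotient P X)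
  rw [Nat.card_congr (MulAction.selfEquivSigmaOrbitsQuotientStabilizer P X), Nat.card_sigma]
  exact Finset.dvd_sum fun ω _ => h _

theorem exists_cent {p : ℕ} [hp : Fact p.Prime] {D : Subgroup G} (hD : IsPGroup p D) (h : D ≠ ⊥) :
    ∃ z ∈ D, orderOf z = p ∧ ∀ d ∈ D, d * z = z * d := by
  have : Nontrivial D := (nontrivial_iff_ne_bot D).2 h
  have h1 : Nontrivial (center D) := hD.center_nontrivial
  obtain ⟨n, h2, h3⟩ := (hD.to_subgroup (center D)).nontrivial_iff_card.1 h1
  obtain ⟨z, hz⟩ := exists_prime_orderOf_dvd_card' (G := center D) p (h3 ▸ dvd_pow_self p h2.ne')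
  refine ⟨((z : D) : G), (z : D).2, by rw [orderOf_coe, orderOf_coe, hz], fun d hd => ?_⟩
  exact congrArg Subtype.val (mem_center_iff.1 z.2 ⟨d, hd⟩)

theorem conj_syl {p k : ℕ} [Fact p.Prime] (P : Sylow p G) {x : G} (hx : orderOf x = p ^ k) :
    ∃ c : G, c * x * c⁻¹ ∈ (P : Subgroup G) := by
  obtain ⟨Q, hQ⟩ := (IsPGroup.of_card (G := zpowers x) ((Nat.card_zpowers x).trans hx)).exists_le_sylow
  obtain ⟨c, hc⟩ := MulAction.exists_smul_eq G Q P
  refine ⟨c, ?_⟩
  rw [← hc, Sylow.coe_subgroup_smul]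
  exact smul_mem_pointwise_smul x (MulAut.conj c) _ (hQ (mem_zpowers x))

/-- groups of order `2 ^ a * 3 ^ b` -/
theorem core23 {a b : ℕ} (h : Nat.card G ∣ 2 ^ a * 3 ^ b) (h1 : Nat.card G ≠ 1) : pCore 2 G ≠ ⊥ ∨ pCore 3 G ≠ ⊥ := by
  obtain ⟨u, v, hu, hv, h2⟩ := (Nat.dvd_mul).1 h
  obtain ⟨i, -, rfl⟩ := (Nat.dvd_prime_pow Nat.prime_two).1 hu
  obtain ⟨j, -, rfl⟩ := (Nat.dvd_prime_pow Nat.prime_three).1 hv
  have := S0144.result (G := G) 2 3 i j Nat.prime_two Nat.prime_three h2.symm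
  have : Nontrivial G := Finite.one_lt_card_iff_nontrivial.1 (lt_of_le_of_ne Nat.card_pos h1.symm)
  obtain ⟨t, ht, h3⟩ := H855.RC.exists_core (G := G)
  have := Fact.mk ht
  obtain ⟨n, h4, h5⟩ := (Lib.Cores.pCore_isPGroup (G := G) t).nontrivial_iff_card.1 ((nontrivial_iff_ne_bot _).2 h3)
  have h6 : t ∣ 2 ^ i * 3 ^ j := h2 ▸ ((h5 ▸ dvd_pow_self t h4.ne' :).trans (card_subgroup_dvd_card _))
  rcases ht.dvd_mul.1 h6 with h7 | h7
  · exact .inl ((Nat.prime_dvd_prime_iff_eq ht Nat.prime_two).1 (ht.dvd_of_dvd_pow h7) ▸ h3)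
  · exact .inr ((Nat.prime_dvd_prime_iff_eq ht Nat.prime_three).1 (ht.dvd_of_dvd_pow h7) ▸ h3)

/-- the Frattini argument -/
theorem frat {ld : LD} (hl : Loc G ld) {B : Subgroup G} (N : Subgroup B) [hN : N.Normal] (h : ld.r ∣ Nat.card N) :
    N.index * ld.r ∣ ld.N := by
  obtain ⟨hr, -, h2, h3⟩ := hl
  have := Fact.mk hr
  obtain ⟨m, hm⟩ := h
  have h4 : ¬ ld.r ∣ m := fun h5 => h2 (Dvd.dvd.trans (by rw [hm, pow_two]; exact Nat.mul_dvd_mul_left _ h5)
    ((card_subgroup_dvd_card N).trans (card_subgroup_dvd_card B)))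
  obtain ⟨R, h5, -⟩ := Rd.exists_syl (A := N) (k := 1) h4 (by rw [hm, pow_one])
  obtain ⟨R', hR'⟩ : ∃ R' : Subgroup B, R' = (R : Subgroup N).map N.subtype := ⟨_, rfl⟩
  have h6 : normalizer (R' : Set B) ⊔ N = ⊤ := hR' ▸ R.normalizer_sup_eq_top
  have h7 : Nat.card R' = ld.r := by rw [hR', card_map_of_injective N.subtype_injective, h5, pow_one]
  have h8 := card_sup_mul_card_inf N (normalizer (R' : Set B))
  rw [sup_comm, h6, card_top, ← N.card_mul_index, mul_assoc] at h8
  have h9 : ld.r ∣ Nat.card ↥(N ⊓ normalizer (R' : Set B)) :=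
    h7 ▸ card_dvd_of_le (le_inf (hR' ▸ map_subtype_le _) le_normalizer)
  have h10 : Nat.card (normalizer (R' : Set B)) ∣ ld.N := by
    refine Dvd.dvd.trans ?_ (h3 (R'.map B.subtype) (by rw [card_map_of_injective B.subtype_injective, h7])).2
    rw [← card_map_of_injective B.subtype_injective]
    exact card_dvd_of_le (le_normalizer_map _)
  rw [← Nat.eq_of_mul_eq_mul_left Nat.card_pos h8] at h10
  exact (Nat.mul_dvd_mul_left _ h9).trans h10

section

open Cfsg.Agent.H284 Cfsg.Agent.H737.EPO Cfsg.Agent.H424.EPX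

/-- Borel–Tits in a parabolic system -/
theorem full_top {p : ℕ} [Fact p.Prime] {I : Type} (S : PSys G p I) (hc : CanV S)
    {V : Subgroup G} (h : Lc ⊤ V) (hO : pCore p V ≠ ⊥) :
    ∃ U : Subgroup G, IsPGroup p U ∧ ¬ p ∣ U.index ∧ normalizer (U : Set G) ≤ V := by
  obtain ⟨Q, hQd⟩ : ∃ Q : Subgroup G, Q = (pCore p V).map V.subtype := ⟨_, rfl⟩
  have hQ : IsPGroup p Q := hQd ▸ (Lib.Cores.pCore_isPGroup p).map _
  have hQ1 : Q ≠ ⊥ := fun h0 => hO ((map_eq_bot_iff_of_injective _ V.subtype_injective).1 (hQd ▸ h0))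
  have hN : normalizer (Q : Set G) ≤ V := fun x hx =>
    h _ (Lib.Cores.pCore_characteristic p) hO ⟨mem_top x, hQd ▸ hx⟩
  have hVN : V ≤ normalizer (Q : Set G) := fun v hv =>
    hQd ▸ le_normalizer_map V.subtype
      ⟨⟨v, hv⟩, (normalizer_eq_top_iff.2 (Lib.Cores.pCore_normal (G := V) p)).ge (mem_top _), rfl⟩
  obtain ⟨J, g, -, h1, h2⟩ := hc Q hQ hQ1
  have hW : IsPGroup p (cj g (S.V J)) := (S.V_p J).map _
  have hU : cj g (S.P ∅) ≤ normalizer ((cj g (S.V J) : Subgroup G) : Set G) :=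
    (cj_mono ((S.P_mono (Set.empty_subset J)).trans (S.V_norm J))).trans (le_normalizer_map _)
  generalize cj g (S.V J) = W at h1 h2 hW hU
  have h3 : V ⊓ W ≤ Q := fun x hx => by
    have h4 : (W.subgroupOf V).Normal := ⟨fun w hw v =>
      h2 (MulAut.conj (v : G)) (fun d hd => (mem_normalizer_iff.1 (hVN v.2) d).1 hd) w hw⟩
    exact hQd ▸ ⟨⟨x, hx.1⟩, Lib.Cores.le_pCore h4 (hW.comap_of_injective _ V.subtype_injective) hx.2, rfl⟩
  have h4 : W = Q := by
    refine le_antisymm ?_ h1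
    by_contra hlt
    have := hW.isNilpotent
    have h5 : Q.subgroupOf W < ⊤ := lt_top_iff_ne_top.2 fun h6 => hlt (subgroupOf_eq_top.1 h6)
    obtain ⟨x, hx, hx'⟩ := SetLike.exists_of_lt (Group.normalizerCondition_of_isNilpotent (Q.subgroupOf W) h5)
    refine hx' (h3 ⟨hN ?_, x.2⟩)
    have h6 := le_normalizer_map W.subtype ⟨x, hx, rfl⟩
    rwa [map_subgroupOf_eq_of_le h1] at h6
  rw [h4] at hU
  let P : Sylow p G := ⟨S.V ∅, S.U_p, fun {T} hT hle => S.U_max T hle hT⟩
  refine ⟨cj g (S.V ∅), S.U_p.map _, ?_, ?_⟩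
  · exact fun h5 => P.not_dvd_index (h5.trans (index_map_equiv _ (MulAut.conj g)).dvd)
  · rw [← map_equiv_normalizer_eq, S.U_norm]
    exact hU.trans hN

end

/-- **Borel–Tits** -/
theorem full {V : Subgroup G} (h : Lc ⊤ V) {p : ℕ} [Fact p.Prime] (hs : IsSimpleGroup G) (hc : ∃ a b : G, a * b ≠ b * a)
    (hl : IsLieTypeChar p G) (hO : pCore p V ≠ ⊥) :
    ∃ U : Subgroup G, IsPGroup p U ∧ ¬ p ∣ U.index ∧ normalizer (U : Set G) ≤ V := by
  obtain ⟨Y, _, _, I, S, e, hS⟩ := TH.Own.Am.hasCan_of_lie hc hl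
  have h2 := Rd.lc_map e.symm h
  rw [map_top_of_surjective _ e.symm.surjective] at h2
  have f : V ≃* V.map e.symm.toMonoidHom := V.equivMapOfInjective _ e.symm.injective
  obtain ⟨U, h3, h4, h5⟩ := full_top S hS h2 fun h0 => hO (by
    rw [← Lib.Cores.map_equiv_pCore f p] at h0
    exact (map_eq_bot_iff_of_injective _ f.injective).1 h0)
  refine ⟨U.map e.toMonoidHom, h3.map _, fun h6 => h4 (h6.trans (index_map_equiv _ e).dvd), ?_⟩
  rw [← map_equiv_normalizer_eq]
  rintro _ ⟨x, hx, rfl⟩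
  obtain ⟨y, hy, rfl⟩ := h5 hx
  simpa using hy

theorem index_mod {p : ℕ} [hp : Fact p.Prime] {U V : Subgroup G} (h1 : IsPGroup p U) (h2 : ¬ p ∣ U.index)
    (h : normalizer (U : Set G) ≤ V) : V.index % p = 1 := by
  have hUV : U ≤ V := le_normalizer.trans h
  have h3 : ¬ p ∣ (U.subgroupOf V).index := fun h3 => h2 (h3.trans (relIndex_dvd_index_of_le hUV))
  let P : Sylow p G := h1.toSylow h2
  let Q : Sylow p V := (h1.comap_of_injective _ V.subtype_injective).toSylow h3
  have h4 := card_sylow_modEq_one p G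
  have h5 := card_sylow_modEq_one p V
  rw [P.card_eq_index_normalizer] at h4
  rw [Q.card_eq_index_normalizer] at h5
  have h6 : normalizer ((Q : Subgroup V) : Set V) = (normalizer (U : Set G)).subgroupOf V :=
    (subgroupOf_normalizer_eq hUV).symm
  have h7 : (normalizer (U : Set G)).relIndex V * V.index = (normalizer (U : Set G)).index := relIndex_mul_index h
  have h8 : (normalizer (U : Set G)).relIndex V ≡ 1 [MOD p] := by
    rw [relIndex, ← h6]
    exact h5
  have h9 : 1 * V.index ≡ 1 [MOD p] := (h8.symm.mul_right _).trans (h7 ▸ h4)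
  rw [one_mul] at h9
  rw [h9, Nat.mod_eq_of_lt hp.out.one_lt]

end gen

/-! ### the data -/

/-- orders of elements and of their centralisers -/
def cl : List (ℕ × ℕ) := [(1, 3265920), (2, 1152), (3, 5832), (3, 972), (3, 81), (4, 96), (4, 16), (5, 5), (6, 72), (6, 36),
  (7, 7), (8, 8), (9, 27), (12, 12)]

/-- the data on `U₄(3)` -/
structure Dt (S : Type) [Group S] : Prop where
  simple : IsSimpleGroup S
  card : Nat.card S = 3265920
  cls : ∀ g : S, (orderOf g, Nat.card (centralizer ({g} : Set S))) ∈ cl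
  c2 : ∀ a b : S, orderOf a = 2 → orderOf b = 2 → IsConj a b
  c3 : ∀ a b : S, Nat.card (centralizer ({a} : Set S)) = 5832 → Nat.card (centralizer ({b} : Set S)) = 5832 → IsConj a b
  o8 : ∃ g : S, orderOf g = 8
  lie : IsLieTypeChar 3 S
  idx : ∀ H : Subgroup S, H ≠ ⊤ → 112 ≤ H.index

def lS : List (ℕ × ℕ) := [(2, 7), (3, 6), (5, 1), (7, 1)]
def oS : List ℕ := [60, 168, 360, 504, 2520, 6048, 20160, 25920, 181440, 3265920]
def l5 : LD := ⟨5, 5, [(2, 2), (5, 1)]⟩
def l7 : LD := ⟨7, 7, [(3, 1), (7, 1)]⟩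

theorem ordsS : Ords.{0} 3265920 oS := ords_of BMx.engBase (l := lS) (by decide +kernel) (by decide +kernel)

namespace Dt

variable {S : Type} [Group S] [Finite S] (d : Dt S)

include d

omit [Finite S] in
theorem nab : ¬ ∀ a b : S, a * b = b * a := fun h => by
  have := d.simple
  let : CommGroup S := { (inferInstance : Group S) with mul_comm := h }
  have h1 : (Nat.card S).Prime := IsSimpleGroup.prime_card
  rw [d.card] at h1
  exact absurd h1 (by norm_num)

omit [Finite S] in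
theorem cl_all {P : ℕ → ℕ → Prop} (h : ∀ x ∈ cl, P x.1 x.2) (g : S) :
    P (orderOf g) (Nat.card (centralizer ({g} : Set S))) := h _ (d.cls g)

theorem loc_r {r : ℕ} {fN : List (ℕ × ℕ)} (hr : isPrimeB r = true) (h1 : 3265920 % r = 0)
    (h2 : (3265920 % (r ^ 2) != 0) = true) (h3 : ∀ x ∈ cl, x.1 = r → x.2 = r) (hfN : (fN.all fun x => isPrimeB x.1) = true)
    (hc : cnP 3265920 r [(r, 1)] (fun c m => r % c == 0 && (prodl fN) % m == 0) = true) : Loc S ⟨r, r, fN⟩ := by
  have := d.simple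
  have := Fact.mk (prime_of hr)
  obtain ⟨x, hx⟩ := exists_prime_orderOf_dvd_card' (G := S) r (d.card ▸ Nat.dvd_of_mod_eq_zero h1)
  refine loc_of_cent d.nab d.card hr h2 (fC := [(r, 1)]) (by simpa using hr) (R0 := zpowers x)
    ((Nat.card_zpowers x).trans hx) ?_ hfN hc
  rw [BMx.LocAbs.cent_zp, d.cl_all (P := fun a b => a = r → b = r) h3 x hx]
  simp [prodl]

theorem loc5 : Loc S l5 :=
  d.loc_r (by decide +kernel) (by decide) (by decide +kernel) (by decide) (by decide +kernel) (by decide +kernel)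

theorem loc7 : Loc S l7 :=
  d.loc_r (by decide +kernel) (by decide) (by decide +kernel) (by decide) (by decide +kernel) (by decide +kernel)

theorem nbad {H : Subgroup S} (h : H ≠ ⊤) : bad lS 3265920 [] 30 [l5, l7] oS (Nat.card H) = false := by
  have := d.simple
  refine not_bad (by decide +kernel) d.card ordsS (fun ld hld => ?_) (fun p hp => absurd hp List.not_mem_nil) h
  simp only [List.mem_cons, List.not_mem_nil, or_false] at hld
  rcases hld with rfl | rfl
  exacts [d.loc5, d.loc7]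

/-- **`O₂ = 1`** -/
theorem o2 {B : Subgroup S} (h : 3 ^ 4 ∣ Nat.card B) : pCore 2 B = ⊥ := by
  by_contra h0
  have f2 : Fact (Nat.Prime 2) := ⟨Nat.prime_two⟩
  have f3 : Fact (Nat.Prime 3) := ⟨Nat.prime_three⟩
  obtain ⟨D, hD⟩ : ∃ D : Subgroup B, D = pCore 2 B := ⟨_, rfl⟩
  have hDn : D.Normal := hD ▸ inferInstance
  have hDp : IsPGroup 2 D := hD ▸ Lib.Cores.pCore_isPGroup 2
  obtain ⟨z, hz1, hz2, hz3⟩ := exists_cent hDp (hD ▸ h0)
  let E : Subgroup B :=
    { carrier := {x | x ∈ D ∧ x * x = 1 ∧ ∀ y ∈ D, y * x = x * y}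
      one_mem' := ⟨D.one_mem, one_mul 1, fun y _ => by rw [one_mul, mul_one]⟩
      mul_mem' := fun {a b} ha hb => ⟨D.mul_mem ha.1 hb.1, by
        rw [mul_assoc, ← mul_assoc b, ha.2.2 b hb.1, mul_assoc, hb.2.1, mul_one, ha.2.1], fun y hy => by
        rw [← mul_assoc, ha.2.2 y hy, mul_assoc, hb.2.2 y hy, mul_assoc]⟩
      inv_mem' := fun {a} ha => by rwa [inv_eq_of_mul_eq_one_right ha.2.1] }
  have hEc : ∀ g x : B, x ∈ E → g * x * g⁻¹ ∈ E := fun g x hx => ⟨hDn.conj_mem x hx.1 g, by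
    rw [conj_mul, hx.2.1, mul_one, mul_inv_cancel], fun y hy => by
    have h1 := hx.2.2 _ (hDn.conj_mem' y hy g)
    calc y * (g * x * g⁻¹) = g * (g⁻¹ * y * g * x) * g⁻¹ := by group
      _ = g * x * g⁻¹ * y := by rw [h1]; group⟩
  obtain ⟨P, hP⟩ := Sylow.exists_subgroup_card_pow_prime 3 h
  let act : MulAction P {x : E // x ≠ 1} :=
    { smul := fun g x => ⟨⟨(g : B) * x.1 * (g : B)⁻¹, hEc _ _ x.1.2⟩, fun h1 =>
        x.2 (Subtype.ext (conj_eq_one_iff.1 (congrArg Subtype.val h1)))⟩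
      one_smul := fun x => Subtype.ext (Subtype.ext (by
        change ((1 : P) : B) * x.1 * ((1 : P) : B)⁻¹ = x.1
        simp))
      mul_smul := fun g g' x => Subtype.ext (Subtype.ext (by
        change ((g * g' : P) : B) * x.1 * ((g * g' : P) : B)⁻¹ = g * (g' * x.1 * (g' : B)⁻¹) * (g : B)⁻¹
        rw [coe_mul]
        group)) }
  have h1 : 9 ∣ Nat.card {x : E // x ≠ 1} := by
    refine dvd_of_stab (P := P) fun x => ?_
    have h2 : orderOf (((x.1 : E) : B) : S) = 2 := by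
      rw [orderOf_coe]
      exact orderOf_eq_prime ((pow_two _).trans x.1.2.2.1) fun h3 => x.2 (Subtype.ext h3)
    have h3 := d.cl_all (P := fun a b => a = 2 → b = 1152) (by decide) _ h2
    have h4 : Nat.card (MulAction.stabilizer P x) ∣ 1152 := by
      rw [← h3, ← card_map_of_injective P.subtype_injective, ← card_map_of_injective B.subtype_injective]
      refine card_dvd_of_le ?_
      rintro _ ⟨_, ⟨g, hg, rfl⟩, rfl⟩
      have h5 : (g : B) * x.1 * (g : B)⁻¹ = x.1 := congrArg (fun y : {x : E // x ≠ 1} => (y.1 : B)) hg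
      exact mem_centralizer_singleton_iff.2 (congrArg Subtype.val (mul_inv_eq_iff_eq_mul.1 h5))
    have h5 := (MulAction.stabilizer P x).card_mul_index
    rw [hP] at h5
    obtain ⟨k, hk, h6⟩ := (Nat.dvd_prime_pow Nat.prime_three).1 (Dvd.intro _ h5)
    rw [h6] at h4 h5
    interval_cases k <;> omega
  have h2 : Nat.card {x : E // x ≠ 1} + 1 = Nat.card E := by
    classical
    rw [Nat.card_congr (Equiv.optionSubtypeNe (1 : E)).symm, Finite.card_option]
  have hEp : IsPGroup 2 (E.map B.subtype) := (hDp.to_le (H := E) fun x hx => hx.1).map _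
  obtain ⟨Q, hQ⟩ := hEp.exists_le_sylow
  have h3 : Nat.card Q = 2 ^ 7 := by
    rw [Q.card_eq_multiplicity, d.card]
    decide +kernel
  have h4 := ((E.map B.subtype).subgroupOf Q).card_mul_index
  rw [h3, Nat.card_congr (subgroupOfEquivOfLe hQ).toEquiv, card_map_of_injective B.subtype_injective] at h4
  obtain ⟨k, hk, h5⟩ := (Nat.dvd_prime_pow Nat.prime_two).1 (Dvd.intro _ h4)
  have h6 : 2 ∣ Nat.card E := by
    have h7 : z ∈ E := ⟨hz1, by rw [← pow_two, ← hz2, pow_orderOf_eq_one], hz3⟩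
    exact hz2 ▸ orderOf_dvd_natCard E h7
  have h7 : ((E.map B.subtype).subgroupOf Q).index = 2 := by
    rw [h5] at h2 h4 h6
    interval_cases k <;> omega
  obtain ⟨g, hg⟩ := d.o8
  obtain ⟨c, hc⟩ := conj_syl (k := 3) Q hg
  obtain ⟨y, hy, h8⟩ := mem_subgroupOf.1 (mul_self_mem_of_index_two h7 ⟨_, hc⟩)
  have h9 : (c * g * c⁻¹) * (c * g * c⁻¹) * ((c * g * c⁻¹) * (c * g * c⁻¹)) = 1 := by
    have h10 : (y : S) = (c * g * c⁻¹) * (c * g * c⁻¹) := h8
    rw [← h10]
    exact congrArg Subtype.val hy.2.1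
  have h10 : g ^ 4 = 1 := by
    rw [← conj_eq_one_iff (a := c), ← h9, ← conj_pow, show 4 = 2 + 2 from rfl, pow_add, pow_two]
  exact absurd (hg ▸ orderOf_dvd_of_pow_eq_one h10) (by norm_num)

/-- a subgroup of order divisible by `5` with `O₂ = O₃ = 1` -/
theorem red {B : Subgroup S} (h2 : pCore 2 B = ⊥) (h3 : pCore 3 B = ⊥) (h : 5 ∣ Nat.card B ∨ (¬ 7 ∣ Nat.card B ∧ B ≠ ⊥)) :
    ∃ M : Subgroup B, IsSimpleGroup M ∧ 5 ∣ Nat.card M ∧ M.index ∣ 4 := by
  have hd : Nat.card B ∣ 7 * (5 * (2 ^ 7 * 3 ^ 6)) := (card_subgroup_dvd_card B).trans (by rw [d.card]; norm_num)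
  have key : ∀ N : Subgroup B, N.Normal → ¬ 5 ∣ Nat.card N → ¬ 7 ∣ Nat.card N → N = ⊥ := fun N hN h5 h7 => by
    by_contra h0
    have h8 : Nat.card N ∣ 2 ^ 7 * 3 ^ 6 :=
      ((Nat.Prime.coprime_iff_not_dvd Nat.prime_five).2 h5).symm.dvd_of_dvd_mul_left
        (((Nat.Prime.coprime_iff_not_dvd (by norm_num)).2 h7).symm.dvd_of_dvd_mul_left ((card_subgroup_dvd_card N).trans hd))
    rcases core23 h8 (fun h9 => h0 (card_eq_one.1 h9)) with h9 | h9
    · refine h9 ((map_eq_bot_iff_of_injective _ N.subtype_injective).1 ?_)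
      rw [Lib.Cores.map_subtype_pCore 2 hN, h2, inf_bot_eq]
    · refine h9 ((map_eq_bot_iff_of_injective _ N.subtype_injective).1 ?_)
      rw [Lib.Cores.map_subtype_pCore 3 hN, h3, inf_bot_eq]
  have h5 : 5 ∣ Nat.card B := by
    refine h.elim id fun h4 => by_contra fun h5 => h4.2 ?_
    have h6 := key ⊤ inferInstance (by rwa [card_top]) (by rw [card_top]; exact h4.1)
    rw [← card_eq_one, card_top] at h6
    exact card_eq_one.1 h6
  obtain ⟨M, hM, hs, h6⟩ := exists_simple_normal (Y := B) Nat.prime_five h5 (fun h6 => absurd (h6.trans hd) (by norm_num))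
    fun N hN h6 => key N hN h6 fun h7 => by
      have h8 : N.index * 7 ∣ 21 := frat d.loc7 N h7
      rw [← N.card_mul_index] at h5
      have h9 := (Nat.prime_five.dvd_mul.1 h5).resolve_left h6
      exact absurd ((Nat.mul_dvd_mul_right h9 7).trans h8) (by norm_num)
  exact ⟨M, hs, h6, Nat.dvd_of_mul_dvd_mul_right (k := 5) (by norm_num) (frat d.loc5 M h6)⟩

theorem ord_or {B : Subgroup S} {M : Subgroup B} (hs : IsSimpleGroup M) : (Nat.card M).Prime ∨ Nat.card M ∈ oS := by
  by_cases h : ∀ a b : M, a * b = b * a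
  · let : CommGroup M := { (inferInstance : Group M) with mul_comm := h }
    exact .inl IsSimpleGroup.prime_card
  · exact .inr (ordsS M hs h (d.card ▸ (card_subgroup_dvd_card M).trans (card_subgroup_dvd_card B)))

omit d [Finite S] in
theorem simple_of {B : Subgroup S} {M : Subgroup B} (hs : IsSimpleGroup M) (h : M.index = 1) : IsSimpleGroup B := by
  rw [index_eq_one] at h
  subst h
  exact topEquiv.symm.isSimpleGroup

/-- **the structure of the large subgroups** -/
theorem str {B : Subgroup S} (hB : B ≠ ⊤) (h : 3 ^ 4 ∣ Nat.card B) (h7 : ¬ 7 ∣ Nat.card B) (h3 : pCore 3 B = ⊥) :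
    Nat.card B = 25920 ∧ IsSimpleGroup B := by
  obtain ⟨M, hs, -, h1⟩ := d.red (d.o2 h) h3 (.inr ⟨h7, fun h0 => by
    rw [h0, card_bot] at h
    exact absurd h (by norm_num)⟩)
  have h2 := M.card_mul_index
  have h4 : 3 ^ 4 ∣ Nat.card M :=
    Nat.Coprime.dvd_of_dvd_mul_right (Nat.Coprime.coprime_dvd_right h1 (by norm_num)) (h2 ▸ h)
  have h5 : ¬ 7 ∣ Nat.card M := fun h5 => h7 (h5.trans (card_subgroup_dvd_card M))
  have h6 : Nat.card M = 25920 := by
    rcases d.ord_or hs with h6 | h6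
    · rcases (Nat.dvd_prime h6).1 h4 with h8 | h8
      · exact absurd h8 (by norm_num)
      · exact absurd (h8 ▸ h6) (by norm_num)
    · revert h4 h5
      generalize Nat.card M = m at h6
      revert m
      decide
  have h8 := B.card_mul_index
  have h9 := d.idx B hB
  have h10 : M.index = 1 := by
    have h11 : M.index ≠ 0 := index_ne_zero_of_finite
    rw [d.card, ← h2, h6] at h8
    by_contra h12
    have h13 : 2 * 112 ≤ M.index * B.index := Nat.mul_le_mul (by omega) h9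
    rw [mul_assoc] at h8
    omega
  exact ⟨by rw [← h2, h6, h10], simple_of hs h10⟩

/-- **subgroups of order `2520` are simple** -/
theorem s2520 {B : Subgroup S} (h : Nat.card B = 2520) : IsSimpleGroup B := by
  have f5 : Fact (Nat.Prime 5) := ⟨Nat.prime_five⟩
  obtain ⟨x, hx⟩ := exists_prime_orderOf_dvd_card' (G := B) 5 (by rw [h]; norm_num)
  have key : ∀ p : ℕ, p.Prime → (∀ y ∈ cl, y.1 = p → ¬ 5 ∣ y.2) → (∀ k, p ^ k ∣ 2520 → p ^ k ≡ 1 [MOD 5] → k = 0) →
      pCore p B = ⊥ := fun p hp h1 h2 => by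
    have := Fact.mk hp
    have h3 := Lib.Cores.pCore_isPGroup (G := B) p
    have h4 := H566.RowMod.pgroup_card (l := 5) (hx ▸ pow_orderOf_eq_one x) (fun y _ hy h4 => by
      refine d.cl_all (P := fun a b => a = p → ¬ 5 ∣ b) h1 (y : S) ((orderOf_coe y).trans hy) ?_
      rw [← hx, ← orderOf_coe]
      exact orderOf_dvd_natCard _ (mem_centralizer_singleton_iff.2 (congrArg Subtype.val h4))) h3
      ((normalizer_eq_top_iff.2 inferInstance).ge (mem_top x))
    obtain ⟨k, hk⟩ := h3.exists_card_eq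
    rw [← card_eq_one, hk, h2 k (h ▸ hk ▸ card_subgroup_dvd_card _) (hk ▸ h4), pow_zero]
  have hk : ∀ p k : ℕ, 2 ≤ p → ¬ p ^ 4 ∣ 2520 → p ^ k ∣ 2520 → k < 4 := fun p k _ h1 h2 =>
    lt_of_not_ge fun h3 => h1 ((pow_dvd_pow p h3).trans h2)
  obtain ⟨M, hs, h1, h2⟩ := d.red (key 2 Nat.prime_two (by decide) fun k h1 h2 => by
      have h3 := hk 2 k le_rfl (by norm_num) h1
      interval_cases k <;> first | rfl | exact absurd h2 (by decide))
    (key 3 Nat.prime_three (by decide) fun k h1 h2 => by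
      have h3 := hk 3 k (by norm_num) (by norm_num) h1
      interval_cases k <;> first | rfl | exact absurd h2 (by decide)) (.inl (by rw [h]; norm_num))
  refine simple_of hs ?_
  have h3 := M.card_mul_index
  have h4 := d.ord_or hs
  have h5 := Nat.le_of_dvd (by norm_num) h2
  rw [h] at h3
  generalize M.index = i at h2 h3 h5 ⊢
  generalize Nat.card M = m at h3 h4
  interval_cases i
  · omega
  · rfl
  · obtain rfl : m = 1260 := by omega
    exact absurd h4 (by decide +kernel)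
  · omega
  · obtain rfl : m = 630 := by omega
    exact absurd h4 (by decide +kernel)

/-- **the Borel subgroup is not a row** -/
theorem no1120 {B : Subgroup S} (hL : Lc ⊤ B) (h : Nat.card B = 2916) {U : Subgroup S} (h1 : IsPGroup 3 U)
    (h2 : ¬ 3 ∣ U.index) (h3 : normalizer (U : Set S) ≤ B) : False := by
  have f3 : Fact (Nat.Prime 3) := ⟨Nat.prime_three⟩
  let P : Sylow 3 S := h1.toSylow h2
  have hU : Nat.card U = 729 := by
    have h4 := P.card_eq_multiplicity
    rw [d.card, show (3265920 : ℕ).factorization 3 = 6 by decide +kernel] at h4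
    exact h4
  have hUB : U ≤ B := le_normalizer.trans h3
  have hc : ∀ y : S, y ≠ 1 → y ∈ centralizer (U : Set S) → Nat.card (centralizer ({y} : Set S)) = 5832 := fun y hy hu =>
    d.cl_all (P := fun a b => a ≠ 1 → 729 ∣ b → b = 5832) (by decide) y (mt orderOf_eq_one_iff.1 hy)
      (hU ▸ card_dvd_of_le fun u hu' => mem_centralizer_singleton_iff.2 (hu u hu'))
  obtain ⟨z, hz1, hz2, hz3⟩ := exists_cent h1 fun h0 => by
    rw [h0, card_bot] at hU
    exact absurd hU (by norm_num)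
  have hz0 : z ≠ 1 := fun h0 => by
    rw [h0, orderOf_one] at hz2
    exact absurd hz2 (by norm_num)
  have hz4 : z ∈ centralizer (U : Set S) := hz3
  have hf : ∀ y : S, y ≠ 1 → y ∈ centralizer (U : Set S) → ∃ n ∈ normalizer (U : Set S), n * z * n⁻¹ = y := fun y hy hu => by
    obtain ⟨g, hg⟩ := isConj_iff.1 (d.c3 z y (hc z hz0 hz4) (hc y hy hu))
    obtain ⟨n, hn, e⟩ := P.conj_eq_normalizer_conj_of_mem_centralizer z g⁻¹ hz4 (by rwa [inv_inv, hg])
    exact ⟨n⁻¹, inv_mem hn, by rw [inv_inv, ← e, inv_inv, hg]⟩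
  have hi : (U.subgroupOf B).index = 4 := by
    have h4 := (U.subgroupOf B).card_mul_index
    rw [Nat.card_congr (subgroupOfEquivOfLe hUB).toEquiv, hU, h] at h4
    omega
  have hZ : zpowers z = centralizer (U : Set S) := by
    classical
    choose n hn e using hf
    have h4 : Nat.card {y : centralizer (U : Set S) // y ≠ 1} ≤ Nat.card (B ⧸ U.subgroupOf B) := by
      refine Nat.card_le_card_of_injective (fun y => QuotientGroup.mk
        ⟨n y.1 (fun h0 => y.2 (Subtype.ext h0)) y.1.2, h3 (hn _ _ _)⟩) fun y y' h5 => Subtype.ext (Subtype.ext ?_)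
      have h6 := hz3 _ (mem_subgroupOf.1 (QuotientGroup.eq.1 h5))
      rw [← e y.1 (fun h0 => y.2 (Subtype.ext h0)) y.1.2, ← e y'.1 (fun h0 => y'.2 (Subtype.ext h0)) y'.1.2]
      simp only [coe_mul, coe_inv] at h6
      generalize n y.1 _ y.1.2 = a at h6 ⊢
      generalize n y'.1 _ y'.1.2 = b at h6 ⊢
      calc a * z * a⁻¹ = a * (z * (a⁻¹ * b)) * b⁻¹ := by group
        _ = b * z * b⁻¹ := by rw [← h6]; group
    have h5 : Nat.card {y : centralizer (U : Set S) // y ≠ 1} + 1 = Nat.card (centralizer (U : Set S)) := by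
      rw [Nat.card_congr (Equiv.optionSubtypeNe (1 : centralizer (U : Set S))).symm, Finite.card_option]
    have h6 := card_dvd_of_le (zpowers_le.2 hz4)
    rw [← index_eq_card, hi] at h4
    refine eq_of_le_of_card_ge (zpowers_le.2 hz4) ?_
    rw [Nat.card_zpowers, hz2] at h6 ⊢
    omega
  have hN : normalizer (U : Set S) = B := by
    obtain ⟨n, hn, e⟩ := hf z⁻¹ (inv_ne_one.2 hz0) (inv_mem hz4)
    have h4 : Nat.card (normalizer (U : Set S)) ≠ 729 := fun h4 => by
      rw [← eq_of_le_of_card_ge le_normalizer (h4.trans hU.symm).le] at hn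
      rw [hz3 n hn, mul_inv_cancel_right, eq_inv_iff_mul_eq_one, ← pow_two] at e
      exact absurd (hz2 ▸ orderOf_dvd_of_pow_eq_one e) (by norm_num)
    obtain ⟨k, hk⟩ := card_dvd_of_le (le_normalizer : U ≤ _)
    have h5 := card_dvd_of_le h3
    have h6 := index_mod h1 h2 le_rfl
    have h7 := (normalizer (U : Set S)).card_mul_index
    rw [hU] at hk
    refine eq_of_le_of_card_ge h3 ?_
    rw [hk, h] at h5 ⊢
    rw [hk, d.card] at h7
    rw [hk] at h4
    have h8 : k ∣ 4 := Nat.dvd_of_mul_dvd_mul_left (k := 729) (by norm_num) h5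
    have h9 := Nat.le_of_dvd (by norm_num) h8
    interval_cases k <;> omega
  let Q : Sylow 3 B := (h1.comap_of_injective _ B.subtype_injective).toSylow (P := U.subgroupOf B) (by rw [hi]; norm_num)
  have h4 : (U.subgroupOf B).Characteristic := Q.characteristic_of_normal (normal_subgroupOf_of_le_normalizer hN.ge)
  have h5 : centralizer ({z} : Set S) ≤ B := fun c hc' => by
    refine hL (U.subgroupOf B ⊓ centralizer (U.subgroupOf B : Set B)) inferInstance (fun h0 => hz0 ?_)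
      ⟨mem_top c, centralizer_le_normalizer _ ?_⟩
    · have h6 : (⟨z, hUB hz1⟩ : B) ∈ U.subgroupOf B ⊓ centralizer (U.subgroupOf B : Set B) :=
        ⟨hz1, fun u hu => Subtype.ext (hz3 u hu)⟩
      rw [h0, mem_bot] at h6
      exact congrArg Subtype.val h6
    · rintro _ ⟨y, hy, rfl⟩
      have h6 : (y : S) ∈ zpowers z := hZ ▸ fun u hu => congrArg Subtype.val (hy.2 ⟨u, hUB hu⟩ hu)
      rw [← BMx.LocAbs.cent_zp] at hc'
      exact hc' _ h6
  have h6 := card_dvd_of_le h5
  rw [hc z hz0 hz4, h] at h6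
  exact absurd h6 (by norm_num)

/-- **elements of order three which centralise an involution** -/
theorem k6 {X Y : Subgroup S} (h : Ex78.Pd X Y) (hc : Nat.card X * Nat.card Y = 3265920 * 20) {x z z' : S} (hx : x ∈ Y)
    (h3 : orderOf x = 3) (h2 : orderOf z = 2) (hxz : x * z = z * x) (h2' : orderOf z' = 2)
    (h9 : 3 ^ 2 ∣ Nat.card ↥(centralizer ({z'} : Set S) ⊓ X)) : False := by
  have f3 : Fact (Nat.Prime 3) := ⟨Nat.prime_three⟩
  obtain ⟨g, rfl⟩ := isConj_iff.1 (d.c2 z z' h2 h2')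
  have h4 := d.cl_all (P := fun a b => a = 2 → b = 1152) (by decide) _ h2'
  obtain ⟨T, hT, -⟩ := BMx.LocAbs.exists_sylow_le (G := centralizer ({g * z * g⁻¹} : Set S)) (p := 3) (n := 2)
    (by rw [h4]; norm_num) (H := X.subgroupOf _) (by
      rw [← card_map_of_injective (subtype_injective _), subgroupOf_map_subtype, inf_comm]
      exact h9)
  have h5 : g * x * g⁻¹ ∈ centralizer ({g * z * g⁻¹} : Set S) := by
    rw [mem_centralizer_singleton_iff, conj_mul, conj_mul, hxz]
  have ho : ∀ c : S, orderOf (c * x * c⁻¹) = 3 := fun c => ((MulAut.conj c).orderOf_eq x).trans h3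
  obtain ⟨c, h6⟩ := conj_syl (k := 1) T (x := ⟨_, h5⟩) (by rw [← orderOf_coe]; exact ho g)
  have h7 : (c : S) * g * x * ((c : S) * g)⁻¹ ∈ X ⊓ Y.map (MulAut.conj ((c : S) * g)).toMonoidHom := by
    refine ⟨?_, x, hx, rfl⟩
    have h8 : (c : S) * (g * x * g⁻¹) * (c : S)⁻¹ ∈ X := hT h6
    rwa [show (c : S) * g * x * ((c : S) * g)⁻¹ = (c : S) * (g * x * g⁻¹) * (c : S)⁻¹ by group]
  have h8 := (h.conj ((c : S) * g)).card
  have h10 := orderOf_dvd_natCard _ h7
  rw [card_map_of_injective (MulAut.conj _).injective, hc, d.card] at h8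
  rw [ho] at h10
  omega

end Dt

end Cfsg.Agent.SM.U.B43
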