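import Cfsg.Agent.SM.U.Defs
import Cfsg.Agent.SM.U.B43A
import Cfsg.Agent.MK.U43.GT
import Cfsg.Agent.H264.FKS.ResCore
import Cfsg.Agent.H219.HerSmall
import Cfsg.Agent.H367.SpecSp43
import Cfsg.Agent.CTwoTab.Exc
import Cfsg.Agent.TwoFusion.A7NoSwap
import Cfsg.Agent.LieClassical.HermPerfect
import Cfsg.Agent.LieClassical.HermSimple
import Cfsg.Agent.S0822
import Cfsg.Agent.S0984
import Cfsg.Agent.S2150
import Cfsg.Agent.S5785

/-!
# SM (S3570), the socle `PSU₄(3)` (helper82)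

`box43 : Box43`.
-/

set_option autoImplicit false

namespace Cfsg.Agent.SM.U

open Cfsg Cfsg.Geo Subgroup Cfsg.Agent.SM.Sp Cfsg.Agent.H940.Eng Cfsg.Agent.OrdDiv
open Cfsg.Agent.LieClassical.HermSiegel (act act_mul act_one act_inv_act act_act_inv act_smul)
open Cfsg.Agent.H674.SUBlock (pr pr_surjective pr_eq_one_iff)
open Cfsg.Agent.H918 (suHom SUg)

namespace B43

/-! ### small simple groups -/

section small

variable {K : Type} [Group K] [Finite K]

omit [Finite K] in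
theorem nab_of (hn : ¬ IsMulCommutative K) : ¬ ∀ a b : K, a * b = b * a := fun h => hn ⟨⟨h⟩⟩

theorem lie_a (hs : IsSimpleGroup K) (hn : ¬ IsMulCommutative K) (h : Nat.card K = 20160) : IsLieTypeChar 2 K := by
  by_contra h1
  rcases H219.HerSmall.simple_two BMx.engBase.table (BMx.engBase.known K hs) (nab_of hn) h1 h.dvd with ⟨⟨e⟩⟩ | ⟨⟨e⟩⟩
  · have h2 := card_subgroup_dvd_card (alternatingGroup (Fin 6))
    rw [← Nat.card_congr e.toEquiv, h, Nat.card_perm, Nat.card_eq_fintype_card, Fintype.card_fin] at h2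
    exact absurd h2 (by decide)
  · rw [Nat.card_congr e.toEquiv, TwoFusion.A7NoSwap.card_A7] at h
    exact absurd h (by norm_num)

attribute [local instance] H367.SpecSp43.fact3

theorem iso_b (hs : IsSimpleGroup K) (h : Nat.card K = 25920) : IsLieTypeChar 2 K ∧ Nonempty (K ≃* PSp 2 (ZMod 3)) := by
  have hn : ¬ ∀ a b : K, a * b = b * a := fun h1 => by
    let : CommGroup K := { (inferInstance : Group K) with mul_comm := h1 }
    have h2 : (Nat.card K).Prime := IsSimpleGroup.prime_card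
    rw [h] at h2
    exact absurd h2 (by norm_num)
  have key : ∀ (F : Type) [Field F] [Fintype F], Fintype.card F = 2 ^ 2 → (K ≃* PSU 4 F 2) →
      IsLieTypeChar 2 K ∧ Nonempty (K ≃* PSp 2 (ZMod 3)) := fun F _ _ hF e => by
    obtain ⟨f⟩ := S0822.result (F := F) (K := ZMod 3) hF (ZMod.card 3)
    exact ⟨.inr (.inr (.inl ⟨F, inferInstance, inferInstance, SpC.Bt.char_two hF, 4, 2, hF, by norm_num, by norm_num, ⟨e⟩⟩)),
      ⟨e.trans f⟩⟩
  obtain ⟨g, hg, hr⟩ := exists_real_filter BMx.engBase.table (BMx.engBase.known K hs) hn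
    (l := [(2, 6), (3, 4), (5, 1)]) (N := 25920) (by decide +kernel) h.dvd (fun n => Nat.beq n 25920) (by rw [h]; rfl)
  rw [show (cands [(2, 6), (3, 4), (5, 1)] 25920).filter (fun g => Nat.beq (ordN g) 25920) = [.psp 2 3, .psu 4 2] by
    decide +kernel] at hg
  simp only [List.mem_cons, List.not_mem_nil, or_false] at hg
  rcases hg with rfl | rfl
  swap
  · obtain ⟨F, _, _, hF, ⟨e⟩⟩ := hr
    exact key F hF e
  · obtain ⟨F, _, _, hF, ⟨e⟩⟩ := hr
    have : Fact (Nat.Prime 2) := ⟨Nat.prime_two⟩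
    let _ : Fintype (GaloisField 2 2) := Fintype.ofFinite _
    have hc : Fintype.card (GaloisField 2 2) = 2 ^ 2 := by
      rw [← Nat.card_eq_fintype_card, GaloisField.card 2 2 (by norm_num)]
    obtain ⟨f⟩ := S0822.result (F := GaloisField 2 2) (K := F) hc hF
    exact key _ hc (e.trans f.symm)

/-- two commuting elements of order three -/
theorem nine_dvd {a b : K} (ha : orderOf a = 3) (hb : orderOf b = 3) (h : a * b = b * a) (h1 : b ≠ a) (h2 : b ≠ a ^ 2)
    {H : Subgroup K} (haH : a ∈ H) (hbH : b ∈ H) : 3 ^ 2 ∣ Nat.card H := by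
  have hp : ∀ x : K, orderOf x = 3 → IsPGroup 3 (zpowers x) := fun x hx =>
    IsPGroup.of_card (n := 1) ((Nat.card_zpowers x).trans hx)
  have h3 : IsPGroup 3 ↥(zpowers b ⊔ zpowers a) := (hp b hb).to_sup_of_normal_right' (hp a ha)
    (zpowers_le.2 (centralizer_le_normalizer _ (by
      rw [BMx.LocAbs.cent_zp]
      exact mem_centralizer_singleton_iff.2 h.symm)))
  obtain ⟨k, hk⟩ := h3.exists_card_eq
  refine Dvd.dvd.trans ?_ (card_dvd_of_le (sup_le (zpowers_le.2 hbH) (zpowers_le.2 haH)))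
  rw [hk]
  refine pow_dvd_pow 3 (le_of_not_gt fun h4 => ?_)
  have h5 : zpowers a = zpowers b ⊔ zpowers a := eq_of_le_of_card_ge le_sup_right (by
    rw [hk, Nat.card_zpowers, ha]
    exact (Nat.pow_le_pow_right (by norm_num) (Nat.lt_succ_iff.1 h4)).trans (pow_one 3).le)
  have h6 : b ∈ zpowers a := h5 ▸ le_sup_left (a := zpowers b) (mem_zpowers b)
  classical
  rw [mem_zpowers_iff_mem_range_orderOf, ha, Finset.mem_image] at h6
  obtain ⟨i, hi, h7⟩ := h6
  rw [Finset.mem_range] at hi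
  interval_cases i
  · rw [← h7, pow_zero, orderOf_one] at hb
    exact absurd hb (by norm_num)
  · exact h1 (h7.symm.trans (pow_one a))
  · exact h2 h7.symm

open Matrix H367.SpecSp43 in
/-- the second transvection -/
def m2 : M3 := fromBlocks 1 !![0, 0; 0, 1] 0 1

open Matrix H367.SpecSp43 in
/-- the involution -/
def m0 : M3 := fromBlocks !![1, 0; 0, 2] 0 0 !![1, 0; 0, 2]

/-- the second transvection -/
def g2 : Matrix.symplecticGroup (Fin 2) (ZMod 3) := ⟨m2, by rw [SymplecticGroup.mem_iff]; decide +kernel⟩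

/-- the involution -/
def g0 : Matrix.symplecticGroup (Fin 2) (ZMod 3) := ⟨m0, by rw [SymplecticGroup.mem_iff]; decide +kernel⟩

open H367.SpecSp43 in
theorem chkm : m0 ^ 2 = 1 ∧ m1 ^ 3 = 1 ∧ m2 ^ 3 = 1 ∧ m0 * m5 ≠ m5 * m0 ∧ m1 * m5 ≠ m5 * m1 ∧ m2 * m5 ≠ m5 * m2 ∧
    m1 * m0 = m0 * m1 ∧ m2 * m0 = m0 * m2 ∧ m1 * m2 = m2 * m1 ∧ m1 * m1 * m2 * m5 ≠ m5 * (m1 * m1 * m2) ∧
    m1 * m2 * m5 ≠ m5 * (m1 * m2) := by decide +kernel

open H367.SpecSp43 in
theorem nine_psp : ∃ z : PSp 2 (ZMod 3), orderOf z = 2 ∧ 3 ^ 2 ∣ Nat.card (centralizer ({z} : Set (PSp 2 (ZMod 3)))) := by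
  obtain ⟨c0, c1, c2, c3, c4, c5, c6, c7, c8, c9, c10⟩ := chkm
  let π : Matrix.symplecticGroup (Fin 2) (ZMod 3) →* PSp 2 (ZMod 3) := QuotientGroup.mk' _
  have ho : ∀ (g : Matrix.symplecticGroup (Fin 2) (ZMod 3)) (p : ℕ), p.Prime → g.1 ^ p = 1 → g.1 * m5 ≠ m5 * g.1 →
      orderOf (π g) = p := fun g p hp h1 h2 => by
    have := Fact.mk hp
    refine orderOf_eq_prime ?_ fun h3 => not_central (h := g5) h2 ((QuotientGroup.eq_one_iff g).1 h3)
    rw [← map_pow, show g ^ p = 1 from Subtype.ext ((coe_pow' g p).trans h1), map_one]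
  have hc : ∀ g g' : Matrix.symplecticGroup (Fin 2) (ZMod 3), g.1 * g'.1 = g'.1 * g.1 → π g * π g' = π g' * π g :=
    fun g g' h => by rw [← map_mul, ← map_mul, show g * g' = g' * g from Subtype.ext h]
  have h1 := ho g1 3 Nat.prime_three c1 c4
  have h3 : π g1 ^ 3 = 1 := orderOf_dvd_iff_pow_eq_one.1 h1.dvd
  refine ⟨π g0, ho g0 2 Nat.prime_two c0 c3, nine_dvd h1 (ho g2 3 Nat.prime_three c2 c5) (hc g1 g2 c8) (fun h => ?_)
    (fun h => ?_) (mem_centralizer_singleton_iff.2 (hc g1 g0 c6)) (mem_centralizer_singleton_iff.2 (hc g2 g0 c7))⟩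
  · have h4 : π (g1 * g1 * g2) = 1 := by rw [map_mul, map_mul, h, ← pow_two, ← pow_succ, h3]
    refine not_central (g := g1 * g1 * g2) (h := g5) ?_ ((QuotientGroup.eq_one_iff _).1 h4)
    rw [Submonoid.coe_mul, Submonoid.coe_mul]
    exact c9
  · have h4 : π (g1 * g2) = 1 := by rw [map_mul, h, ← pow_succ', h3]
    refine not_central (g := g1 * g2) (h := g5) ?_ ((QuotientGroup.eq_one_iff _).1 h4)
    rw [Submonoid.coe_mul]
    exact c10

theorem six_alt : ∃ x z : alternatingGroup (Fin 7), orderOf x = 3 ∧ orderOf z = 2 ∧ x * z = z * x := by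
  have : Fact (Nat.Prime 2) := ⟨Nat.prime_two⟩
  refine ⟨⟨Equiv.swap 0 1 * Equiv.swap 1 2, by simp [Equiv.Perm.mem_alternatingGroup]⟩,
    ⟨Equiv.swap 3 4 * Equiv.swap 5 6, by simp [Equiv.Perm.mem_alternatingGroup]⟩, orderOf_eq_prime ?_ ?_,
    orderOf_eq_prime ?_ ?_, ?_⟩ <;> decide +kernel

end small

/-- the kill of the pair of orders `25920`, `2520` -/
theorem Dt.k6' {S : Type} [Group S] [Finite S] (d : Dt S) {X Y : Subgroup S} (h : Ex78.Pd X Y) (hs : IsSimpleGroup X)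
    (hX : Nat.card X = 25920) (hY : Nat.card Y = 2520) : False := by
  have := d.s2520 hY
  obtain ⟨e⟩ := S0984.result hY
  obtain ⟨-, ⟨f⟩⟩ := iso_b hs hX
  obtain ⟨x, z, h1, h2, h3⟩ := six_alt
  obtain ⟨z', h4, h5⟩ := nine_psp
  refine d.k6 h (by rw [hX, hY]) (e.symm x).2 (z := e.symm z) (z' := f.symm z') (by rw [orderOf_coe, e.symm.orderOf_eq, h1])
    (by rw [orderOf_coe, e.symm.orderOf_eq, h2]) (by rw [← coe_mul, ← coe_mul, ← map_mul, ← map_mul, h3])
    (by rw [orderOf_coe, f.symm.orderOf_eq, h4]) ?_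
  rw [← BMx.LocAbs.card_cent_map f.symm, ← card_map_of_injective X.subtype_injective] at h5
  refine h5.trans (card_dvd_of_le ?_)
  rintro _ ⟨c, hc, rfl⟩
  exact ⟨mem_centralizer_singleton_iff.2 (congrArg Subtype.val (mem_centralizer_singleton_iff.1 hc)), c.2⟩

/-- the kill of `|A| = 160` -/
theorem k160 {S : Type} [Group S] [Finite S] {T B : Subgroup S} (f : Fa T B) (hl : IsLieTypeChar 2 T)
    (h : Nat.card T = 160 * B.index) (h2 : 2 ∣ B.index) : False := by
  have : Fact (Nat.Prime 2) := ⟨Nat.prime_two⟩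
  have h1 : Nat.card ↥(T ⊓ B) = 160 :=
    Nat.eq_of_mul_eq_mul_right (Nat.pos_of_ne_zero index_ne_zero_of_finite) (f.pd.card_left.trans h)
  refine SpC.bt inf_le_left f.lcX f.simple f.nab hl (fun h0 => ?_) (by rwa [inf_relIndex_left, f.pd.relIndex])
  have h3 := SpC.Bt.small h0 ⊤ inferInstance (r := 5) (by rw [card_top, h1]; norm_num) (by norm_num)
  rw [card_top, h1] at h3
  exact absurd h3 (by decide)

/-! ### the sieve -/

/-- the test -/
def sv (L : List (ℕ × ℕ)) : Bool :=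
  oS.all fun t => t == 3265920 || bad lS 3265920 [] 30 [l5, l7] oS t || (t % 7 == 0 && 20160 % t != 0) ||
    (divsT lS).all fun n => t % n != 0 || Nat.blt n 112 || t == n || L.contains (t, n) ||
      bad lS 3265920 [] 30 [l5, l7] oS (3265920 / n) || bad lS 3265920 [] 30 [l5, l7] oS (t / n) ||
      ((3265920 / n) % 7 == 0 && 20160 % (3265920 / n) != 0) ||
      ((3265920 / n) % 81 == 0 && (3265920 / n) % 7 != 0 && n % 3 != 1 && n != 126)

theorem svS : sv [(2520, 126), (2520, 280), (20160, 126), (20160, 280), (20160, 1120), (25920, 162), (25920, 1296)] = true := by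
  decide +kernel

theorem sv7 : check lS 3265920 [(2, 4), (3, 4)] [162, 1296] [] 30 [l5, l7] oS = true := by decide +kernel

/-- **the abstract form** -/
theorem Dt.main {S : Type} [Group S] [Finite S] (d : Dt S) {T B : Subgroup S} (f : Fa T B)
    (hT : 7 ∣ Nat.card T → Nat.card T ∣ 20160) (hB : 7 ∣ Nat.card B → Nat.card B ∣ 20160) :
    Nat.card T = 20160 ∧ B.index = 280 := by
  have f3 : Fact (Nat.Prime 3) := ⟨Nat.prime_three⟩
  have hn := B.card_mul_index
  have hp : 0 < B.index := Nat.pos_of_ne_zero index_ne_zero_of_finite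
  have hc : ∃ a b : S, a * b ≠ b * a := by
    by_contra h1
    exact d.nab fun a b => by_contra fun h2 => h1 ⟨a, b, h2⟩
  rw [d.card] at hn
  have h1 : 3265920 / B.index = Nat.card B := by rw [← hn, Nat.mul_div_cancel _ hp]
  have h2 : Nat.card T / B.index = Nat.card ↥(T ⊓ B) := by rw [← f.pd.card_left, Nat.mul_div_cancel _ hp]
  have h3 : pCore 3 B ≠ ⊥ → ∃ U : Subgroup S, IsPGroup 3 U ∧ ¬ 3 ∣ U.index ∧ normalizer (U : Set S) ≤ B :=
    full f.lcY d.simple hc d.lie
  have h4 : 3 ^ 4 ∣ Nat.card B → ¬ 7 ∣ Nat.card B → B.index % 3 = 1 ∨ (B.index = 126 ∧ IsSimpleGroup B) := fun h4 h5 => by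
    by_cases h6 : pCore 3 B = ⊥
    · obtain ⟨h7, h8⟩ := d.str f.neY h4 h5 h6
      rw [h7] at hn
      exact .inr ⟨by omega, h8⟩
    · obtain ⟨U, h7, h8, h9⟩ := h3 h6
      exact .inl (index_mod h7 h8 h9)
  have h5 := svS
  rw [sv, List.all_eq_true] at h5
  have h6 := h5 _ (ordsS T f.simple (nab_of f.nab) (d.card ▸ card_subgroup_dvd_card T))
  have h7 : Nat.card T ≠ 3265920 := fun h7 => f.neX (eq_top_of_card_eq _ (h7.trans d.card.symm))
  have h8 : ∀ m : ℕ, (7 ∣ m → m ∣ 20160) → (m % 7 == 0 && 20160 % m != 0) = false := fun m hm => by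
    by_cases h9 : 7 ∣ m
    · simp [Nat.mod_eq_zero_of_dvd (hm h9)]
    · simp [mt Nat.dvd_of_mod_eq_zero h9]
  rw [d.nbad f.neX, h8 _ hT, beq_false_of_ne h7] at h6
  simp only [Bool.or_false, Bool.false_or, List.all_eq_true] at h6
  have h9 := h6 B.index (mem_divsT (by decide) (Dvd.intro_left _ hn))
  have h10 : Nat.card T ≠ B.index := fun h10 => f.nb (card_eq_one.1 (by rw [← h2, h10, Nat.div_self hp]))
  have h11 : (Nat.card B % 81 == 0 && Nat.card B % 7 != 0 && B.index % 3 != 1 && B.index != 126) = false := by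
    by_cases h11 : 3 ^ 4 ∣ Nat.card B
    · by_cases h12 : 7 ∣ Nat.card B
      · simp [Nat.mod_eq_zero_of_dvd h12]
      · rcases h4 h11 h12 with h13 | ⟨h13, -⟩ <;> simp [h13]
    · have h12 : Nat.card B % 81 ≠ 0 := mt Nat.dvd_of_mod_eq_zero h11
      simp [h12]
  rw [h1, h2, d.nbad f.neY, d.nbad fun h12 : T ⊓ B = ⊤ => f.neX (top_le_iff.1 (h12.ge.trans inf_le_left)), h8 _ hB, h11,
    beq_false_of_ne h10, Nat.mod_eq_zero_of_dvd f.pd.index_dvd,
    show Nat.blt B.index 112 = false from Bool.eq_false_iff.2 fun h12 => (d.idx B f.neY).not_gt (Nat.blt_eq ▸ h12)] at h9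
  simp only [bne_self_eq_false, Bool.or_false, Bool.false_or, List.contains_iff_mem, List.mem_cons, Prod.mk.injEq,
    List.not_mem_nil, or_false] at h9
  rcases h9 with ⟨e1, e2⟩ | ⟨e1, e2⟩ | ⟨e1, e2⟩ | ⟨e1, e2⟩ | ⟨e1, e2⟩ | ⟨e1, e2⟩ | ⟨e1, e2⟩
  · rw [e2] at h1
    exact (d.k6' f.pd.symm ((h4 (by rw [← h1]; norm_num) (by rw [← h1]; norm_num)).resolve_left (by omega)).2 h1.symm e1).elim
  · rw [e1, e2] at h2
    exact (f.nab ((boxLc S T (T ⊓ B) inf_le_left f.lcX 3 2 1 Nat.prime_three (by norm_num) (by norm_num) h2.symm).2.2.1 rfl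
      le_rfl f.simple)).elim
  · exact (k160 f (lie_a f.simple f.nab e1) (by rw [e1, e2]) (by rw [e2]; norm_num)).elim
  · exact ⟨e1, e2⟩
  · rw [e2] at h1
    obtain ⟨U, h12, h13, h14⟩ := h3 fun h12 => by
      have h13 := (d.str f.neY (by rw [← h1]; norm_num) (by rw [← h1]; norm_num) h12).1
      omega
    exact (d.no1120 f.lcY h1.symm h12 h13 h14).elim
  · exact (k160 f (iso_b f.simple e1).1 (by rw [e1, e2]) (by rw [e2]; norm_num)).elim
  · rw [e2] at h1
    exact (d.k6' f.pd f.simple e1 h1.symm).elim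

/-! ### the group `PSU₄(3)` -/

section psu

open Cfsg.Agent.MK.U43.GT Cfsg.Agent.TwoF.XL.U43

variable {F : Type} [Field F] [Fintype F]

theorem dt (hF : Fintype.card F = 3 ^ 2) : Dt (PSU 4 F 3) := by
  obtain ⟨e⟩ := iso hF
  have ho : ∀ g : PSU 4 F 3, orderOf g = E.o.getD (tab.cl (e g)) 0 := fun g => by
    obtain ⟨c, hc⟩ := isConj_iff.1 (tab.isConj_cl (e g))
    rw [← e.orderOf_eq, ← ord_rep (tab.cl (e g)).2]
    exact (congrArg orderOf hc).symm.trans ((MulAut.conj c).orderOf_eq _)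
  have hc : ∀ g : PSU 4 F 3, Nat.card (centralizer ({g} : Set (PSU 4 F 3))) = E.c.getD (tab.cl (e g)) 0 := fun g => by
    rw [← BMx.LocAbs.card_cent_map e, ← BMx.LocAbs.card_cent_conj (tab.isConj_cl (e g)), tab.card, tab_c]
  have hj : ∀ a b : PSU 4 F 3, tab.cl (e a) = tab.cl (e b) → IsConj a b := fun a b h => by
    have h1 := e.symm.toMonoidHom.map_isConj ((tab.isConj_cl (e a)).symm.trans (h ▸ tab.isConj_cl (e b)))
    simpa using h1
  refine ⟨LieClassical.HermSimple.isSimpleGroup_of_perfect hF (by norm_num)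
    (LieClassical.HermPerfect.commutator_SU_eq_top hF (by norm_num) (by norm_num)), (Nat.card_congr e.toEquiv).trans card_M,
    fun g => ?_, fun a b h1 h2 => hj a b ?_, fun a b h1 h2 => hj a b ?_, ⟨e.symm (rep 14), ?_⟩,
    .inr (.inr (.inl ⟨F, inferInstance, inferInstance, charP_of_card_eq_prime_pow hF, 4, 3, hF, by norm_num, by norm_num,
      ⟨MulEquiv.refl _⟩⟩)), (S2150.result 3 hF (by norm_num)).1⟩
  · rw [ho, hc]
    exact (by decide : ∀ i : Fin 20, (E.o.getD i 0, E.c.getD i 0) ∈ cl) _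
  · have h3 : ∀ i : Fin 20, E.o.getD i 0 = 2 → i = 1 := by decide
    rw [h3 _ ((ho a).symm.trans h1), h3 _ ((ho b).symm.trans h2)]
  · have h3 : ∀ i : Fin 20, E.c.getD i 0 = 5832 → i = 2 := by decide
    rw [h3 _ ((hc a).symm.trans h1), h3 _ ((hc b).symm.trans h2)]
  · rw [e.symm.orderOf_eq, ord_rep (by norm_num)]
    rfl

end psu

variable {F : Type} [Field F] [Fintype F]

/-- **subgroups of order divisible by seven** -/
theorem seven (hF : Fintype.card F = 3 ^ 2) {X : Subgroup (PSU 4 F 3)} (hX : X ≠ ⊤) (h7 : 7 ∣ Nat.card X)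
    (h : ∀ w, hermForm 4 F 3 w w ≠ 0 → ¬ X ≤ Pt 3 w) : Nat.card X ∣ 20160 := by
  have d := dt hF
  have hfin : Finite (PSU 4 F 3) := Nat.finite_of_card_ne_zero (by rw [d.card]; norm_num)
  have hA : X.comap (pr : SU 4 F 3 →* _) ≠ ⊤ := fun h1 => hX (comap_injective pr_surjective (h1.trans (comap_top _).symm))
  have hl : H89.Reg.Pm 3 1 3 7 := ⟨by norm_num, fun j => by
    have h1 : orderOf ((3 : ℕ) : ZMod 7) = 6 := by
      have : Fact (Nat.Prime 7) := ⟨by norm_num⟩
      exact orderOf_eq_of_pow_and_pow_div_prime (by norm_num) (by decide) fun p hp hd => by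
        have h2 := Nat.le_of_dvd (by norm_num) hd
        interval_cases p <;> first | decide | exact absurd hp (by norm_num)
    rw [show 2 * 3 * 1 = 6 from rfl, ← h1, orderOf_dvd_iff_pow_eq_one, ← Nat.cast_pow, ← Nat.cast_one (R := ZMod 7),
      ZMod.natCast_eq_natCast_iff, ← Nat.modEq_iff_dvd' (Nat.one_le_pow _ _ (by norm_num))]
    exact ⟨Nat.ModEq.symm, Nat.ModEq.symm⟩⟩
  rcases H533.Reg.even_gen (p := 3) (f := 1) (n := 4) (m := 3) hF Nat.prime_three le_rfl le_rfl (by decide) rfl hl hA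
    (by rw [H89.Reg.card_comap_pr]; exact h7.mul_left _) with ⟨w, hw, h1⟩ | ⟨H, hH, h1, h2⟩
  · refine absurd (fun x hx => ?_) (h w hw)
    obtain ⟨g, rfl⟩ := pr_surjective x
    have key : ∀ g ∈ X.comap (pr : SU 4 F 3 →* _), ∀ v ∈ F ∙ w, act g v ∈ F ∙ w := fun g hg v hv => by
      obtain ⟨a, rfl⟩ := Submodule.mem_span_singleton.1 hv
      obtain ⟨c, hc⟩ := h1 g hg
      rw [act_smul, hc]
      exact Submodule.smul_mem _ _ (Submodule.smul_mem _ _ (Submodule.mem_span_singleton_self w))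
    refine ⟨g, fun v => ⟨key g hx v, fun hv => ?_⟩, rfl⟩
    have h2 := key g⁻¹ (inv_mem hx) _ hv
    rwa [act_inv_act] at h2
  · obtain ⟨Y, hY⟩ : ∃ Y : Subgroup (PSU 4 F 3), Y = (H.comap (suHom 4 F 3)).map pr := ⟨_, rfl⟩
    have h3 : X.comap (pr : SU 4 F 3 →* _) ≤ H.comap (suHom 4 F 3) := map_le_iff_le_comap.1 h1
    have h4 : (Y.comap pr).map (suHom 4 F 3) = H := by
      rw [hY, comap_map_eq_self ((ker_le_comap _ X).trans h3), map_comap_eq_self]
      rw [H918.range_suHom]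
      exact hH.1.le
    have h5 : X ≤ Y := by
      rw [hY, ← map_comap_eq_self_of_surjective pr_surjective X]
      exact map_mono h3
    have h6 : Y ≠ ⊤ := fun h6 => hH.1.ne (by rw [← h4, h6, comap_top, H918.map_suHom_top]; rfl)
    obtain ⟨P, hP, -, h8⟩ := S5785.result 3 hF H hH h2
    obtain ⟨Z, -, -, -, -, ⟨e⟩⟩ := H264.FKS.exists_res_psu hF (by norm_num) (M := Y) (P := P) (h4.symm ▸ hP :)
    have h9 : 2520 ∣ Nat.card Y := by
      refine Dvd.dvd.trans ?_ (card_subgroup_dvd_card Z)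
      rw [Nat.card_congr e.toEquiv]
      rcases h8 with ⟨⟨e'⟩, -⟩ | ⟨⟨K, _, _, hK, ⟨e'⟩⟩, -⟩ | ⟨-, h9⟩
      · rw [Nat.card_congr e'.toEquiv, TwoFusion.A7NoSwap.card_A7]
      · rw [Nat.card_congr e'.toEquiv, CTwoTab.card_PSL_three K hK]
        norm_num
      · exact absurd h9 (by norm_num)
    have := d.simple
    have h10 := (top_of_check (by decide +kernel) d.card ordsS (loc := [l5, l7]) (fun ld hld => by
      simp only [List.mem_cons, List.not_mem_nil, or_false] at hld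
      rcases hld with rfl | rfl
      exacts [d.loc5, d.loc7]) (by decide) (L := 2520) (by decide +kernel) (fun p hp => absurd hp List.not_mem_nil) h9
      sv7).resolve_left h6
    have h11 := Y.card_mul_index
    refine (card_dvd_of_le h5).trans ?_
    simp only [List.mem_cons, List.not_mem_nil, or_false] at h10
    rw [d.card] at h11
    rcases h10 with h10 | h10 <;> rw [h10] at h11
    · rw [show Nat.card Y = 20160 by omega]
    · rw [show Nat.card Y = 2520 by omega]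
      norm_num

end B43

/-- **`PSU₄(3)`** -/
theorem box43 : Box43 := fun F _ _ hF T B f h =>
  have d := B43.dt hF
  have : Finite (PSU 4 F 3) := Nat.finite_of_card_ne_zero (by rw [d.card]; norm_num)
  d.main f.toFa (fun h7 => B43.seven hF f.neX h7 fun w hw => (h w hw).1)
    fun h7 => B43.seven hF f.neY h7 fun w hw => (h w hw).2

end Cfsg.Agent.SM.U
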