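import Cfsg.Agent.SM.U.Bas

/-!
# SM (S3570), `PSU_12(2)` with `T = PSU_11(2)`: commuting elements of order three are diagonal (helper21)

* `basis` : an orthonormal basis of common eigenvectors;
* `torus` : a group of order at least `3 ^ m` in `SU_{m+1}(2)` centralises them.
-/

set_option autoImplicit false
set_option linter.unusedSectionVars false

namespace Cfsg.Agent.SM.U.B12B

open Cfsg Subgroup Module Matrix
open Cfsg.Agent.LieClassical.HermBasic Cfsg.Agent.ClassicalGeometry.HermOrtho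
open Cfsg.Agent.LieClassical.HermSiegel
open Cfsg.Agent.GpUn (ND)
open Cfsg.Agent.H89.Reg (nd_line ne_zero_of_ns)
open Cfsg.Agent.ClassicalGeometry.PSUAutCount (gm guConj act_guConj gm_inv_mulVec)
open Cfsg.Agent.LieClassical.SUBasic (suDiag)

variable {F : Type} [Field F] [Fintype F] {n : ℕ} {S : Set (SU n F 2)}

/-- `W` is invariant -/
def Iv (S : Set (SU n F 2)) (W : Submodule F (Fin n → F)) : Prop := ∀ g ∈ S, ∀ v ∈ W, act g v ∈ W

/-- `v` is a common eigenvector -/
def Eg (S : Set (SU n F 2)) (v : Fin n → F) : Prop := ∀ g ∈ S, ∃ c : F, act g v = c • v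

/-- commuting elements of order dividing three -/
structure Cm (S : Set (SU n F 2)) : Prop where
  comm : ∀ g ∈ S, ∀ h ∈ S, g * h = h * g
  cube : ∀ g ∈ S, g * g * g = 1

/-- an eigenspace -/
def eig (g : SU n F 2) (c : F) : Submodule F (Fin n → F) where
  carrier := {v | act g v = c • v}
  add_mem' := fun {x y} hx hy => by
    change act g (x + y) = c • (x + y)
    rw [act_add, show act g x = c • x from hx, show act g y = c • y from hy, smul_add]
  zero_mem' := (act_zero g).trans (smul_zero c).symm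
  smul_mem' := fun d x hx => by
    change act g (d • x) = c • (d • x)
    rw [act_smul, show act g x = c • x from hx, smul_comm]

/-- the projection to an eigenspace -/
def pj (g : SU n F 2) (c : F) (v : Fin n → F) : Fin n → F := v + (c * c) • act g v + c • act g (act g v)

theorem pj_mem {g : SU n F 2} (hg : g * g * g = 1) {c : F} (hc : c * c * c = 1) (v : Fin n → F) : pj g c v ∈ eig g c := by
  change act g (pj g c v) = c • pj g c v
  have h1 : act g (act g (act g v)) = v := by rw [← act_mul, ← act_mul, hg, act_one]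
  rw [pj, act_add, act_add, act_smul, act_smul, h1, smul_add, smul_add, smul_smul, smul_smul, ← mul_assoc, hc, one_smul]
  abel

theorem two_eq (hF : Fintype.card F = 2 ^ 2) : (2 : F) = 0 := by
  have : CharP F 2 := charP_of_card_eq_prime_pow hF
  exact CharTwo.two_eq_zero

theorem herm_pj (hF : Fintype.card F = 2 ^ 2) {g : SU n F 2} {c : F} (hc : c * c * c = 1) {u : Fin n → F}
    (hu : act g u = c • u) (v : Fin n → F) : hermForm n F 2 u (pj g c v) = hermForm n F 2 u v := by
  have h1 : ∀ x, c * hermForm n F 2 u (act g x) = hermForm n F 2 u x := fun x => by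
    rw [← herm_smul_left, ← hu, herm_act]
  rw [pj, herm_add_right hF, herm_add_right hF, herm_smul_right, herm_smul_right]
  linear_combination (c * hermForm n F 2 u (act g v)) * hc + 2 * h1 v + c * h1 (act g v) +
    hermForm n F 2 u v * two_eq hF

/-- a nonsingular common eigenvector -/
theorem exists_eig (hF : Fintype.card F = 2 ^ 2) (h : Cm S) : ∀ (k : ℕ) (W : Submodule F (Fin n → F)), finrank F W = k →
    ND 2 W → W ≠ ⊥ → Iv S W → ∃ v ∈ W, hermForm n F 2 v v = 1 ∧ Eg S v := by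
  intro k
  induction k using Nat.strong_induction_on with
  | _ k ih =>
    intro W hk hW h0 hI
    by_cases hs : ∀ g ∈ S, ∃ c : F, W ≤ eig g c
    · obtain ⟨v, hv, hvv⟩ := exists_norm_one_vector hF W hW h0
      exact ⟨v, hv, hvv, fun g hg => (hs g hg).imp fun c hc => hc hv⟩
    push Not at hs
    obtain ⟨g, hg, hs⟩ := hs
    have hm : ∀ {c : F}, c * c * c = 1 → ∀ v ∈ W, pj g c v ∈ W ⊓ eig g c := fun hc v hv =>
      ⟨W.add_mem (W.add_mem hv (W.smul_mem _ (hI g hg v hv))) (W.smul_mem _ (hI g hg _ (hI g hg v hv))),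
        pj_mem (h.cube g hg) hc v⟩
    obtain ⟨c, hc, h1⟩ : ∃ c : F, c * c * c = 1 ∧ W ⊓ eig g c ≠ ⊥ := by
      by_contra h1
      push Not at h1
      obtain ⟨b, hb, hb1⟩ := exists_b hF
      have h2 : b * b + b + 1 = 0 := by
        refine (mul_eq_zero.1 (show (b - 1) * (b * b + b + 1) = 0 by linear_combination hb)).resolve_left fun h2 => hb1 ?_
        rw [sub_eq_zero.1 h2, one_mul]
      have h3 : ∀ {c : F}, c * c * c = 1 → ∀ v ∈ W, pj g c v = 0 := fun hc v hv =>
        (Submodule.mem_bot F).1 (h1 _ hc ▸ hm hc v hv)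
      refine h0 ((Submodule.eq_bot_iff W).2 fun v hv => funext fun i => ?_)
      have e1 := congrFun (h3 (c := 1) (by ring) v hv) i
      have e2 := congrFun (h3 (c := b) (by linear_combination hb) v hv) i
      have e3 := congrFun (h3 (c := b * b) (by linear_combination (b ^ 3 + 1) * hb) v hv) i
      simp only [pj, Pi.add_apply, Pi.smul_apply, smul_eq_mul, Pi.zero_apply] at e1 e2 e3 ⊢
      linear_combination e1 + e2 + e3 - v i * two_eq hF - (act g v i + act g (act g v) i) * h2 - b * act g v i * hb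
    obtain ⟨v, hv, h2⟩ := ih _ (hk ▸ Submodule.finrank_lt_finrank_of_lt
      (lt_of_le_of_ne inf_le_left fun h2 => hs c (inf_eq_left.1 h2))) (W ⊓ eig g c) rfl
      (fun u hu h2 => hW u hu.1 fun v hv => (herm_pj hF hc hu.2 v).symm.trans (h2 _ (hm hc v hv))) h1
      (fun x hx v hv => ⟨hI x hx v hv.1, show act g (act x v) = c • act x v by
        rw [← act_mul, h.comm g hg x hx, act_mul, show act g v = c • v from hv.2, act_smul]⟩)
    exact ⟨v, hv.1, h2⟩

/-- an orthonormal basis of common eigenvectors -/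
def Bs (S : Set (SU n F 2)) (W : Submodule F (Fin n → F)) {k : ℕ} (b : Fin k → Fin n → F) : Prop :=
  (∀ i, b i ∈ W) ∧ (∀ i j, hermForm n F 2 (b i) (b j) = if i = j then 1 else 0) ∧ ∀ i, Eg S (b i)

theorem basis_of (hF : Fintype.card F = 2 ^ 2) {k : ℕ} (ih : ∀ W : Submodule F (Fin n → F), finrank F W = k → ND 2 W →
    Iv S W → ∃ b : Fin k → Fin n → F, Bs S W b) {W : Submodule F (Fin n → F)} (hk : finrank F W = k + 1) (hW : ND 2 W)
    (hI : Iv S W) {v : Fin n → F} (hv : v ∈ W) (hvv : hermForm n F 2 v v = 1) (he : Eg S v) :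
    ∃ b : Fin (k + 1) → Fin n → F, b 0 = v ∧ Bs S W b := by
  have h0 : hermForm n F 2 v v ≠ 0 := by rw [hvv]; exact one_ne_zero
  have hle : (F ∙ v) ≤ W := (Submodule.span_singleton_le_iff_mem v W).2 hv
  have h1 := GpUn.finrank_dec hF (nd_line h0) hle
  rw [finrank_span_singleton (ne_zero_of_ns h0), hk] at h1
  obtain ⟨b, hb, ho, hE⟩ := ih _ (by omega) (GpUn.nd_dec hF hW (nd_line h0) hle) fun g hg u hu =>
    ⟨hI g hg u hu.1, fun x hx => by
      obtain ⟨c, hc⟩ := he g hg
      have h2 : act g⁻¹ x ∈ F ∙ v := ((Sb 2 (F ∙ v)).inv_mem (mem_Sb_span.2 ⟨c, hc⟩) x).1 hx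
      rw [herm_act_left, hu.2 _ h2]⟩
  have h2 : ∀ i, hermForm n F 2 (b i) v = 0 := fun i => (hb i).2 v (Submodule.mem_span_singleton_self v)
  refine ⟨Fin.cons v b, rfl, fun i => ?_, fun i j => ?_, fun i => ?_⟩
  · exact Fin.cases hv (fun i => (hb i).1) i
  · refine Fin.cases ?_ (fun i => ?_) i <;> refine Fin.cases ?_ (fun j => ?_) j
    · rw [Fin.cons_zero, hvv, if_pos rfl]
    · rw [Fin.cons_zero, Fin.cons_succ, if_neg (Fin.succ_ne_zero j).symm]
      exact herm_eq_zero_swap hF (h2 j)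
    · rw [Fin.cons_zero, Fin.cons_succ, if_neg (Fin.succ_ne_zero i), h2]
    · rw [Fin.cons_succ, Fin.cons_succ, ho]
      simp only [Fin.succ_inj]
  · exact Fin.cases he hE i

theorem basis (hF : Fintype.card F = 2 ^ 2) (h : Cm S) : ∀ (k : ℕ) (W : Submodule F (Fin n → F)), finrank F W = k →
    ND 2 W → Iv S W → ∃ b : Fin k → Fin n → F, Bs S W b := by
  intro k
  induction k with
  | zero => exact fun W _ _ _ => ⟨fun i => i.elim0, fun i => i.elim0, fun i => i.elim0, fun i => i.elim0⟩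
  | succ k ih =>
    intro W hk hW hI
    obtain ⟨v, hv, hvv, he⟩ := exists_eig hF h _ W hk hW (by
      rintro rfl
      rw [finrank_bot] at hk
      omega) hI
    obtain ⟨b, -, hb⟩ := basis_of hF ih hk hW hI hv hvv he
    exact ⟨b, hb⟩

theorem ext_on {b : Fin n → Fin n → F} (ho : ∀ i j, hermForm n F 2 (b i) (b j) = if i = j then 1 else 0)
    {g h : SU n F 2} (H : ∀ i, act g (b i) = act h (b i)) : g = h := by
  refine ext_act fun v => ?_
  rw [eq_sum_of_orthonormal ⊤ (by simp) (fun _ => trivial) ho (Submodule.mem_top (x := v)), act_sum, act_sum]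
  exact Finset.sum_congr rfl fun i _ => by rw [act_smul, act_smul, H]

theorem exists_diag (hF : Fintype.card F = 2 ^ 2) {b : Fin n → Fin n → F}
    (ho : ∀ i j, hermForm n F 2 (b i) (b j) = if i = j then 1 else 0) (a : Fin n → F) (hd : ∏ i, a i = 1)
    (ha : ∀ i, a i ^ (2 + 1) = 1) : ∃ g : SU n F 2, ∀ i, act g (b i) = a i • b i := by
  obtain ⟨A, hA, h⟩ := exists_GU_of_orthonormal hF ho
  have h1 : ∀ i, gm (⟨A, hA⟩ : GU n F 2) *ᵥ Pi.single i 1 = b i := fun i => (h _).trans (by simp [Pi.single_apply])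
  refine ⟨guConj ⟨A, hA⟩ (suDiag 2 a hd ha), fun i => ?_⟩
  rw [act_guConj, ← h1, gm_inv_mulVec, ← mulVec_smul]
  congr 1
  funext j
  change (diagonal a *ᵥ Pi.single i 1) j = _
  rw [mulVec_diagonal]
  by_cases hj : j = i <;> simp [hj]

/-- **the torus** -/
theorem torus (hF : Fintype.card F = 2 ^ 2) {m : ℕ} {S : Set (SU (m + 1) F 2)} (h : Cm S) {w : Fin (m + 1) → F}
    (hw : hermForm (m + 1) F 2 w w ≠ 0) (hS : Eg S w) : ∃ D : Subgroup (SU (m + 1) F 2), IsPGroup 3 D ∧
      3 ^ m ≤ Nat.card D ∧ D ≤ Sb 2 (F ∙ w) ∧ ∀ d ∈ D, ∀ g ∈ S, d * g = g * d := by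
  obtain ⟨v, hv, hvv⟩ := exists_norm_one_vector hF (F ∙ w) (nd_line hw)
    (by rw [Ne, Submodule.span_singleton_eq_bot]; exact ne_zero_of_ns hw)
  obtain ⟨c, rfl⟩ := Submodule.mem_span_singleton.1 hv
  have hc : c ≠ 0 := by
    rintro rfl
    rw [zero_smul, herm_zero_left] at hvv
    exact zero_ne_one hvv
  obtain ⟨b, hb0, -, ho, hE⟩ := basis_of hF (basis hF h m) (W := ⊤) (by simp) (GpUn.nd_top hF) (fun _ _ _ _ => trivial)
    trivial hvv fun g hg => (hS g hg).imp fun d hd => by rw [act_smul, hd, smul_comm]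
  have hb : ∀ i, hermForm (m + 1) F 2 (b i) (b i) ≠ 0 := fun i => by rw [ho, if_pos rfl]; exact one_ne_zero
  have hm : ∀ {g : SU (m + 1) F 2}, g ∈ ⨅ i, Sb 2 (F ∙ b i) ↔ ∀ i, ∃ c : F, act g (b i) = c • b i := by
    simp only [mem_iInf, mem_Sb_span, implies_true]
  refine ⟨⨅ i, Sb 2 (F ∙ b i), fun g => ⟨1, Subtype.ext (ext_on ho fun i => ?_)⟩, ?_, ?_, fun d hd g hg =>
    ext_on ho fun i => ?_⟩
  · obtain ⟨d, hd⟩ := hm.1 g.2 i
    have h1 := norm_eig (hb i) hd
    change act ((g : SU (m + 1) F 2) ^ 3) (b i) = act 1 (b i)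
    rw [pow_three, act_mul, act_mul, hd, act_smul, hd, act_smul, act_smul, hd, smul_smul, smul_smul, act_one,
      show d * d * d = 1 by linear_combination h1, one_smul]
  · have h1 : ∀ d : Fin m → {x : F // x * x ^ 2 = 1}, ∃ g : ↥(⨅ i, Sb 2 (F ∙ b i)),
        ∀ i, act (g : SU (m + 1) F 2) (b i.succ) = (d i : F) • b i.succ := by
      intro d
      have h2 : ∀ i, (d i : F) ^ (2 + 1) = 1 := fun i => by rw [pow_succ', (d i).2]
      have h3 : (∏ i, (d i : F)) ^ (2 + 1) = 1 := by
        rw [← Finset.prod_pow]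
        exact Finset.prod_eq_one fun i _ => h2 i
      obtain ⟨g, hg⟩ := exists_diag hF ho (Fin.cons ((∏ i, (d i : F)) ^ 2) fun i => d i) (by
        rw [Fin.prod_univ_succ, Fin.cons_zero]
        exact (pow_succ _ 2).symm.trans h3) fun i => Fin.cases (by
          rw [Fin.cons_zero, ← pow_mul, mul_comm, pow_mul, h3, one_pow]) h2 i
      exact ⟨⟨g, hm.2 fun i => ⟨_, hg i⟩⟩, fun i => hg i.succ⟩
    choose f hf using h1
    have h2 := Nat.card_le_card_of_injective f fun d d' hd => funext fun i => Subtype.ext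
      (smul_left_injective F (ne_zero_of_ns (hb i.succ)) ((hf d i).symm.trans (hd ▸ hf d' i)))
    rwa [Nat.card_fun, card_norm_eq_one hF, Nat.card_fin] at h2
  · refine (iInf_le _ 0).trans ?_
    rw [hb0, Submodule.span_singleton_smul_eq (IsUnit.mk0 c hc)]
  · obtain ⟨x, hx⟩ := hm.1 hd i
    obtain ⟨y, hy⟩ := hE i g hg
    rw [act_mul, act_mul, hx, hy, act_smul, act_smul, hx, hy, smul_comm]

end Cfsg.Agent.SM.U.B12B
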