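import Cfsg.Agent.SM.U.B12BA
import Cfsg.Agent.SM.U.B12BD
import Cfsg.Agent.S5866
import Cfsg.Agent.H781.Cov9.Res

/-!
# SM (S3570), `PSU_12(2)` with `T = PSU_11(2)`: the box `Box12B` (helper21)
-/

set_option autoImplicit false
set_option linter.unusedSectionVars false

namespace Cfsg.Agent.SM.U

open Cfsg Cfsg.Geo Subgroup Matrix
open Cfsg.Agent.LieClassical.HermSiegel
open Cfsg.Agent.H674.SUBlock (pr pr_surjective pr_eq_one_iff)
open Cfsg.Agent.H918 (suHom)
open Cfsg.Agent.H89.Reg (ne_zero_of_ns card_comap_pr)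
open Cfsg.Agent.ClassicalGeometry.PSUAutBasic (exists_scalar_of_mem_center mem_center_of_act act_suScalar)

namespace B12B

/-- a characteristic elementary abelian subgroup -/
theorem exists_char {A : Type} [Group A] [Finite A] {p : ℕ} [Fact p.Prime] (hO : pCore p A ≠ ⊥) :
    ∃ Z : Subgroup A, Z.Characteristic ∧ Z ≠ ⊥ ∧ (∀ a ∈ Z, ∀ b ∈ Z, a * b = b * a) ∧ ∀ a ∈ Z, a ^ p = 1 := by
  have hc := Lib.Cores.pCore_characteristic (G := A) p
  have hp := Lib.Cores.pCore_isPGroup (G := A) p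
  generalize pCore p A = O at hO hc hp
  let Z : Subgroup A :=
    { carrier := {a | a ∈ O ∧ (∀ b ∈ O, a * b = b * a) ∧ a ^ p = 1}
      mul_mem' := fun {a b} ha hb => ⟨O.mul_mem ha.1 hb.1, fun c hc => by
        rw [mul_assoc, hb.2.1 c hc, ← mul_assoc, ha.2.1 c hc, mul_assoc], by
        rw [Commute.mul_pow (ha.2.1 b hb.1), ha.2.2, hb.2.2, one_mul]⟩
      one_mem' := ⟨O.one_mem, fun b _ => by rw [one_mul, mul_one], one_pow p⟩
      inv_mem' := fun {a} ha => ⟨O.inv_mem ha.1, fun b hb => Commute.inv_left (ha.2.1 b hb), by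
        rw [inv_pow, ha.2.2, inv_one]⟩ }
  refine ⟨Z, characteristic_iff_le_comap.2 fun φ a ha => ⟨characteristic_iff_le_comap.1 hc φ ha.1, fun b hb => ?_, ?_⟩,
    fun h0 => ?_, fun a ha b hb => ha.2.1 b hb.1, fun a ha => ha.2.2⟩
  · have h1 := congrArg φ (ha.2.1 (φ.symm b) (characteristic_iff_le_comap.1 hc φ.symm hb))
    rwa [map_mul, map_mul, φ.apply_symm_apply] at h1
  · rw [← map_pow, ha.2.2, map_one]
  · have := (nontrivial_iff_ne_bot O).2 hO
    have := hp.center_nontrivial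
    obtain ⟨k, hk, h1⟩ := (hp.to_subgroup (center O)).nontrivial_iff_card.1 inferInstance
    obtain ⟨z, hz⟩ := exists_prime_orderOf_dvd_card' (G := center O) p (h1 ▸ dvd_pow_self p hk.ne')
    have h2 : orderOf ((z : O) : A) = p := by rw [orderOf_coe, orderOf_coe, hz]
    have h3 : ((z : O) : A) ∈ Z := ⟨(z : O).2, fun b hb => (congrArg Subtype.val (mem_center_iff.1 z.2 ⟨b, hb⟩)).symm,
      h2 ▸ pow_orderOf_eq_one _⟩
    rw [h0, mem_bot] at h3
    rw [h3, orderOf_one] at h2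
    exact (Fact.out : p.Prime).one_lt.ne h2

variable {F : Type} [Field F] [Fintype F] {w : Fin 12 → F}

theorem lift (hF : Fintype.card F = 2 ^ 2) (hw : hermForm 12 F 2 w w ≠ 0) {x : PSU 12 F 2} (hx : x ∈ Pt 2 w) :
    ∃ g : SU 12 F 2, act g w = w ∧ pr g = x := by
  obtain ⟨g, rfl⟩ := pr_surjective x
  obtain ⟨c, hc⟩ := (mem_Pt hF (by norm_num)).1 hx
  have h1 : c ^ (2 + 1) = 1 := by rw [pow_succ', norm_eig hw hc]
  have h2 : c ^ 12 = 1 := by rw [show 12 = (2 + 1) * 4 from rfl, pow_mul, h1, one_pow]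
  have h3 := act_suScalar h2 h1
  refine ⟨(LieClassical.SUBasic.suScalar 2 c h2 h1)⁻¹ * g, by rw [act_mul, hc, ← h3, act_inv_act], ?_⟩
  rw [map_mul, map_inv, (pr_eq_one_iff _).2 (mem_center_of_act h3), inv_one, one_mul]

theorem inj (hF : Fintype.card F = 2 ^ 2) (hw : hermForm 12 F 2 w w ≠ 0) {g h : SU 12 F 2} (hg : act g w = w)
    (hh : act h w = w) (H : pr g = pr h) : g = h := by
  obtain ⟨c, -, -, hc⟩ := exists_sc hF (by norm_num) H
  have h1 := hc w
  rw [hg, hh] at h1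
  have h2 : c = 1 := smul_left_injective F (ne_zero_of_ns hw) (h1.symm.trans (one_smul F w).symm)
  exact ext_act fun v => by rw [hc, h2, one_smul]

theorem exists_equiv (hF : Fintype.card F = 2 ^ 2) (hw : hermForm 12 F 2 w w ≠ 0) :
    Nonempty (SU 11 F 2 ≃* (Pt 2 w : Subgroup (PSU 12 F 2))) := by
  obtain ⟨ι, h1, h2⟩ := H89.Reg.exists_iota (n := 11) hF hw
  have h3 : ∀ g, act (ι g) w = w := fun g => (h2 _).2 ⟨g, rfl⟩
  have h4 : ((pr : SU 12 F 2 →* _).comp ι).range = Pt 2 w := by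
    ext x
    constructor
    · rintro ⟨g, rfl⟩
      exact (mem_Pt hF (by norm_num)).2 ⟨1, by rw [h3, one_smul]⟩
    · intro hx
      obtain ⟨g, hg, rfl⟩ := lift hF hw hx
      obtain ⟨k, rfl⟩ := (h2 g).1 hg
      exact ⟨k, rfl⟩
  exact ⟨(MonoidHom.ofInjective (f := (pr : SU 12 F 2 →* _).comp ι) fun g h H => h1 (inj hF hw (h3 g) (h3 h) H)).trans
    (MulEquiv.subgroupCongr h4)⟩

theorem lie (hF : Fintype.card F = 2 ^ 2) (hw : hermForm 12 F 2 w w ≠ 0) :
    IsLieTypeChar 2 (Pt 2 w : Subgroup (PSU 12 F 2)) := by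
  obtain ⟨e⟩ := exists_equiv hF hw
  have h1 : Function.Injective (pr : SU 11 F 2 →* PSU 11 F 2) := (injective_iff_map_eq_one _).2 fun g hg => by
    have h2 := (pr_eq_one_iff g).1 hg
    rwa [card_eq_one.1 (S0279.result hF 11 (by norm_num)), mem_bot] at h2
  exact Or.inr (Or.inr (Or.inl ⟨F, inferInstance, inferInstance, SpC.Bt.char_two hF, 11, 2, hF, by norm_num, by norm_num,
    ⟨e.symm.trans (MulEquiv.ofBijective pr ⟨h1, pr_surjective⟩)⟩⟩))

theorem dvd_card (hF : Fintype.card F = 2 ^ 2) (hw : hermForm 12 F 2 w w ≠ 0) :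
    48400 ∣ Nat.card (Pt 2 w : Subgroup (PSU 12 F 2)) := by
  obtain ⟨e⟩ := exists_equiv hF hw
  rw [← Nat.card_congr e.toEquiv]
  refine Nat.Coprime.dvd_of_dvd_mul_left (m := 2 + 1) (by norm_num) ?_
  rw [S0278.result hF 11 (by norm_num)]
  decide +kernel

/-- the embedding in the automorphism group of the sporadic Suzuki group -/
theorem emb (hF : Fintype.card F = 2 ^ 2) {B : Subgroup (PSU 12 F 2)} (hB : B ≠ ⊤) (h : NG B) :
    ∃ R : Subgroup (MulAut Spor.Suz), Nat.card R = Nat.card B := by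
  obtain ⟨H, h1, h2, h3⟩ := exists_res hF (by norm_num) (by norm_num) hB h
  obtain ⟨P, hP, -, h4 | ⟨⟨e⟩, -⟩⟩ := S5866.result 2 hF H h1 h3
  · exact absurd h4.2 (by norm_num)
  obtain ⟨φ, hφ⟩ := H781.Cov9.exists_core_inj hP
  let ι : B.comap (pr : SU 12 F 2 →* _) →* H :=
    ((suHom 12 F 2).comp (B.comap pr).subtype).codRestrict H fun g => h2 (mem_gl.2 g.2)
  let θ := ((MulAut.congr e).toMonoidHom.comp φ).comp ((QuotientGroup.mk' _).comp ι)
  have h5 : θ.ker.map (B.comap pr).subtype = center (SU 12 F 2) := by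
    have h6 : ∀ g, g ∈ θ.ker ↔ suHom 12 F 2 g ∈ scalars (Fin 12) F := fun g => by
      exact ((map_eq_one_iff _ (MulAut.congr e).injective).trans (map_eq_one_iff φ hφ)).trans (QuotientGroup.eq_one_iff _)
    ext g
    constructor
    · rintro ⟨g, hg, rfl⟩
      obtain ⟨c, hc⟩ := (mem_scalars_iff _).1 ((h6 g).1 hg)
      refine mem_center_of_act (c := (c : F)) fun v => ?_
      change ((suHom 12 F 2 g : GL (Fin 12) F) : Matrix (Fin 12) (Fin 12) F) *ᵥ v = _
      rw [hc, smul_mulVec, one_mulVec]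
    · intro hg
      obtain ⟨c, h0, -, hc⟩ := exists_scalar_of_mem_center hF (by norm_num) hg
      refine ⟨⟨g, by rw [mem_comap, (pr_eq_one_iff g).2 hg]; exact B.one_mem⟩, (h6 _).2 ((mem_scalars_iff _).2
        ⟨Units.mk0 c h0, Matrix.ext_of_mulVec_single fun i => ?_⟩), rfl⟩
      rw [smul_mulVec, one_mulVec]
      exact hc _
  have h6 := θ.ker.card_mul_index
  have h7 : Nat.card (center (SU 12 F 2)) = Nat.card θ.ker :=
    (congrArg (fun X : Subgroup (SU 12 F 2) => Nat.card X) h5).symm.trans (card_map_of_injective (subtype_injective _))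
  rw [index_ker, card_comap_pr, h7] at h6
  exact ⟨θ.range, Nat.eq_of_mul_eq_mul_left Nat.card_pos h6⟩

/-- the prime three -/
theorem three (hF : Fintype.card F = 2 ^ 2) (hw : hermForm 12 F 2 w w ≠ 0) {A : Subgroup (PSU 12 F 2)}
    (hle : A ≤ Pt 2 w) (h : Sp.Lc (Pt 2 w) A) (hO : pCore 3 A ≠ ⊥) : 3 ^ 10 ∣ Nat.card A := by
  have := Fact.mk Nat.prime_three
  obtain ⟨Z, h1, h2, h3, h4⟩ := exists_char hO
  have h5 := h Z h1 h2
  have h6 : ∀ a ∈ Z.map A.subtype, ∀ b ∈ Z.map A.subtype, a * b = b * a := by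
    rintro _ ⟨a, ha, rfl⟩ _ ⟨b, hb, rfl⟩
    exact congrArg Subtype.val (h3 a ha b hb)
  have h7 : ∀ a ∈ Z.map A.subtype, a ^ 3 = 1 := by
    rintro _ ⟨a, ha, rfl⟩
    exact congrArg Subtype.val (h4 a ha)
  have h8 : Z.map A.subtype ≤ Pt 2 w := (map_subtype_le _).trans hle
  generalize Z.map A.subtype = Y at h5 h6 h7 h8
  obtain ⟨D, d1, d2, d3, d4⟩ := torus (m := 11) hF (S := {g | act g w = w ∧ pr g ∈ Y})
    ⟨fun g hg k hk => inj hF hw (by rw [act_mul, hk.1, hg.1]) (by rw [act_mul, hg.1, hk.1])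
      (by rw [map_mul, map_mul, h6 _ hg.2 _ hk.2]), fun g hg => inj hF hw (by rw [act_mul, act_mul, hg.1, hg.1, hg.1])
      (act_one w) (by rw [map_mul, map_mul, ← pow_three', h7 _ hg.2, map_one])⟩ hw
    fun g hg => ⟨1, by rw [hg.1, one_smul]⟩
  have h9 : D ≤ A.comap pr := fun d hd => h5 ⟨⟨d, d3 hd, rfl⟩, centralizer_le_normalizer _ fun y hy => by
    obtain ⟨g, hg, rfl⟩ := lift hF hw (h8 hy)
    rw [← map_mul, ← map_mul, d4 d hd g ⟨hg, hy⟩]⟩
  have h10 := card_dvd_of_le h9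
  obtain ⟨k, hk⟩ := IsPGroup.iff_card.1 d1
  rw [hk] at d2 h10
  rw [card_comap_pr, S0279.result hF 12 (by norm_num)] at h10
  exact Nat.dvd_of_mul_dvd_mul_left (k := 3) (by norm_num)
    ((pow_dvd_pow 3 ((Nat.pow_le_pow_iff_right (by norm_num)).1 d2)).trans h10)

end B12B

open B12B in
/-- **`PSU_12(2)`, `T = PSU_11(2)`** -/
theorem box12B : Box12B := by
  rintro F _ _ hF _ B f ⟨h1, -, w, hw, rfl⟩
  have hfin : Finite (PSU 12 F 2) := Quotient.finite _
  have hi : (Pt 2 w).index = 2795520 := by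
    have h2 := index_Pt hF (by norm_num) hw
    rw [if_pos (by decide)] at h2
    omega
  obtain ⟨R, hR⟩ := emb hF f.neY h1
  have h2 := f.pd.symm.card_left
  rw [hi, inf_comm] at h2
  have hA := sub_aut R (hR.trans h2.symm)
  have hd : Nat.card ↥(Pt 2 w ⊓ B) ∣ 320760 := by rcases hA with h | h | h | h | h | h <;> rw [h] <;> norm_num
  obtain ⟨p, hp, hO⟩ := fit hA
  have := Fact.mk hp
  have hT := dvd_card hF hw
  have h3 : p ∣ 2 ^ 3 * 3 ^ 6 * 5 * 11 := by
    obtain ⟨k, hk, h3⟩ := (Lib.Cores.pCore_isPGroup (G := ↥(Pt 2 w ⊓ B)) p).nontrivial_iff_card.1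
      ((nontrivial_iff_ne_bot _).2 hO)
    exact ((h3 ▸ dvd_pow_self p hk.ne' :).trans (card_subgroup_dvd_card _)).trans hd
  simp only [hp.dvd_mul] at h3
  rcases h3 with ((h3 | h3) | h3) | h3
  · obtain rfl := (Nat.prime_dvd_prime_iff_eq hp Nat.prime_two).1 (hp.dvd_of_dvd_pow h3)
    refine SpC.bt inf_le_left f.lcX f.simple f.nab (lie hF hw) hO ?_
    have h4 := f.pd.card_left
    rw [inf_relIndex_left, f.pd.relIndex]
    rcases hA with h | h | h | h | h | h <;> rw [h] at h4 <;> omega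
  · obtain rfl := (Nat.prime_dvd_prime_iff_eq hp Nat.prime_three).1 (hp.dvd_of_dvd_pow h3)
    exact absurd ((three hF hw inf_le_left f.lcX hO).trans hd) (by norm_num)
  · obtain rfl := (Nat.prime_dvd_prime_iff_eq hp Nat.prime_five).1 h3
    exact lc_prime inf_le_left f.lcX hp hO (fun h => absurd (h.trans hd) (by norm_num)) (Dvd.dvd.trans (by norm_num) hT)
  · obtain rfl := (Nat.prime_dvd_prime_iff_eq hp (by norm_num)).1 h3
    exact lc_prime inf_le_left f.lcX hp hO (fun h => absurd (h.trans hd) (by norm_num)) (Dvd.dvd.trans (by norm_num) hT)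

end Cfsg.Agent.SM.U
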