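import Cfsg.Agent.SM.U.Defs
import Cfsg.Agent.H876.UWitt
import Cfsg.Agent.ClassicalGeometry.PSUAutMain

/-!
# SM (S3570), unitary socles: basic tools (helper10)

* `mem_St`, `mem_Pt`, `le_St`, `le_Pt` : membership in the stabilisers;
* `Sl β b ρ φ` : the automorphism `β` is induced by the semilinear map `φ`; `exists_sl`;
* `exists_qq` : products of two quasi-reflections;
* `Tr A` : transitivity on the nonsingular points; `tr_of_pd`, `index_Pt`;
* `exists_emb`, `card_dvd_aut` : subgroups of a residual group.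
-/

set_option autoImplicit false
set_option linter.unusedSectionVars false

namespace Cfsg.Agent.SM.U

open Cfsg Cfsg.Geo Subgroup Module Matrix
open Cfsg.Agent.LieClassical.HermBasic Cfsg.Agent.ClassicalGeometry.HermOrtho
open Cfsg.Agent.LieClassical.HermSiegel
open Cfsg.Agent.H674.SUBlock (pr pr_surjective pr_eq_one_iff)
open Cfsg.Agent.H918 (suHom SUg suHom_injective suHom_mem)
open Cfsg.Agent.H89.Reg (InvA exists_move fixV mem_fixV card_fixV card_SU_succ ne_zero_of_ns card_comap_pr)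
open Cfsg.Agent.ClassicalGeometry.PSUAutBasic (exists_scalar_of_mem_center mem_center_of_act)
open Cfsg.Agent.ClassicalGeometry.PSUAutCount (gm toAut semiConj toAut_pr act_semiConj herm_semi gm_mulVec_inv)

variable {F : Type} [Field F] [Fintype F] {n q : ℕ}

theorem mem_Sb {W : Submodule F (Fin n → F)} {g : SU n F q} : g ∈ Sb q W ↔ ∀ v, v ∈ W ↔ act g v ∈ W := Iff.rfl

/-- one inclusion is enough -/
theorem mem_Sb_of {W : Submodule F (Fin n → F)} {g : SU n F q} (h : ∀ v ∈ W, act g v ∈ W) : g ∈ Sb q W := by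
  have hfin : Finite (SU n F q) := inferInstance
  have hp : ∀ k : ℕ, ∀ v ∈ W, act (g ^ k) v ∈ W := by
    intro k
    induction k with
    | zero => intro v hv; rwa [pow_zero, act_one]
    | succ k ih => intro v hv; rw [pow_succ, act_mul]; exact ih _ (h v hv)
  refine fun v => ⟨h v, fun hv => ?_⟩
  have h1 := hp (orderOf g - 1) _ hv
  rwa [← act_mul, ← pow_succ, Nat.sub_add_cancel (orderOf_pos g), pow_orderOf_eq_one, act_one] at h1

theorem exists_sc (hF : Fintype.card F = q ^ 2) (hn : 3 ≤ n) {g h : SU n F q} (H : pr g = pr h) :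
    ∃ c : F, c ≠ 0 ∧ c * c ^ q = 1 ∧ ∀ v, act h v = c • act g v := by
  obtain ⟨z, hz, rfl⟩ := ClassicalGeometry.PSUAutBasic.exists_center_mul (g := g) (h := h) H
  obtain ⟨c, h0, h1, h2⟩ := exists_scalar_of_mem_center hF hn hz
  exact ⟨c, h0, h1, fun v => by rw [act_mul, h2, act_smul]⟩

theorem pr_eq_of_sc {g h : SU n F q} {c : F} (H : ∀ v, act h v = c • act g v) : pr g = pr h := by
  have h1 : g⁻¹ * h ∈ center (SU n F q) :=
    mem_center_of_act (c := c) fun v => by rw [act_mul, H, act_smul, act_inv_act]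
  exact (ClassicalGeometry.PSUAutBasic.pr_eq_iff (g := g) (h := h)).2 h1

theorem mem_St (hF : Fintype.card F = q ^ 2) (hn : 3 ≤ n) {W : Submodule F (Fin n → F)} {g : SU n F q} :
    pr g ∈ St q W ↔ g ∈ Sb q W := by
  refine ⟨?_, fun h => ⟨g, h, rfl⟩⟩
  rintro ⟨h, hh, H⟩
  obtain ⟨c, -, -, h2⟩ := exists_sc hF hn H
  exact mem_Sb_of fun v hv => by rw [h2]; exact W.smul_mem c ((hh v).1 hv)

theorem comap_St (hF : Fintype.card F = q ^ 2) (hn : 3 ≤ n) (W : Submodule F (Fin n → F)) :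
    (St q W).comap (pr : SU n F q →* _) = Sb q W := Subgroup.ext fun _ => mem_St hF hn

theorem mem_Sb_span {w : Fin n → F} {g : SU n F q} : g ∈ Sb q (F ∙ w) ↔ ∃ c : F, act g w = c • w := by
  constructor
  · intro h
    obtain ⟨c, hc⟩ := Submodule.mem_span_singleton.1 ((h w).1 (Submodule.mem_span_singleton_self w))
    exact ⟨c, hc.symm⟩
  · rintro ⟨c, hc⟩
    refine mem_Sb_of fun v hv => ?_
    obtain ⟨d, rfl⟩ := Submodule.mem_span_singleton.1 hv
    rw [act_smul, hc, smul_smul]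
    exact Submodule.mem_span_singleton.2 ⟨_, rfl⟩

theorem mem_Pt (hF : Fintype.card F = q ^ 2) (hn : 3 ≤ n) {w : Fin n → F} {g : SU n F q} :
    pr g ∈ Pt q w ↔ ∃ c : F, act g w = c • w := (mem_St hF hn).trans mem_Sb_span

theorem le_St (hF : Fintype.card F = q ^ 2) (hn : 3 ≤ n) {X : Subgroup (PSU n F q)} {W : Submodule F (Fin n → F)} :
    X ≤ St q W ↔ InvA (X.comap pr) W := by
  constructor
  · intro h g hg v hv
    exact ((mem_St hF hn).1 (h hg) v).1 hv
  · intro h x hx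
    obtain ⟨g, rfl⟩ := pr_surjective x
    exact (mem_St hF hn).2 (mem_Sb_of (h g hx))

theorem le_Pt (hF : Fintype.card F = q ^ 2) (hn : 3 ≤ n) {X : Subgroup (PSU n F q)} {w : Fin n → F} :
    X ≤ Pt q w ↔ ∀ g : SU n F q, pr g ∈ X → ∃ c : F, act g w = c • w := by
  constructor
  · intro h g hg
    exact (mem_Pt hF hn).1 (h hg)
  · intro h x hx
    obtain ⟨g, rfl⟩ := pr_surjective x
    exact (mem_Pt hF hn).2 (h g hx)

theorem Pt_smul {w : Fin n → F} {c : F} (hc : c ≠ 0) : Pt q (c • w) = Pt q w := by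
  rw [Pt, Pt, Submodule.span_singleton_smul_eq (IsUnit.mk0 c hc)]

/-- the eigenvalues on a nonsingular vector have norm one -/
theorem norm_eig {w : Fin n → F} (hw : hermForm n F q w w ≠ 0) {g : SU n F q} {c : F} (h : act g w = c • w) :
    c * c ^ q = 1 := by
  have h1 := herm_act g w w
  rw [h, herm_smul_left, herm_smul_right, ← mul_assoc] at h1
  exact (mul_eq_right₀ hw).1 h1

/-! ### semilinear maps -/

/-- `β` is induced by the semilinear map `φ` -/
structure Sl (β : MulAut (PSU n F q)) (b : MulAut (SU n F q)) (ρ : F ≃+* F) (φ : (Fin n → F) → (Fin n → F)) : Prop where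
  pr : ∀ g, β (pr g) = pr (b g)
  act : ∀ g x, act (b g) (φ x) = φ (act g x)
  add : ∀ x y, φ (x + y) = φ x + φ y
  smul : ∀ (c : F) x, φ (c • x) = ρ c • φ x
  herm : ∀ u v, hermForm n F q (φ u) (φ v) = ρ (hermForm n F q u v)
  surj : Function.Surjective φ

theorem exists_sl (hF : Fintype.card F = q ^ 2) (hn : 3 ≤ n) (h32 : ¬ (n = 3 ∧ q = 2)) (β : MulAut (PSU n F q)) :
    ∃ b ρ φ, Sl β b ρ φ := by
  obtain ⟨A, ρ, rfl⟩ := ClassicalGeometry.PSUAutMain.exists_toAut hF hn h32 β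
  refine ⟨semiConj A ρ, ρ, fun x => gm A *ᵥ fun i => ρ (x i), toAut_pr A ρ, act_semiConj A ρ, fun x y => ?_,
    fun c x => ?_, herm_semi A ρ, fun y => ⟨fun i => ρ.symm ((gm A⁻¹ *ᵥ y) i), ?_⟩⟩
  · rw [← mulVec_add]
    congr 1
    funext i
    simp
  · rw [← mulVec_smul]
    congr 1
    funext i
    simp
  · simp only [RingEquiv.apply_symm_apply]
    exact gm_mulVec_inv A y

/-- `φ` keeps `W` -/
def Kp (φ : (Fin n → F) → (Fin n → F)) (W : Submodule F (Fin n → F)) : Prop := ∀ v, φ v ∈ W ↔ v ∈ W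

namespace Sl

variable {β : MulAut (PSU n F q)} {b : MulAut (SU n F q)} {ρ : F ≃+* F} {φ : (Fin n → F) → (Fin n → F)}

theorem zero (s : Sl β b ρ φ) : φ 0 = 0 := by
  have h := s.smul 0 0
  rwa [zero_smul, map_zero, zero_smul] at h

theorem inj (s : Sl β b ρ φ) : Function.Injective φ := Finite.injective_iff_surjective.2 s.surj

/-- the pull back of a subspace -/
def pb (s : Sl β b ρ φ) (W : Submodule F (Fin n → F)) : Submodule F (Fin n → F) where
  carrier := {v | φ v ∈ W}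
  add_mem' := fun {x y} hx hy => by
    show φ (x + y) ∈ W
    rw [s.add]
    exact W.add_mem hx hy
  zero_mem' := by
    show φ 0 ∈ W
    rw [s.zero]
    exact W.zero_mem
  smul_mem' := fun c x hx => by
    show φ (c • x) ∈ W
    rw [s.smul]
    exact W.smul_mem _ hx

theorem mem_pb (s : Sl β b ρ φ) {W : Submodule F (Fin n → F)} {v : Fin n → F} : v ∈ s.pb W ↔ φ v ∈ W := Iff.rfl

theorem pb_ne_bot (s : Sl β b ρ φ) {W : Submodule F (Fin n → F)} (h : W ≠ ⊥) : s.pb W ≠ ⊥ := by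
  obtain ⟨v, hv, h0⟩ := Submodule.exists_mem_ne_zero_of_ne_bot h
  obtain ⟨u, rfl⟩ := s.surj v
  intro h1
  have h2 : u ∈ s.pb W := hv
  rw [h1, Submodule.mem_bot] at h2
  exact h0 (by rw [h2, s.zero])

theorem pb_ne_top (s : Sl β b ρ φ) {W : Submodule F (Fin n → F)} (h : W ≠ ⊤) : s.pb W ≠ ⊤ := by
  intro h1
  apply h
  rw [eq_top_iff]
  intro v _
  obtain ⟨u, rfl⟩ := s.surj v
  have h2 : u ∈ s.pb W := by rw [h1]; trivial
  exact h2

theorem pb_inv (s : Sl β b ρ φ) {X : Subgroup (PSU n F q)} (hX : ∀ x ∈ X, β x ∈ X) {W : Submodule F (Fin n → F)}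
    (h : InvA (X.comap H674.SUBlock.pr) W) : InvA (X.comap H674.SUBlock.pr) (s.pb W) := by
  intro g hg v hv
  rw [s.mem_pb, ← s.act]
  refine h _ ?_ _ hv
  rw [mem_comap, ← s.pr]
  exact hX _ hg

theorem kp_of (s : Sl β b ρ φ) {W : Submodule F (Fin n → F)} (h : s.pb W = W) : Kp φ W := fun v => by
  rw [← s.mem_pb, h]

theorem st (s : Sl β b ρ φ) (hF : Fintype.card F = q ^ 2) (hn : 3 ≤ n) {W : Submodule F (Fin n → F)} (h : Kp φ W) :
    ∀ x ∈ St q W, β x ∈ St q W := by
  intro x hx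
  obtain ⟨g, rfl⟩ := pr_surjective x
  rw [s.pr, mem_St hF hn]
  intro v
  obtain ⟨u, rfl⟩ := s.surj v
  rw [s.act, h, h]
  exact (mem_St hF hn).1 hx u

theorem kp_inf {W U : Submodule F (Fin n → F)} (h1 : Kp φ W) (h2 : Kp φ U) : Kp φ (W ⊓ U) := fun v => by
  rw [Submodule.mem_inf, Submodule.mem_inf, h1, h2]

theorem kp_sup (s : Sl β b ρ φ) {W U : Submodule F (Fin n → F)} (h1 : Kp φ W) (h2 : Kp φ U) : Kp φ (W ⊔ U) := by
  intro v
  rw [Submodule.mem_sup, Submodule.mem_sup]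
  constructor
  · rintro ⟨x, hx, y, hy, h⟩
    obtain ⟨x, rfl⟩ := s.surj x
    obtain ⟨y, rfl⟩ := s.surj y
    exact ⟨x, (h1 x).1 hx, y, (h2 y).1 hy, s.inj (by rw [s.add, h])⟩
  · rintro ⟨x, hx, y, hy, rfl⟩
    exact ⟨φ x, (h1 x).2 hx, φ y, (h2 y).2 hy, (s.add x y).symm⟩

theorem kp_perp (s : Sl β b ρ φ) {W : Submodule F (Fin n → F)} (h : Kp φ W) :
    Kp φ (hermPerp q (W : Set (Fin n → F))) := by
  intro v
  rw [mem_hermPerp, mem_hermPerp]
  constructor
  · intro h1 u hu
    have h2 := h1 (φ u) ((h u).2 hu)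
    rw [s.herm] at h2
    exact ρ.injective (by rw [h2, map_zero])
  · intro h1 u hu
    obtain ⟨u, rfl⟩ := s.surj u
    rw [s.herm, h1 u ((h u).1 hu), map_zero]

/-- the point `φ w` -/
theorem pt (s : Sl β b ρ φ) (hF : Fintype.card F = q ^ 2) (hn : 3 ≤ n) {w : Fin n → F} {x : PSU n F q} :
    β x ∈ Pt q (φ w) ↔ x ∈ Pt q w := by
  obtain ⟨g, rfl⟩ := pr_surjective x
  rw [s.pr, mem_Pt hF hn, mem_Pt hF hn, s.act]
  constructor
  · rintro ⟨c, hc⟩
    refine ⟨ρ.symm c, s.inj ?_⟩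
    rw [s.smul, hc, RingEquiv.apply_symm_apply]
  · rintro ⟨c, hc⟩
    exact ⟨ρ c, by rw [hc, s.smul]⟩

theorem ns (s : Sl β b ρ φ) {w : Fin n → F} : hermForm n F q (φ w) (φ w) ≠ 0 ↔ hermForm n F q w w ≠ 0 := by
  rw [s.herm]
  exact (map_ne_zero_iff ρ ρ.injective)

/-- a line that is mapped to itself -/
theorem kp_span (s : Sl β b ρ φ) {w u : Fin n → F} (hw : w ≠ 0) (h : φ u = w) (hu : u ∈ F ∙ w) : Kp φ (F ∙ w) := by
  obtain ⟨c, rfl⟩ := Submodule.mem_span_singleton.1 hu
  rw [s.smul] at h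
  have hc : ρ c ≠ 0 := fun h0 => hw (by rw [← h, h0, zero_smul])
  have h1 : φ w = (ρ c)⁻¹ • w := by
    conv_rhs => rw [← h]
    rw [smul_smul, inv_mul_cancel₀ hc, one_smul]
  intro v
  rw [Submodule.mem_span_singleton, Submodule.mem_span_singleton]
  constructor
  · rintro ⟨d, hd⟩
    refine ⟨ρ.symm d * c, s.inj ?_⟩
    rw [s.smul, map_mul, RingEquiv.apply_symm_apply, mul_smul, h, hd]
  · rintro ⟨d, rfl⟩
    exact ⟨ρ d * (ρ c)⁻¹, by rw [s.smul, h1, smul_smul]⟩

end Sl

/-! ### quasi-reflections -/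

/-- a product of two quasi-reflections with orthogonal centres -/
theorem exists_qq (hF : Fintype.card F = q ^ 2) {y z : Fin n → F} (hy : hermForm n F q y y ≠ 0)
    (hz : hermForm n F q z z ≠ 0) (hyz : hermForm n F q z y = 0) {b : F} (hb : b * b ^ q = 1) :
    ∃ g : SU n F q, ∀ v, act g v = v + ((b - 1) / hermForm n F q y y * hermForm n F q v y) • y +
      ((b⁻¹ - 1) / hermForm n F q z z * hermForm n F q v z) • z := by
  have hb0 : b ≠ 0 := by
    rintro rfl
    rw [zero_mul] at hb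
    exact zero_ne_one hb
  have h1 : b ^ (q + 1) = 1 := by rw [pow_succ', hb]
  have h2 : b⁻¹ ^ (q + 1) = 1 := by rw [inv_pow, h1, inv_one]
  have h3 : H876.reflGL hF y b hy h1 * H876.reflGL hF z b⁻¹ hz h2 ∈ SUg n F q := by
    refine mem_inf.2 ⟨(GU n F q).mul_mem (H876.reflGL_mem hF hy h1) (H876.reflGL_mem hF hz h2), ?_⟩
    rw [H876.mem_specialLinear_iff, Units.val_mul, det_mul, H876.reflGL_det, H876.reflGL_det,
      mul_inv_cancel₀ hb0]
  obtain ⟨g, hg⟩ := H918.exists_suHom h3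
  refine ⟨g, fun v => ?_⟩
  have h4 : act g v = ((suHom n F q g : GL (Fin n) F) : Matrix (Fin n) (Fin n) F) *ᵥ v := rfl
  rw [h4, hg, Units.val_mul, ← mulVec_mulVec, H876.reflGL_mulVec, H876.reflGL_mulVec, herm_add_left, herm_smul_left,
    hyz, mul_zero, add_zero]
  abel

/-- an element of norm one whose square is not one -/
theorem exists_b (hF : Fintype.card F = q ^ 2) : ∃ b : F, b * b ^ q = 1 ∧ b * b ≠ 1 := by
  by_contra h
  push Not at h
  have h1 := card_norm_eq_one hF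
  have h2 := two_le hF
  let f : {x : F // x * x ^ q = 1} → Bool := fun x => by classical exact decide (x.1 = 1)
  have hf : Function.Injective f := by
    intro x y hxy
    apply Subtype.ext
    rcases mul_self_eq_one_iff.1 (h x.1 x.2) with hx | hx <;> rcases mul_self_eq_one_iff.1 (h y.1 y.2) with hy | hy
    · rw [hx, hy]
    · have : y.1 = 1 := by simpa [f, hx] using hxy
      rw [hx, this]
    · have : x.1 = 1 := by simpa [f, hy] using hxy
      rw [hy, this]
    · rw [hx, hy]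
  have h3 := Nat.card_le_card_of_injective f hf
  rw [h1, Nat.card_eq_fintype_card, Fintype.card_bool] at h3
  omega

/-- a nonsingular vector of a nondegenerate subspace that is not orthogonal to `u` -/
theorem exists_ns_ne (hF : Fintype.card F = q ^ 2) {U : Submodule F (Fin n → F)} (hU : GpUn.ND q U) {u : Fin n → F}
    (hu : u ∈ U) (h0 : u ≠ 0) : ∃ x ∈ U, hermForm n F q x x ≠ 0 ∧ hermForm n F q u x ≠ 0 := by
  obtain ⟨e, he, ho⟩ := exists_orthonormal hF U hU rfl
  by_contra h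
  push Not at h
  apply h0
  rw [eq_sum_of_orthonormal U (Fintype.card_fin _).symm he ho hu]
  refine Finset.sum_eq_zero fun i _ => ?_
  rw [h (e i) (he i) (by rw [ho, if_pos rfl]; exact one_ne_zero), zero_smul]

/-! ### transitivity -/

/-- `A` is transitive on the nonsingular points -/
def Tr (A : Subgroup (SU n F q)) : Prop :=
  ∀ v w : Fin n → F, hermForm n F q v v ≠ 0 → hermForm n F q w w ≠ 0 → ∃ g ∈ A, ∃ c : F, act g v = c • w

theorem Tr.mono {A A' : Subgroup (SU n F q)} (h : Tr A) (hA : A ≤ A') : Tr A' := fun v w hv hw => by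
  obtain ⟨g, hg, hc⟩ := h v w hv hw
  exact ⟨g, hA hg, hc⟩

theorem tr_of_pd (hF : Fintype.card F = q ^ 2) (hn : 3 ≤ n) {X Y : Subgroup (PSU n F q)} (h : Ex78.Pd X Y)
    {w : Fin n → F} (hw : hermForm n F q w w ≠ 0) (hX : X ≤ Pt q w) : Tr (Y.comap pr) := by
  have key : ∀ v, hermForm n F q v v ≠ 0 → ∃ g ∈ Y.comap (pr : SU n F q →* _), ∃ c : F, act g v = c • w := by
    intro v hv
    obtain ⟨s, c, -, hs⟩ := exists_move hF (by omega) hv hw
    obtain ⟨x, hx, y, hy, hxy⟩ := h (pr s)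
    obtain ⟨x, rfl⟩ := pr_surjective x
    obtain ⟨d, hd⟩ := (mem_Pt hF hn).1 ((Pt q w).inv_mem (hX hx))
    refine ⟨x⁻¹ * s, ?_, c * d, ?_⟩
    · rw [mem_comap, map_mul, map_inv, hxy, inv_mul_cancel_left]
      exact hy
    · rw [act_mul, hs, act_smul, hd, smul_smul]
  intro v u hv hu
  obtain ⟨g, hg, c, hc⟩ := key v hv
  obtain ⟨g', hg', c', hc'⟩ := key u hu
  have h0 : c' ≠ 0 := by
    rintro rfl
    rw [zero_smul, act_eq_zero] at hc'
    exact ne_zero_of_ns hu hc'
  refine ⟨g'⁻¹ * g, mul_mem (inv_mem hg') hg, c / c', ?_⟩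
  rw [act_mul, hc, ← (act_eq_iff g').1 (show act g' ((c / c') • u) = c • w by
    rw [act_smul, hc', smul_smul, div_mul_cancel₀ _ h0])]

/-- the number of nonsingular points -/
theorem index_Pt (hF : Fintype.card F = q ^ 2) (hn : 3 ≤ n) {w : Fin n → F} (hw : hermForm n F q w w ≠ 0) :
    (q + 1) * (Pt q w).index = q ^ (n - 1) * (if Even n then q ^ n - 1 else q ^ n + 1) := by
  have hfin : Finite (SU n F q) := inferInstance
  have hval : ∀ {g : SU n F q} {c : F}, act g w = c • w → hermForm n F q (act g w) w / hermForm n F q w w = c := by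
    intro g c h
    rw [h, herm_smul_left, mul_div_cancel_right₀ _ hw]
  let χ : Sb q (F ∙ w) →* F :=
    { toFun := fun g => hermForm n F q (act (g : SU n F q) w) w / hermForm n F q w w
      map_one' := by rw [Subgroup.coe_one, act_one, div_self hw]
      map_mul' := fun g h => by
        obtain ⟨c, hc⟩ := mem_Sb_span.1 g.2
        obtain ⟨d, hd⟩ := mem_Sb_span.1 h.2
        rw [hval hc, hval hd]
        apply hval
        rw [Subgroup.coe_mul, act_mul, hd, act_smul, hc, smul_smul, mul_comm] }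
  have hχ : ∀ g : Sb q (F ∙ w), act (g : SU n F q) w = χ g • w := by
    intro g
    obtain ⟨c, hc⟩ := mem_Sb_span.1 g.2
    rw [hc]
    congr 1
    exact (hval hc).symm
  have hker : χ.toHomUnits.ker = (fixV q w).subgroupOf (Sb q (F ∙ w)) := by
    ext g
    rw [MonoidHom.mem_ker, Subgroup.mem_subgroupOf, mem_fixV]
    constructor
    · intro h
      have h1 : χ g = 1 := congrArg (fun u : Fˣ => (u : F)) h
      rw [hχ, h1, one_smul]
    · intro h
      exact Units.ext (hval (c := 1) (by rw [h, one_smul]))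
  have hran : Nat.card χ.toHomUnits.range = q + 1 := by
    rw [← card_norm_eq_one hF]
    refine Nat.card_congr (Equiv.ofBijective (fun x => ⟨(x.1 : F), ?_⟩) ⟨fun x y h => ?_, fun c => ?_⟩)
    · obtain ⟨g, hg⟩ := x.2
      rw [← hg]
      exact norm_eig hw (hχ g)
    · exact Subtype.ext (Units.ext (congrArg Subtype.val h))
    · obtain ⟨z, hz1, hz⟩ := H89.Reg.exists_perp_ns hF (H89.Reg.nd_line hw)
        (by rw [finrank_span_singleton (ne_zero_of_ns hw)]; omega)
      have hzw := hz w (Submodule.mem_span_singleton_self w)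
      obtain ⟨g, hg⟩ := exists_qq hF hw (by rw [hz1]; exact one_ne_zero) hzw c.2
      have h1 : act g w = c.1 • w := by
        rw [hg, herm_eq_zero_swap hF hzw, mul_zero, zero_smul, add_zero, div_mul_cancel₀ _ hw, sub_smul, one_smul,
          add_sub_cancel]
      exact ⟨⟨χ.toHomUnits ⟨g, mem_Sb_span.2 ⟨_, h1⟩⟩, _, rfl⟩, Subtype.ext (hval h1)⟩
  have hle : fixV q w ≤ Sb q (F ∙ w) := fun g hg => mem_Sb_span.2 ⟨1, by rw [one_smul]; exact hg⟩
  have h1 : (fixV q w).relIndex (Sb q (F ∙ w)) = q + 1 := by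
    rw [relIndex, ← hker, index_ker, hran]
  have h2 : (Pt q w).index = (Sb q (F ∙ w)).index := by
    rw [← comap_St hF hn, index_comap_of_surjective _ pr_surjective]
    rfl
  rw [h2, ← h1, relIndex_mul_index hle]
  obtain ⟨m, rfl⟩ : ∃ m, n = m + 1 := ⟨n - 1, by omega⟩
  have h3 := (fixV q w).card_mul_index
  rw [card_fixV hF hw, card_SU_succ hF (by omega), mul_comm] at h3
  rw [Nat.eq_of_mul_eq_mul_right Nat.card_pos h3, Nat.add_sub_cancel]
  by_cases hm : Even m
  · rw [if_pos hm, if_neg (by rw [Nat.even_add_one]; exact not_not.2 hm)]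
  · rw [if_neg hm, if_pos (Nat.even_add_one.2 hm)]

theorem Pt_ne_top (hF : Fintype.card F = q ^ 2) (hn : 3 ≤ n) {w : Fin n → F} (hw : hermForm n F q w w ≠ 0) :
    Pt q w ≠ ⊤ := by
  intro h
  obtain ⟨z, hz1, hz⟩ := H89.Reg.exists_perp_ns hF (H89.Reg.nd_line hw)
    (by rw [finrank_span_singleton (ne_zero_of_ns hw)]; omega)
  obtain ⟨s, c, hc, hs⟩ := exists_move hF (by omega) hw (show hermForm n F q z z ≠ 0 by rw [hz1]; exact one_ne_zero)
  obtain ⟨d, hd⟩ := (mem_Pt hF hn (g := s) (w := w)).1 (by rw [h]; trivial)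
  have h1 : hermForm n F q (c • z) w = 0 := by
    rw [herm_smul_left, hz w (Submodule.mem_span_singleton_self w), mul_zero]
  rw [← hs, hd, herm_smul_left] at h1
  have h2 := norm_eig hw hd
  rw [(mul_eq_zero.1 h1).resolve_right hw, zero_mul] at h2
  exact zero_ne_one h2

/-! ### the residual class -/

theorem mem_gl {Y : Subgroup (PSU n F q)} {g : SU n F q} : suHom n F q g ∈ gl Y ↔ pr g ∈ Y := by
  refine ⟨?_, fun h => ⟨g, h, rfl⟩⟩
  rintro ⟨h, hh, H⟩
  rwa [← suHom_injective H]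

theorem gl_le (Y : Subgroup (PSU n F q)) : gl Y ≤ SUg n F q := by
  rintro _ ⟨g, -, rfl⟩
  exact suHom_mem g

theorem suHom_mulVec (g : SU n F q) (v : Fin n → F) :
    ((suHom n F q g : GL (Fin n) F) : Matrix (Fin n) (Fin n) F) *ᵥ v = act g v := rfl

/-- the order of a subgroup of a residual group divides the order of the automorphism group of the socle -/
theorem card_dvd_aut {Y : Subgroup (PSU n F q)} {H P : Subgroup (GL (Fin n) F)} (hP : IsResidualCore H P)
    (hY : gl Y ≤ H) : Nat.card Y ∣ Nat.card (MulAut (P ⧸ (scalars (Fin n) F).subgroupOf P)) := by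
  have hfin : Finite (SU n F q) := inferInstance
  obtain ⟨φ, hφ⟩ := H269.U5.exists_act hP
  let ι : Y.comap (pr : SU n F q →* _) →* H :=
    ((suHom n F q).comp (Y.comap pr).subtype).codRestrict H fun g => hY (mem_gl.2 g.2)
  have h1 : ((φ.comp ι).ker.map (Y.comap pr).subtype) ≤ center (SU n F q) := by
    rintro _ ⟨g, hg, rfl⟩
    obtain ⟨c, hc⟩ := (mem_scalars_iff _).1 (hφ (ι g) hg)
    refine mem_center_of_act (c := (c : F)) fun v => ?_
    have h2 : ((suHom n F q g : GL (Fin n) F) : Matrix (Fin n) (Fin n) F) = (c : F) • (1 : Matrix (Fin n) (Fin n) F) := hc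
    rw [← suHom_mulVec]
    change ((suHom n F q g : GL (Fin n) F) : Matrix (Fin n) (Fin n) F) *ᵥ v = _
    rw [h2, smul_mulVec, one_mulVec]
  obtain ⟨c, hc⟩ := card_dvd_of_le h1
  rw [card_map_of_injective (subtype_injective _)] at hc
  have h2 := (φ.comp ι).ker.card_mul_index
  rw [index_ker, card_comap_pr, hc, mul_assoc] at h2
  have h3 := Nat.eq_of_mul_eq_mul_left Nat.card_pos h2
  exact (Dvd.intro_left c h3.symm).trans (card_subgroup_dvd_card _)

/-- a proper subgroup in no geometric class lies in a maximal subgroup of the residual class -/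
theorem exists_res (hF : Fintype.card F = q ^ 2) (hn : 3 ≤ n) (h32 : ¬ (n = 3 ∧ q = 2)) {Y : Subgroup (PSU n F q)}
    (hY : Y ≠ ⊤) (h : NG Y) :
    ∃ H : Subgroup (GL (Fin n) F), IsMaximalIn (SUg n F q) H ∧ gl Y ≤ H ∧ InUnitaryResidualClass H := by
  obtain ⟨H, hH, hAH⟩ := H533.Reg.exists_max (H89.Reg.comap_ne_top hY)
  rcases S5663.result n q hF hn h32 H hH.1.le (H918.sup_scalars_ne hF hn h32 hH) with ⟨M, hM, hHM⟩ | hres
  · exact absurd (le_trans hAH hHM) (h M hM)
  · exact ⟨H, hH, hAH, hres⟩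

end Cfsg.Agent.SM.U
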