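import Cfsg.Agent.SM.U.B11A
import Cfsg.Agent.S5948

/-!
# SM (S3570), `PSU_n(q)`, `n ≥ 11` odd: `box11_of` (helper89)
-/

set_option autoImplicit false

namespace Cfsg.Agent.SM.U

/-- **`PSU_n(q)`, `n ≥ 11` odd, has no factorisation** -/
theorem box11_of (h : BoxNF) : Box11 :=
  B11.box11_core (fun hF n k hn hk g h1 h2 h3 H hg hi => Cfsg.Agent.S5948.result hF n k hn hk g h1 h2 h3 H hg hi) h

end Cfsg.Agent.SM.U
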