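import Cfsg.Agent.SM.U.Defs2

/-!
# SM (S3570), `PSU_n(q)`, `n ≥ 11` odd: no factorisation (helper89)

* `full_elt` : an element generating a cyclic Sylow subgroup;
* `field` : the factor containing it normalises an adjoint closed field of odd prime degree;
* `point`, `thirteen`, `odd_case` : the other factor fixes a nonsingular point.
-/

set_option autoImplicit false
set_option linter.unusedSectionVars false
set_option maxHeartbeats 200000

namespace Cfsg.Agent.SM.U.B11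

open Cfsg Cfsg.Geo Module Matrix
open Cfsg.Agent.LieClassical.HermSiegel (act mat act_mul act_one act_inv_act act_act_inv herm_act)
open Cfsg.Agent.H278.Cov Cfsg.Agent.H851.Dg
open Cfsg.Agent.GpUn (fx mem_fx ND)
open Cfsg.Agent.H674.SUBlock (pr pr_surjective)
open Cfsg.Agent.H251.GeoU (nat_card_eq)
open Cfsg.Agent.H918 (suHom SUg suHom_injective)
open Cfsg.Agent.H89.Reg
open Cfsg.Agent.SM.Ex78 (Pd)

variable {F : Type} [Field F] [Fintype F] {N n p f : ℕ}

/-- prime powers in a subgroup of coprime index -/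
theorem pow_dvd {S : Type} [Group S] {X : Subgroup S} {l v : ℕ} (hl : l.Prime) (hi : ¬ l ∣ X.index)
    (h : l ^ v ∣ Nat.card S) : l ^ v ∣ Nat.card X := by
  rw [← X.card_mul_index] at h
  exact (Nat.Coprime.pow_left v ((Nat.Prime.coprime_iff_not_dvd hl).2 hi)).dvd_of_dvd_mul_right h

theorem idx {q : ℕ} {X Y : Subgroup (PSU N F q)} (h : Pd X Y) {s : ℕ}
    (hX : ¬ s ∣ Nat.card (X.comap (pr : SU N F q →* _))) : ¬ s ∣ Y.index :=
  fun h1 => hX ((h1.trans h.index_dvd).trans (card_dvd_comap X))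

theorem cyc (hp : p.Prime) (hf : 1 ≤ f) (hF : Fintype.card F = (p ^ f) ^ 2) (hN : 3 ≤ N) {k l : ℕ} (hl : Pm p f k l)
    (hodd : Odd k) (hk : 2 ≤ k) (hkN : k ≤ N) (hNk : N < 2 * k) : CycP l (PSU N F (p ^ f)) := by
  have hord := hl.ord hp hf (by omega) hodd
  exact H953.Dg.cyc_psu hF hN ⟨hl.pr, by rw [hord]; exact hNk, by rw [hord]; exact hkN⟩

/-- the full cyclic Sylow subgroup -/
theorem full_elt {X : Subgroup (PSU N F (p ^ f))} (hp : p.Prime) (hf : 1 ≤ f) (hF : Fintype.card F = (p ^ f) ^ 2)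
    (hN : 3 ≤ N) {k l : ℕ} (hl : Pm p f k l) (hodd : Odd k) (hk : 2 ≤ k) (hkN : k ≤ N) (hNk : N < 2 * k)
    (hi : ¬ l ∣ X.index) :
    ∃ x ∈ X.comap (pr : SU N F (p ^ f) →* _), orderOf x = l ^ ((p ^ f) ^ k + 1).factorization l := by
  have hcyc := cyc hp hf hF hN hl hodd hk hkN hNk
  set v := ((p ^ f) ^ k + 1).factorization l with hv
  have h1 : l ^ v ∣ Nat.card (PSU N F (p ^ f)) := by
    refine pow_dvd_psu hF hl.pr (hl.not_dvd_succ hf hk) (i := k - 1) (by omega) (by omega) ?_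
    have hev : Even (k - 1) := by
      obtain ⟨c, hc⟩ := hodd
      exact ⟨c, by omega⟩
    rw [if_pos hev, Nat.sub_add_cancel (by omega)]
    exact Nat.ordProj_dvd _ _
  have h2 : l ^ v ∣ Nat.card X := pow_dvd hl.pr hi h1
  have := Fact.mk hl.pr
  obtain ⟨K, hK⟩ := Sylow.exists_subgroup_card_pow_prime l h2
  have hKp : IsPGroup l (K.map X.subtype) := by
    rw [IsPGroup.iff_card]
    exact ⟨v, by rw [Subgroup.card_map_of_injective X.subtype_injective, hK]⟩
  have hKc := hcyc _ hKp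
  obtain ⟨g, hg⟩ := IsCyclic.exists_generator (α := K.map X.subtype)
  have hgo : orderOf (g : PSU N F (p ^ f)) = l ^ v := by
    rw [Subgroup.orderOf_coe, orderOf_eq_card_of_forall_mem_zpowers hg,
      Subgroup.card_map_of_injective X.subtype_injective, hK]
  have hgX : (g : PSU N F (p ^ f)) ∈ X := by
    obtain ⟨y, -, hy⟩ := g.2
    rw [← hy]
    exact y.2
  exact lift_order hgX hgo (pow_pos hl.pr.pos _)

theorem dvd_of_idx {q : ℕ} {X : Subgroup (PSU N F q)} {l : ℕ} (hl : l.Prime) (hi : ¬ l ∣ X.index)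
    (h : l ∣ Nat.card (PSU N F q)) : l ∣ Nat.card X := by
  have h1 := pow_dvd (v := 1) hl hi (by rwa [pow_one])
  rwa [pow_one] at h1

/-- **the factor containing the Sylow subgroup of the primitive prime normalises an adjoint closed field** -/
theorem field (hP : Cfsg.Agent.H659.CovCore.S5948Stmt.{0}) (hp : p.Prime) (hf : 1 ≤ f)
    (hF : Fintype.card F = (p ^ f) ^ 2) (hN : 11 ≤ N) (hodd : Odd N) {X : Subgroup (PSU N F (p ^ f))} (hX : X ≠ ⊤)
    {l : ℕ} (hl : Gd p f N l) (hi : ¬ l ∣ X.index) :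
    ∃ (r : ℕ) (K : Subalgebra F (Matrix (Fin N) (Fin N) F)), r.Prime ∧ Odd r ∧ IsFieldSubalgebra r K ∧
      IsAdjointClosedFor (hermForm N F (p ^ f)) K ∧ gl X ≤ subalgebraNormalizer K := by
  obtain ⟨H, hH, hAH⟩ := H533.Reg.exists_max (comap_ne_top hX)
  have hfinG : Finite (GL (Fin N) F) := inferInstance
  have hd : l ∣ Nat.card X := dvd_of_idx hl.pr hi (hl.toPm.dvd_psu hp hf (by omega) hodd le_rfl hF)
  have hdH : Nat.card X ∣ Nat.card H := (card_dvd_comap X).trans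
    ((Subgroup.card_map_of_injective suHom_injective).symm.dvd.trans (Subgroup.card_dvd_of_le hAH))
  rcases S5663.result N (p ^ f) hF (by omega) (by omega) H hH.1.le (H918.sup_scalars_ne hF (by omega) (by omega) hH) with
    ⟨M, hM, hHM⟩ | ⟨P, hc, -⟩
  · rcases H533.Reg.class_gen hF hp hf (by omega) hodd le_rfl (by omega) hl.toPm hM
      ((hd.trans hdH).trans (Subgroup.card_dvd_of_le hHM)) with ⟨h1, -⟩ | ⟨-, r, K, hr, hro, hK, hadj, rfl⟩
    · omega
    · exact ⟨r, K, hr, hro, hK, hadj, le_trans hAH (hHM.trans inf_le_left)⟩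
  exfalso
  obtain ⟨x, hx, hxo⟩ := full_elt hp hf hF (by omega) hl.toPm hodd (by omega) le_rfl (by omega) hi
  have hnum : Num ((p ^ f) ^ 2) N N (orderOf x) := by
    rw [hxo]; exact hl.num hp hf (by omega) (by omega) (by omega)
  have hxp := pow_full hxo
  have hx1 : x ≠ 1 := ne_one_of_num hnum
  have hlo := hl.toPm.card_ord hp hf (by omega) hodd hF
  have hAt : H.comap (suHom N F (p ^ f)) ≠ ⊤ := by
    intro h1
    apply hH.1.not_ge
    intro g hg
    obtain ⟨a, rfl⟩ := H918.exists_suHom hg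
    have h2 : a ∈ H.comap (suHom N F (p ^ f)) := by rw [h1]; trivial
    exact h2
  have hxA : x ∈ H.comap (suHom N F (p ^ f)) := hAH ⟨x, hx, rfl⟩
  rcases ogs hP hF hAt hxA hnum with ⟨W, h0, h1, h2⟩ | ⟨r, hr, -, E, hE, h3⟩
  · obtain ⟨W'', h3, h4, h5⟩ := exists_small hF h0 h1 h2
    have h6 := Submodule.finrank_mono (le_fx hl.pr hlo hxp (h5 x hxA) (by omega))
    have h7 := fx_dim hl.pr hlo (by omega) hxp hx1
    omega
  · refine H918.not_le_subalgebraNormalizer hc.perfect hc.absIrred hr.two_le hE fun g hg => ?_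
    obtain ⟨a, rfl⟩ := H918.exists_suHom (hH.1.le (hc.le hg))
    exact h3 a (hc.le hg)

/-- the primes missing from the normaliser of a field -/
theorem primes (hp : p.Prime) (hf : 1 ≤ f) (hF : Fintype.card F = (p ^ f) ^ 2) (hn : 10 ≤ n) (hev : Even n)
    {A : Subgroup (SU (n + 1) F (p ^ f))} {r : ℕ} (hr : r.Prime) (hrn : r ∣ n + 1) (hNF : NF A r) {k s : ℕ}
    (hk : k = n - 1 ∨ k = n - 3) (hs : Pm p f k s) : ¬ s ∣ Nat.card A := by
  obtain ⟨c, hc⟩ := hev
  have hr2 : r ≠ 2 := by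
    rintro rfl
    omega
  have hodd : Odd k := by
    rcases hk with rfl | rfl
    · exact ⟨c - 1, by omega⟩
    · exact ⟨c - 2, by omega⟩
  intro hsd
  have hslt := hs.lt hp hf (by omega)
  have hkf : 2 * k * 1 ≤ 2 * k * f := Nat.mul_le_mul_left _ hf
  have hrle : r ≤ n + 1 := Nat.le_of_dvd (by omega) hrn
  obtain ⟨i, hi1, hi2, hi3⟩ := hNF.div hF hr (by omega) hs.pr (hs.not_dvd_q hp hf (by omega)) (by omega)
    (hs.card_ord hp hf (by omega) hodd hF) hsd
  obtain ⟨d, hd⟩ := hi3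
  have hd1 : d = 1 := by
    rcases d with _ | _ | d
    · have := hr.pos
      rw [mul_zero] at hd
      rcases Nat.mul_eq_zero.1 hd with h | h <;> omega
    · rfl
    · have : k * 2 ≤ k * (d + 1 + 1) := Nat.mul_le_mul_left _ (by omega)
      omega
  rw [hd1, mul_one] at hd
  have h3 := Nat.dvd_sub hrn ⟨i, hd.symm⟩
  rcases hk with rfl | rfl
  · rw [show n + 1 - (n - 1) = 2 by omega] at h3
    exact hr2 ((Nat.prime_dvd_prime_iff_eq hr Nat.prime_two).1 h3)
  · rw [show n + 1 - (n - 3) = 2 ^ 2 by omega] at h3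
    exact hr2 ((Nat.prime_dvd_prime_iff_eq hr Nat.prime_two).1 (hr.dvd_of_dvd_pow h3))

/-- the second factor fixes a subspace of dimension at most two -/
theorem small (hP : Cfsg.Agent.H659.CovCore.S5948Stmt.{0}) (hp : p.Prime) (hf : 1 ≤ f)
    (hF : Fintype.card F = (p ^ f) ^ 2) (hn : 10 ≤ n) (hev : Even n) {X Y : Subgroup (PSU (n + 1) F (p ^ f))}
    (h : Pd X Y) (hY : Y ≠ ⊤) {r : ℕ} (hr : r.Prime) (hrn : r ∣ n + 1)
    (hNF : NF (X.comap (pr : SU (n + 1) F (p ^ f) →* _)) r) :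
    ∃ W : Submodule F (Fin (n + 1) → F), 1 ≤ finrank F W ∧ finrank F W ≤ 2 ∧
      InvA (Y.comap (pr : SU (n + 1) F (p ^ f) →* _)) W := by
  obtain ⟨c, hc⟩ := hev
  have hev : Even n := ⟨c, hc⟩
  have ho1 : Odd (n - 1) := ⟨c - 1, by omega⟩
  obtain ⟨k', hk'o, hk', l', hl'⟩ := odd_good (p := p) (f := f) hp hf hn hev
  obtain ⟨x, hx, hxo⟩ := full_elt hp hf hF (by omega) hl'.toPm hk'o (by omega) (by omega) (by omega)
    (idx h (primes hp hf hF hn hev hr hrn hNF (by omega) hl'.toPm))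
  obtain ⟨s, hs⟩ := exists_pm (p := p) (f := f) (k := n - 1) hp hf (by omega) ho1
  obtain ⟨y, hy, hys, hy1, -⟩ := exists_elt_pr hs.pr (dvd_of_idx hs.pr
    (idx h (primes hp hf hF hn hev hr hrn hNF (Or.inl rfl) hs)) (hs.dvd_psu hp hf (by omega) ho1 (by omega) hF))
  exact odd_small hP hp hf hF hn hev (comap_ne_top hY) hk'o hk' hl' hx hxo hs hy hys hy1

/-- an invariant nondegenerate line -/
theorem pt_of {q : ℕ} (hF : Fintype.card F = q ^ 2) (hN : 3 ≤ N) {Y : Subgroup (PSU N F q)}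
    {W : Submodule F (Fin N → F)} (hW : InvA (Y.comap (pr : SU N F q →* _)) W) (h1 : finrank F W = 1) (hnd : ND q W) :
    ∃ w, hermForm N F q w w ≠ 0 ∧ Y ≤ Pt q w := by
  obtain ⟨w, hww, hwW⟩ := exists_span h1 hnd
  refine ⟨w, hww, ?_⟩
  have h2 : (F ∙ w) = W := by
    refine Submodule.eq_of_le_of_finrank_eq ((Submodule.span_singleton_le_iff_mem _ _).2 hwW) ?_
    rw [finrank_span_singleton (ne_zero_of_ns hww), h1]
  rw [Pt, h2]
  exact (le_St hF hN).2 hW

/-- the second factor contains a prime of order `N - 1` -/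
theorem point (hF : Fintype.card F = (p ^ f) ^ 2) (hn : 10 ≤ n) (hev : Even n)
    {Y : Subgroup (PSU (n + 1) F (p ^ f))} {W : Submodule F (Fin (n + 1) → F)} (hW1 : 1 ≤ finrank F W)
    (hW2 : finrank F W ≤ 2) (hWA : InvA (Y.comap (pr : SU (n + 1) F (p ^ f) →* _)) W) {t : ℕ} (ht : Ev p f n t)
    (htY : t ∣ Nat.card Y) : ∃ w, hermForm (n + 1) F (p ^ f) w w ≠ 0 ∧ Y ≤ Pt (p ^ f) w := by
  obtain ⟨z, hz, hzt, hz1, -⟩ := exists_elt_pr ht.pr htY
  have hto := ht.card_ord hev hF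
  have htq : ¬ t ∣ p ^ f := Cfsg.Agent.H251.GeoU.not_dvd_of_ord ht.pr ht.ord (by omega)
  have hWz : W ≤ fx z := le_fx (a := 1) ht.pr hto (by rw [pow_one]; exact hzt) (hWA z hz) (by omega)
  have h6 := fx_dim_neg hF ht.pr htq hzt hz1
  rw [ht.ord] at h6
  have hWd : finrank F W = 1 := by
    have := Submodule.finrank_mono hWz
    omega
  have hWeq : W = fx z := Submodule.eq_of_le_of_finrank_le hWz (by omega)
  have hnd : ND (p ^ f) W := by
    rw [hWeq]; exact nd_fx (a := 1) hF ht.pr htq (by rw [pow_one]; exact hzt)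
  exact pt_of hF (by omega) hWA hWd hnd

/-- `PSU_13(2)` -/
theorem thirteen (hF : Fintype.card F = (2 ^ 1) ^ 2) {X Y : Subgroup (PSU (12 + 1) F (2 ^ 1))} (h : Pd X Y)
    (hNF : NF (X.comap (pr : SU (12 + 1) F (2 ^ 1) →* _)) 13) {W : Submodule F (Fin (12 + 1) → F)}
    (hW1 : 1 ≤ finrank F W) (hW2 : finrank F W ≤ 2) (hWA : InvA (Y.comap (pr : SU (12 + 1) F (2 ^ 1) →* _)) W) :
    ∃ w, hermForm (12 + 1) F (2 ^ 1) w w ≠ 0 ∧ Y ≤ Pt (2 ^ 1) w := by
  have h13 : Nat.Prime 13 := by norm_num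
  have p7 : Nat.Prime 7 := by norm_num
  have ho7 : orderOf ((Nat.card F : ℕ) : ZMod 7) = 3 := by
    rw [nat_card_eq hF]
    exact ord_seven'
  have h7X : ¬ 7 ∣ Nat.card (X.comap (pr : SU (12 + 1) F (2 ^ 1) →* _)) := by
    intro hd
    obtain ⟨i, hi1, hi2, hi3⟩ := hNF.div hF h13 (by norm_num) p7 (by norm_num) (by norm_num) ho7 hd
    have : i = 1 := by omega
    subst this
    omega
  have h49 : 7 ^ 2 ∣ Nat.card Y := pow_dvd p7 (idx h h7X) (dvd_49' (by norm_num) hF)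
  have hfin : Finite (SU (12 + 1) F (2 ^ 1)) := inferInstance
  set K := Y.comap (pr : SU (12 + 1) F (2 ^ 1) →* _) with hK
  have := Fact.mk p7
  obtain ⟨P0, hP0⟩ := Sylow.exists_subgroup_card_pow_prime 7 (h49.trans (card_dvd_comap Y))
  set P := P0.map K.subtype with hPdef
  have hPK : P ≤ K := Subgroup.map_subtype_le _
  have hPc : Nat.card P = 7 ^ 2 := by rw [hPdef, Subgroup.card_map_of_injective K.subtype_injective, hP0]
  have hfixW := fix_small hF hWA hW2 hPK hPc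
  have hWd : finrank F W = 1 := by
    have := fix_49' (by norm_num) hF P hPc hfixW
    omega
  let C : Submodule F (Fin (12 + 1) → F) :=
    { carrier := {v | ∀ g ∈ P, act g v = v}
      add_mem' := fun {u v} hu hv g hg => by
        rw [Cfsg.Agent.LieClassical.HermSiegel.act_add, hu g hg, hv g hg]
      zero_mem' := fun g _ => Cfsg.Agent.LieClassical.HermSiegel.act_zero g
      smul_mem' := fun c v hv g hg => by
        rw [Cfsg.Agent.LieClassical.HermSiegel.act_smul, hv g hg] }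
  have hC : ∀ v, v ∈ C ↔ ∀ g ∈ P, act g v = v := fun _ => Iff.rfl
  have hWC : W ≤ C := fun w hw g hg => hfixW g hg w hw
  have hCd : finrank F C ≤ 1 := by
    have := fix_49' (by norm_num) hF P hPc (W := C) fun g hg w hw => hw g hg
    omega
  have hWeq : W = C := Submodule.eq_of_le_of_finrank_le hWC (by omega)
  have hnd : ND (2 ^ 1) W := by
    rw [hWeq]
    exact nd_fix_group hF P p7 (by norm_num) hPc hC
  exact pt_of hF (by norm_num) hWA hWd hnd

/-- **the second factor fixes a nonsingular point** -/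
theorem odd_case (hP : Cfsg.Agent.H659.CovCore.S5948Stmt.{0}) (hp : p.Prime) (hf : 1 ≤ f)
    (hF : Fintype.card F = (p ^ f) ^ 2) (hn : 10 ≤ n) (hev : Even n) {X Y : Subgroup (PSU (n + 1) F (p ^ f))}
    (h : Pd X Y) (hY : Y ≠ ⊤) {r : ℕ} (hr : r.Prime) (hrn : r ∣ n + 1)
    (hNF : NF (X.comap (pr : SU (n + 1) F (p ^ f) →* _)) r) :
    ∃ w, hermForm (n + 1) F (p ^ f) w w ≠ 0 ∧ Y ≤ Pt (p ^ f) w := by
  obtain ⟨W, hW1, hW2, hWA⟩ := small hP hp hf hF hn hev h hY hr hrn hNF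
  obtain ⟨c, hc⟩ := hev
  have hev : Even n := ⟨c, hc⟩
  set H := X.comap (pr : SU (n + 1) F (p ^ f) →* _) with hH
  have hrle : r ≤ n + 1 := Nat.le_of_dvd (by omega) hrn
  by_cases hex : n = 12 ∧ p ^ f = 2
  · obtain ⟨rfl, h2⟩ := hex
    have hp2 : p = 2 := by
      have h3 : p ∣ 2 := by rw [← h2]; exact dvd_pow_self p (by omega)
      exact (Nat.prime_dvd_prime_iff_eq hp Nat.prime_two).1 h3
    subst hp2
    have hf1 : f = 1 := Nat.pow_right_injective le_rfl (by rw [h2, pow_one] : 2 ^ f = 2 ^ 1)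
    subst hf1
    have hr13 : r = 13 := (Nat.prime_dvd_prime_iff_eq hr (by norm_num)).1 hrn
    subst hr13
    exact thirteen hF h hNF hW1 hW2 hWA
  obtain ⟨t, ht, ht'⟩ := exists_ev' hp hf hn hev hex
  have hto := ht.card_ord hev hF
  have htle := ht.le (by omega)
  have htq : ¬ t ∣ p ^ f := Cfsg.Agent.H251.GeoU.not_dvd_of_ord ht.pr ht.ord (by omega)
  have key : t ≠ r → t ∣ Nat.card Y := by
    intro htr
    refine dvd_of_idx ht.pr (idx h fun htd => ?_) (ht.dvd_psu (by omega) (by omega) hF)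
    obtain ⟨i, hi1, hi2, d, hd⟩ := hNF.div hF hr (by omega) ht.pr htq htr hto htd
    have hr0 := hr.pos
    have hri : 0 < r * i := Nat.mul_pos hr0 hi1
    have hrn' : r ∣ n := by
      rcases d with _ | _ | _ | d
      · omega
      · refine ⟨i * 2, ?_⟩
        rw [← mul_assoc, hd]
        omega
      · exact ⟨i, by omega⟩
      · exfalso
        have : n / 2 * 3 ≤ n / 2 * (d + 1 + 1 + 1) := Nat.mul_le_mul_left _ (by omega)
        omega
    exact hr.one_lt.ne' (Nat.dvd_one.1 ((Nat.dvd_add_right hrn').1 hrn))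
  have htY : t ∣ Nat.card Y := by
    by_cases htr : t = r
    swap
    · exact key htr
    have htn : t = n + 1 := by omega
    have hsq : t ^ 2 ∣ (p ^ f) ^ n - 1 := ht'.resolve_left (fun h1 => h1 htn)
    have h1 : t ^ 2 ∣ Nat.card (PSU (n + 1) F (p ^ f)) := by
      refine pow_dvd_psu hF ht.pr (ht.not_dvd_succ (by omega)) (i := n - 1) (by omega) (by omega) ?_
      have hne : ¬ Even (n - 1) := by
        rintro ⟨d, hd⟩
        omega
      rw [if_neg hne, Nat.sub_add_cancel (by omega)]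
      exact hsq
    have h2 : ¬ t ^ 2 ∣ Nat.card H := by
      intro h3
      rw [← htr, htn] at hNF
      have h4 := h3.trans (hNF.card_full hF (by omega))
      rw [← htn, pow_two] at h4
      have h5 := Nat.dvd_of_mul_dvd_mul_left ht.pr.pos h4
      have h6 : n / 2 ∣ t := by
        have hq1 : 1 ≤ Nat.card F := Nat.card_pos
        rw [← hto, ← Lib.Zsigmondy.dvd_pow_sub_one_iff hq1, nat_card_eq hF, ← pow_mul]
        exact h5
      have h7 : n / 2 ∣ n := ⟨2, by omega⟩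
      rw [htn] at h6
      have h8 := (Nat.dvd_add_right h7).1 h6
      have := Nat.le_of_dvd (by norm_num) h8
      omega
    by_contra h3
    apply h2
    refine dvd_trans ?_ (card_dvd_comap X)
    exact (Nat.Coprime.pow_left 2 ((Nat.Prime.coprime_iff_not_dvd ht.pr).2 h3)).dvd_of_dvd_mul_right
      (h1.trans h.card_dvd)
  exact point hF hn hev hW1 hW2 hWA ht htY

/-- one factor contains the Sylow subgroup of the primitive prime -/
theorem main (hP : Cfsg.Agent.H659.CovCore.S5948Stmt.{0}) (hNF : BoxNF) (hp : p.Prime) (hf : 1 ≤ f)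
    (hF : Fintype.card F = (p ^ f) ^ 2) (hN : 11 ≤ N) (hodd : Odd N) {X Y : Subgroup (PSU N F (p ^ f))}
    (h : Pd X Y) (hX : X ≠ ⊤) (hY : Y ≠ ⊤) {l : ℕ} (hl : Gd p f N l) (hi : ¬ l ∣ X.index) : False := by
  obtain ⟨r, K, hr, hro, hK, hadj, hXK⟩ := field hP hp hf hF hN hodd hX hl hi
  obtain ⟨n, rfl⟩ : ∃ n, N = n + 1 := ⟨N - 1, by omega⟩
  have hne : Nonempty (Fin (n + 1)) := ⟨⟨0, by omega⟩⟩
  have h1 := H912.finrank_dvd_of_fieldSub hK
  rw [Fintype.card_fin] at h1
  have hev : Even n := by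
    obtain ⟨c, hc⟩ := hodd
    exact ⟨c, by omega⟩
  obtain ⟨w, hw, hYw⟩ := odd_case hP hp hf hF (by omega) hev h hY hr h1 ⟨K, hK, fun g hg => hXK ⟨g, hg, rfl⟩⟩
  exact hNF F (n + 1) (p ^ f) hF (by omega) _ (tr_of_pd hF (by omega) h.symm hw hYw) r K hr hro hK hadj hXK

theorem box11_core (hP : Cfsg.Agent.H659.CovCore.S5948Stmt.{0}) (hNF : BoxNF) : Box11 := by
  intro F _ _ n q hF hn hodd X Y hX hY h
  obtain ⟨p, f, hp, hf, rfl, -⟩ := H251.GeoU.exists_prime_power hF
  obtain ⟨l, hl⟩ := exists_gd (p := p) (f := f) (k := n) hp hf (by omega) hodd (by omega)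
  rcases h.cyc hl.pr (cyc hp hf hF (by omega) hl.toPm hodd (by omega) le_rfl (by omega)) with hi | hi
  · exact main hP hNF hp hf hF hn hodd h hX hY hl hi
  · exact main hP hNF hp hf hF hn hodd h.symm hY hX hl hi

end Cfsg.Agent.SM.U.B11
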