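import Cfsg.Agent.SM.SpC.Bt
import Cfsg.Agent.H474.Suz13.Main
import Cfsg.Agent.H940.EngLoc
import Cfsg.Agent.H824.ProdLem
import Cfsg.Agent.H855.RC.Small
import Cfsg.Agent.KFacts.SuzOut
import Cfsg.Agent.S2119
import Cfsg.Agent.S0494
import Cfsg.Agent.S0497
import Cfsg.Agent.S1694

/-!
# SM (S3570), `PSU_12(2)` with `T = PSU_11(2)`: the abstract part (helper21)

* `sub_aut` : the subgroups of `Aut (Suz)` of order divisible by `2795520`;
* `fit` : groups of order `90`, `180`, `2430`, `4860`, `160380`, `320760` have a non-trivial Fitting subgroup;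
* `lc_prime` : `Lc U V`, `O_p(V) ≠ 1`, `p² ∤ |V|` give `p² ∤ |U|`.
-/

set_option autoImplicit false

namespace Cfsg.Agent.SM.U.B12B

open Cfsg Subgroup Cfsg.Agent.H940.Eng Cfsg.Agent.H940.Eng.D
open Cfsg.Spor (Suz)

theorem cardS : Nat.card Suz = n_suz := S1694.result.2

theorem finS : Finite Suz := Nat.finite_of_card_ne_zero (by rw [cardS]; decide)

theorem nabS : ¬ ∀ a b : Suz, a * b = b * a := by
  intro h
  have := finS
  have := S1694.result.1
  let : CommGroup Suz := { (inferInstance : Group Suz) with mul_comm := h }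
  have h1 := IsSimpleGroup.prime_card (α := Suz)
  rw [cardS] at h1
  rcases h1.eq_one_or_self_of_dvd 2 (by decide +kernel) with h2 | h2 <;> exact absurd h2 (by decide +kernel)

theorem loc13 : Loc Suz ⟨13, 13, [(2, 1), (3, 1), (13, 1)]⟩ := by
  have := finS
  have := S1694.result.1
  refine loc_of_eq cardS (by decide +kernel) (by decide +kernel) (by decide +kernel) fun R hR => ?_
  obtain ⟨z, hz, hc⟩ := H474.Suz13.suz_thirteen
  have hR0 : Nat.card (zpowers (z : Suz)) = 13 := by rw [Nat.card_zpowers, hz]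
  obtain ⟨h1, h2⟩ : Nat.card (centralizer (R : Set Suz)) = 13 ∧ Nat.card (normalizer (R : Set Suz)) = 78 := by
    refine cn_exact nabS cardS (by decide +kernel) (by decide +kernel) (fC := [(13, 1)]) (by decide +kernel)
      hR0 ?_ (by decide +kernel) hR
    rw [H904.SylOne.centralizer_zpowers_eq, hc]
    decide +kernel
  rw [h1, h2]
  decide

theorem sub_suz (X : Subgroup Suz) (h : 1397760 ∣ Nat.card X) : X.index = 1 ∨ X.index = 66 ∨ X.index = 1782 := by
  have := finS
  have := S1694.result.1
  have h1 := top_of_check (G := Suz) v_suz cardS (ords_suz BMx.engBase) (loc := [⟨13, 13, [(2, 1), (3, 1), (13, 1)]⟩])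
    (fun ld hld => List.mem_singleton.1 hld ▸ loc13) (allow := [66, 1782]) (full := []) (bd := 20)
    (lD := [(2, 3), (3, 6), (5, 1), (11, 1)]) (by decide +kernel) (L := 1397760) (by decide +kernel) (H := X)
    (by simp) h (by decide +kernel)
  rcases h1 with h1 | h1
  · exact .inl (index_eq_one.2 h1)
  · exact .inr (by simpa using h1)

/-- a non-abelian simple group has a trivial centre -/
theorem conj_inj {M : Type} [Group M] (hs : IsSimpleGroup M) (hn : ¬ ∀ a b : M, a * b = b * a) {g : M}
    (h : ∀ x, g * x = x * g) : g = 1 := by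
  rcases (inferInstance : (center M).Normal).eq_bot_or_eq_top with h1 | h1
  · exact mem_bot.1 (h1 ▸ mem_center_iff.2 fun x => (h x).symm)
  · exact absurd (fun a b => mem_center_iff.1 (h1.ge (mem_top b)) a) hn

/-- **the large subgroups of the automorphism group** -/
theorem sub_aut (R : Subgroup (MulAut Suz)) {a : ℕ} (h : Nat.card R = a * 2795520) :
    a = 90 ∨ a = 180 ∨ a = 2430 ∨ a = 4860 ∨ a = 160380 ∨ a = 320760 := by
  have := finS
  have hi : Function.Injective (MulAut.conj : Suz →* MulAut Suz) := (injective_iff_map_eq_one _).2 fun g hg =>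
    conj_inj S1694.result.1 nabS fun x => mul_inv_eq_iff_eq_mul.1 (DFunLike.congr_fun hg x)
  obtain ⟨I, hI⟩ : ∃ I, I = (MulAut.conj : Suz →* MulAut Suz).range := ⟨_, rfl⟩
  have hn : I.Normal := hI ▸ inferInstance
  have h1 : Nat.card (R.comap (MulAut.conj : Suz →* MulAut Suz)) * I.relIndex R = Nat.card R := by
    rw [← card_map_of_injective hi, map_comap_eq, ← hI, ← (I.subgroupOf R).card_mul_index, relIndex]
    congr 1
    rw [← inf_subgroupOf_right]
    exact (Nat.card_congr (subgroupOfEquivOfLe inf_le_right).toEquiv).symm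
  have h2 : I.relIndex R = 1 ∨ I.relIndex R = 2 := by
    refine (Nat.dvd_prime Nat.prime_two).1 ((relIndex_dvd_index_of_normal I R).trans ?_)
    rcases KFacts.SuzOut.index_eq with h2 | h2 <;> rw [hI, h2]
    exact one_dvd 2
  generalize R.comap (MulAut.conj : Suz →* MulAut Suz) = X at h1
  have h3 := X.card_mul_index
  rw [cardS, n_suz] at h3
  have h4 := sub_suz X (by rcases h2 with h2 | h2 <;> rw [h2, h] at h1 <;> omega)
  rcases h2 with h2 | h2 <;> rcases h4 with h4 | h4 | h4 <;> rw [h2, h] at h1 <;> rw [h4] at h3 <;> omega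

theorem ords : Ords.{0} 320760 [60, 360, 660] :=
  ords_of BMx.engBase (l := [(2, 3), (3, 6), (5, 1), (11, 1)]) (by decide +kernel) (by decide +kernel)

theorem solv : ∀ (n : ℕ) (H : Type) [Group H] [Finite H], Nat.card H = n → Nat.card H ∣ 320760 → ¬ 5 ∣ Nat.card H →
    Group.IsSolvable H := by
  intro n
  induction n using Nat.strong_induction_on with
  | _ n ih =>
    intro H _ _ hn hd h5
    rcases subsingleton_or_nontrivial H with h1 | h1
    · infer_instance
    by_cases hs : IsSimpleGroup H
    · by_contra hns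
      have h2 := ords H hs (fun h => hns (Group.isSolvable_of_comm h)) hd
      simp only [List.mem_cons, List.not_mem_nil, or_false] at h2
      omega
    · obtain ⟨N, hN, hb, ht⟩ : ∃ N : Subgroup H, N.Normal ∧ N ≠ ⊥ ∧ N ≠ ⊤ := by
        by_contra hcon
        refine hs { eq_bot_or_eq_top_of_normal := fun N hN => ?_ }
        by_contra h
        exact hcon ⟨N, hN, (not_or.1 h).1, (not_or.1 h).2⟩
      have hmul := N.card_mul_index
      have hi : 1 < N.index := one_lt_index_of_ne_top ht
      have hc : 1 < Nat.card N := (one_lt_card_iff_ne_bot N).2 hb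
      have s1 : Group.IsSolvable N := ih (Nat.card N) (by rw [← hn, ← hmul]; nlinarith) N rfl
        ((card_subgroup_dvd_card N).trans hd) fun h => h5 (h.trans (card_subgroup_dvd_card N))
      have s2 : Group.IsSolvable (H ⧸ N) := ih (Nat.card (H ⧸ N)) (by rw [← hn, ← hmul, ← index_eq_card]; nlinarith)
        (H ⧸ N) rfl ((card_quotient_dvd_card N).trans hd) fun h => h5 (h.trans (card_quotient_dvd_card N))
      exact Group.isSolvable_of_ker_le_range N.subtype (QuotientGroup.mk' N) (by simp)

open scoped Pointwise in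
/-- the automorphisms act faithfully on the Sylow subgroups -/
theorem aut_dvd {M : Type} [Group M] [Finite M] (hs : IsSimpleGroup M) {p : ℕ} [Fact p.Prime]
    (h1 : Nat.card (Sylow p M) ≠ 1) : Nat.card (MulAut M) ∣ (Nat.card (Sylow p M)).factorial := by
  rw [← Nat.card_perm]
  refine card_dvd_of_injective (MulAction.toPermHom (MulAut M) (Sylow p M))
    ((injective_iff_map_eq_one _).2 fun φ hφ => ?_)
  have h2 : ∀ P : Sylow p M, φ • P = P := fun P => DFunLike.congr_fun hφ P
  have hK : (MulAction.toPermHom M (Sylow p M)).ker = ⊥ := by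
    refine (inferInstance : (MulAction.toPermHom M (Sylow p M)).ker.Normal).eq_bot_or_eq_top.resolve_right fun h => h1 ?_
    refine Nat.card_eq_one_iff_unique.2 ⟨⟨fun P Q => ?_⟩, inferInstance⟩
    obtain ⟨g, rfl⟩ := MulAction.exists_smul_eq M P Q
    exact (DFunLike.congr_fun (MonoidHom.mem_ker.1 (h.ge (mem_top g))) P).symm
  ext g
  refine (MonoidHom.ker_eq_bot_iff _).1 hK (Equiv.ext fun P => ?_)
  change MulAut.conj (φ g) • P = MulAut.conj g • P
  have h3 : MulAut.conj (φ g) * φ = φ * MulAut.conj g := by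
    ext x
    simp
  rw [← h2 (MulAut.conj g • P), ← mul_smul, ← h3, mul_smul, h2]

/-- **the Fitting subgroup is not trivial** -/
theorem fit {A : Type} [Group A] [Finite A]
    (hA : Nat.card A = 90 ∨ Nat.card A = 180 ∨ Nat.card A = 2430 ∨ Nat.card A = 4860 ∨ Nat.card A = 160380 ∨
      Nat.card A = 320760) :
    ∃ p : ℕ, p.Prime ∧ pCore p A ≠ ⊥ := by
  have hd : Nat.card A ∣ 320760 := by rcases hA with h | h | h | h | h | h <;> rw [h] <;> norm_num
  have h25 : ¬ 5 ^ 2 ∣ Nat.card A := fun h => absurd (h.trans hd) (by norm_num)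
  by_cases hK : pPrimeCore 5 A = ⊥
  · have hno : ∀ N : Subgroup A, N.Normal → ¬ 5 ∣ Nat.card N → N = ⊥ := fun N hN h =>
      le_bot_iff.1 (hK ▸ Lib.Cores.le_pPrimeCore hN ((Nat.Prime.coprime_iff_not_dvd Nat.prime_five).2 h).symm)
    obtain ⟨M, hM, hs, h5⟩ := exists_simple_normal Nat.prime_five (by omega) h25 hno
    by_cases hab : ∀ a b : M, a * b = b * a
    · have h1 : (Nat.card M).Prime := by
        let : CommGroup M := { (inferInstance : Group M) with mul_comm := hab }
        exact IsSimpleGroup.prime_card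
      refine ⟨_, h1, fun h0 => h1.one_lt.ne' (card_eq_one.2 (le_bot_iff.1 ?_))⟩
      exact h0 ▸ Lib.Cores.le_pCore hM (IsPGroup.of_card (pow_one _).symm)
    · exfalso
      have h1 : (MulAut.conjNormal : A →* MulAut M).ker = ⊥ := by
        refine hno _ inferInstance fun h => h25 ?_
        have h2 := card_sup_mul_card_inf (MulAut.conjNormal : A →* MulAut M).ker M
        have h3 : (MulAut.conjNormal : A →* MulAut M).ker ⊓ M = ⊥ := by
          rw [eq_bot_iff]
          intro g hg
          refine mem_bot.2 (congrArg Subtype.val (conj_inj hs hab (g := ⟨g, hg.2⟩) fun x => Subtype.ext ?_))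
          exact mul_inv_eq_iff_eq_mul.1 (congrArg Subtype.val (DFunLike.congr_fun (MonoidHom.mem_ker.1 hg.1) x))
        rw [h3, card_bot, mul_one] at h2
        exact (h2 ▸ Nat.mul_dvd_mul h h5 :).trans (card_subgroup_dvd_card _)
      have h2 := card_dvd_of_injective _ ((MonoidHom.ker_eq_bot_iff _).1 h1)
      have h3 := card_subgroup_dvd_card M
      have h4 := ords M hs hab (h3.trans hd)
      simp only [List.mem_cons, List.not_mem_nil, or_false] at h4
      rcases h4 with h4 | h4 | h4
      · obtain ⟨e⟩ := S0494.result h4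
        rw [Nat.card_congr (MulAut.congr e).toEquiv, ← Nat.card_congr (Equiv.ofBijective _
          (S2119.result 5 (by norm_num) (by norm_num))), Nat.card_perm, Nat.card_fin] at h2
        rcases hA with h | h | h | h | h | h <;> rw [h] at h2 <;> exact absurd h2 (by decide)
      · obtain ⟨e⟩ := S0497.result h4
        rw [Nat.card_congr (MulAut.congr e).toEquiv, H824.ProdLem.card_aut_a6] at h2
        rw [h4] at h3
        rcases hA with h | h | h | h | h | h <;> rw [h] at h2 h3 <;> omega
      · have f11 : Fact (Nat.Prime 11) := ⟨by norm_num⟩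
        obtain ⟨R, h6, h7, h8, -⟩ := Sp.Rd.exists_syl (A := M) (p := 11) (k := 1) (m := 60) (by norm_num) (by rw [h4]; rfl)
        have h9 := h2.trans (aut_dvd hs (p := 11) fun h9 => by
          rcases (Sp.Rd.normal_of_card h9 R).eq_bot_or_eq_top with h | h
          · rw [h, card_bot] at h6
            exact absurd h6 (by norm_num)
          · rw [h, card_top, h4] at h6
            exact absurd h6 (by norm_num))
        have h10 : Nat.card (Sylow 11 M) ≤ 12 := by
          have h11 := Nat.le_of_dvd (by norm_num) h7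
          generalize Nat.card (Sylow 11 M) = n at h7 h8 h11
          have h12 : n = 1 ∨ n = 12 ∨ n = 23 ∨ n = 34 ∨ n = 45 ∨ n = 56 := by omega
          rcases h12 with h | h | h | h | h | h <;> subst h <;> omega
        have h11 := h9.trans (Nat.factorial_dvd_factorial h10)
        rw [h4] at h3
        rcases hA with h | h | h | h | h | h <;> rw [h] at h11 h3
        · omega
        · omega
        · omega
        · omega
        · exact absurd h11 (by decide)
        · exact absurd h11 (by decide)
  · have hn := Lib.Cores.pPrimeCore_normal (G := A) 5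
    have h1 := solv _ (pPrimeCore 5 A) rfl ((card_subgroup_dvd_card _).trans hd)
      ((Nat.Prime.coprime_iff_not_dvd Nat.prime_five).1 (Lib.Cores.pPrimeCore_coprime 5).symm)
    have h2 := (nontrivial_iff_ne_bot _).2 hK
    obtain ⟨t, ht, h3⟩ := H855.RC.exists_core (G := pPrimeCore 5 A)
    refine ⟨t, ht, fun h0 => h3 ?_⟩
    rw [← map_eq_bot_iff_of_injective _ (pPrimeCore 5 A).subtype_injective, Lib.Cores.map_subtype_pCore t hn, h0,
      inf_bot_eq]

/-- a normal Sylow subgroup of prime order -/
theorem lc_prime {K : Type} [Group K] [Finite K] {U V : Subgroup K} (hle : V ≤ U) (h : Sp.Lc U V) {p : ℕ} (hp : p.Prime)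
    (hO : pCore p V ≠ ⊥) (h2 : ¬ p ^ 2 ∣ Nat.card V) : ¬ p ^ 2 ∣ Nat.card U := by
  have := Fact.mk hp
  obtain ⟨k, hk⟩ := IsPGroup.iff_card.1 (Lib.Cores.pCore_isPGroup (G := V) p)
  have h1 : k = 1 := by
    have h3 : k ≠ 0 := fun h0 => hO (card_eq_one.1 (by rw [hk, h0, pow_zero]))
    have h4 : ¬ 2 ≤ k := fun h0 => h2 ((pow_dvd_pow p h0).trans (hk ▸ card_subgroup_dvd_card _))
    omega
  subst h1
  obtain ⟨m, hm⟩ : p ^ 1 ∣ Nat.card V := hk ▸ card_subgroup_dvd_card _
  have h3 : ¬ p ∣ m := fun h3 => h2 (by rw [hm, pow_succ]; exact Nat.mul_dvd_mul_left _ h3)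
  have h4 := Sp.Rd.lc_sub h hle
  rw [subgroupOf_self] at h4
  have e := subgroupOfEquivOfLe hle
  have h5 := (Sp.Rd.core h4 hp one_pos h3 ((Nat.card_congr e.toEquiv).trans hm) (pCore p _) (by
    rw [← hk, ← Lib.Cores.map_equiv_pCore e p, card_map_of_injective e.injective]) (Lib.Cores.pCore_normal p)).2
  rw [← (V.subgroupOf U).card_mul_index, Nat.card_congr e.toEquiv, hm, pow_succ, mul_assoc,
    Nat.mul_dvd_mul_iff_left (pow_pos hp.pos 1), hp.dvd_mul]
  rintro (h6 | h6)
  · exact h3 h6
  · rw [Nat.mod_eq_zero_of_dvd h6] at h5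
    exact zero_ne_one h5

end Cfsg.Agent.SM.U.B12B
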