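import Cfsg.Agent.SM.U.B3A
import Cfsg.Agent.H533.Reg.Idx
import Cfsg.Agent.H940.EngData
import Cfsg.Agent.OrdDiv.Table
import Cfsg.Agent.S0000
import Cfsg.Agent.S2149
import Cfsg.Agent.S5779

/-!
# SM (S3570), `PSU_3(q)`: `box3` (helper74)
-/

set_option autoImplicit false
set_option linter.unusedSectionVars false

namespace Cfsg.Agent.SM.U

namespace B3

open Module Cfsg Cfsg.Geo Cfsg.Agent.LieClassical.HermBasic Cfsg.Agent.H918 Cfsg.Agent.H89.Reg Cfsg.Agent.H533.Reg
open Cfsg.Agent.ClassicalGeometry.HermOrtho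
open Cfsg.Agent.H674.SUBlock (pr pr_surjective)
open Cfsg.Agent.LieClassical.HermSiegel (act act_mul act_one act_smul)
open Cfsg.Agent.GpUn (fx ND fixG exists_equiv eq_one_of_top)
open Cfsg.Agent.OrdDiv Cfsg.Agent.H940.Eng
open scoped MatrixGroups

variable {F : Type} [Field F] [Fintype F] {q : ℕ}

/-- the stabiliser of an isotropic vector is unipotent -/
theorem eq_one_of_iso (hF : Fintype.card F = q ^ 2) {g : SU 3 F q} {r : ℕ} (hr : r.Prime) (hrq : ¬ r ∣ q) (hg : g ^ r = 1)
    {w : Fin 3 → F} (hw0 : w ≠ 0) (hw : hermForm 3 F q w w = 0) (hgw : act g w = w) : g = 1 := by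
  have hnd : ND q (fx g) := nd_fx (a := 1) hF hr hrq (by rw [pow_one]; exact hg)
  have h0 : finrank F (fx g) ≠ 1 := fun h => by
    refine hw0 (hnd w hgw fun v hv => ?_)
    obtain ⟨c, hc⟩ := (finrank_eq_one_iff_of_nonzero' (⟨w, hgw⟩ : fx g) fun h => hw0 (congrArg Subtype.val h)).1 h ⟨v, hv⟩
    rw [show v = c • w from (congrArg Subtype.val hc).symm, herm_smul_right, hw, mul_zero]
  have h0' : finrank F (fx g) ≠ 0 := fun h => hw0 (by
    have h1 : w ∈ fx g := hgw
    rwa [Submodule.finrank_eq_zero.1 h, Submodule.mem_bot] at h1)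
  set U := hermPerp q (fx g : Set (Fin 3 → F)) with hU
  have h1 : finrank F (fx g) + finrank F U = 3 := finrank_perp hF _
  have h2 : finrank F U + finrank F (hermPerp q (U : Set (Fin 3 → F))) = 3 := finrank_perp hF U
  have h4 : fx g = hermPerp q (U : Set (Fin 3 → F)) :=
    Submodule.eq_of_le_of_finrank_eq (fun z hz u hu => herm_eq_zero_swap hF (hu z hz)) (by omega)
  by_cases h5 : finrank F U = 1
  · obtain ⟨e⟩ := exists_equiv hF U (hermPerp_nondeg hF _ hnd) h5
    have h6 := S0278.result hF 1 le_rfl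
    simp only [Finset.prod_range_one, Even.zero, if_true, zero_add, pow_one, Nat.sub_self, mul_zero, Nat.zero_div, pow_zero,
      one_mul] at h6
    have h7 : Nat.card (fixG q (hermPerp q (U : Set (Fin 3 → F)))) = 1 := by
      rw [← Nat.card_congr e.toEquiv]
      exact Nat.eq_of_mul_eq_mul_left (Nat.succ_pos q) (h6.trans (mul_one _).symm)
    have h8 : g ∈ fixG q (hermPerp q (U : Set (Fin 3 → F))) := fun v hv => by rwa [← h4] at hv
    rwa [Subgroup.card_eq_one.1 h7, Subgroup.mem_bot] at h8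
  · have h6 : fx g = ⊤ := Submodule.eq_top_of_finrank_eq (by rw [finrank_fin_fun]; omega)
    exact eq_one_of_top fun v => (h6 ▸ Submodule.mem_top : v ∈ fx g)

/-- a subgroup which fixes an isotropic point -/
theorem card_par (hF : Fintype.card F = q ^ 2) (hq : q.Prime) {A : Subgroup (SU 3 F q)} {w : Fin 3 → F} (hw0 : w ≠ 0)
    (hw : hermForm 3 F q w w = 0) (hA : ∀ g ∈ A, ∃ c : F, act g w = c • w) : ∃ k d, d ∣ q ^ 2 - 1 ∧ Nat.card A = q ^ k * d := by
  obtain ⟨i, hi⟩ := Function.ne_iff.1 hw0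
  have hval : ∀ {g : SU 3 F q} {c : F}, act g w = c • w → act g w i / w i = c := by
    intro g c h
    rw [h, Pi.smul_apply, smul_eq_mul, mul_div_cancel_right₀ _ hi]
  let χ : A →* F :=
    { toFun := fun g => act (g : SU 3 F q) w i / w i
      map_one' := by rw [Subgroup.coe_one, act_one, div_self hi]
      map_mul' := fun g h => by
        obtain ⟨c, hc⟩ := hA g g.2
        obtain ⟨d, hd⟩ := hA h h.2
        rw [hval hc, hval hd]
        apply hval
        rw [Subgroup.coe_mul, act_mul, hd, act_smul, hc, smul_smul, mul_comm] }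
  have hfin : Finite (SU 3 F q) := inferInstance
  have h0 : ∀ {r : ℕ}, r.Prime → r ∣ Nat.card χ.toHomUnits.ker → r = q := fun {r} hr hd => by
    by_contra hne
    have := Fact.mk hr
    obtain ⟨g, hg⟩ := exists_prime_orderOf_dvd_card' r hd
    obtain ⟨c, hc⟩ := hA _ g.1.2
    have h1 : c = 1 := (hval hc).symm.trans (congrArg Units.val g.2)
    have h2 : ((g : A) : SU 3 F q) = 1 := eq_one_of_iso hF hr (fun h => hne ((Nat.prime_dvd_prime_iff_eq hr hq).1 h))
      (by rw [← hg, ← Subgroup.orderOf_coe, ← Subgroup.orderOf_coe, pow_orderOf_eq_one]) hw0 hw (by rw [hc, h1, one_smul])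
    rw [show g = 1 from Subtype.ext (Subtype.ext h2), orderOf_one] at hg
    exact hr.one_lt.ne hg
  refine ⟨_, Nat.card χ.toHomUnits.range, ?_, by
    rw [← Subgroup.card_mul_index χ.toHomUnits.ker, Subgroup.index_ker,
      ← Nat.eq_prime_pow_of_unique_prime_dvd Nat.card_pos.ne' h0]⟩
  rw [← hF, ← Nat.card_eq_fintype_card, ← Nat.card_units]
  exact Subgroup.card_subgroup_dvd_card _

theorem line_of {A : Subgroup (SU 3 F q)} {W : Submodule F (Fin 3 → F)} (hW : finrank F W = 1) {w : Fin 3 → F} (hw0 : w ≠ 0)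
    (hw : w ∈ W) (hA : A.map (suHom 3 F q) ≤ subspaceStabilizer W) : ∀ g ∈ A, ∃ c : F, act g w = c • w := fun g hg => by
  obtain ⟨c, hc⟩ := (finrank_eq_one_iff_of_nonzero' (⟨w, hw⟩ : W) fun h => hw0 (congrArg Subtype.val h)).1 hW
    ⟨act g w, (hA ⟨g, hg, rfl⟩ w).1 hw⟩
  exact ⟨c, (congrArg Subtype.val hc).symm⟩

/-- **the subgroups of `SU_3(5)` of order divisible by `25`** -/
theorem card25 (hF : Fintype.card F = 5 ^ 2) {A : Subgroup (SU 3 F 5)} (hA : A ≠ ⊤) (hd : 5 ^ 2 ∣ Nat.card A) :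
    ∃ k d, d ∣ 24 ∧ Nat.card A = 5 ^ k * d := by
  obtain ⟨H, hH, hAH⟩ := exists_max hA
  have hpos : ∀ {W : Submodule F (Fin 3 → F)}, W ≠ ⊥ → finrank F W ≠ 0 := fun h0 h => h0 (Submodule.finrank_eq_zero.1 h)
  rcases S5778.result 5 hF (by norm_num) H hH with ⟨W, hW0, hWs, he⟩ | ⟨W, hW0, hWn, hW3, he⟩ | ⟨h5, -⟩ | ⟨-, h5, -⟩ |
    ⟨F₀, l, P, hl, hlo, hc, -⟩ | ⟨-, h5, -⟩ | ⟨p', R, -, h1, -, h11, -⟩ | hres
  · have h3 := (H950.frm_herm hF 3).two_mul_finrank_le (H950.nd_top hF 3) le_top (W := W) hWs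
    rw [finrank_top, finrank_fin_fun] at h3
    have h4 := hpos hW0
    obtain ⟨w, hw, hw0⟩ := (Submodule.ne_bot_iff _).1 hW0
    exact card_par hF Nat.prime_five hw0 (hWs w hw w hw) (line_of (by omega) hw0 hw (hAH.trans (he ▸ inf_le_left)))
  · exfalso
    have h4 := hpos hW0
    obtain ⟨w, hw, hwW⟩ := exists_span (q := 5) (W := W) (by omega) fun v hv h => by
      by_contra hv0
      obtain ⟨-, u, hu, huv⟩ := hWn v hv hv0
      exact huv (h u hu)
    obtain ⟨b, hb, hc⟩ := card_fixline hw (line_of (by omega) (ne_zero_of_ns hw) hwW (hAH.trans (he ▸ inf_le_left)))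
    have h5 : Nat.card ((fixV 5 w).subgroupOf A) ∣ Nat.card (fixV 5 w) :=
      Subgroup.card_comap_dvd_of_injective _ _ A.subtype_injective
    have h6 := S0278.result hF 2 (by norm_num)
    rw [Finset.prod_range_succ, Finset.prod_range_one, if_pos (by decide), if_neg (by decide)] at h6
    rw [card_fixV (n := 2) hF hw, show Nat.card (SU 2 F 5) = 120 by omega] at h5
    have h7 := hd.trans (hc ▸ mul_dvd_mul h5 hb)
    omega
  · exact absurd rfl h5
  · exact absurd rfl h5
  · exfalso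
    have h3 : 3 ≤ l := by
      have := hl.two_le
      obtain ⟨k, hk⟩ := hlo
      omega
    have h4 : 5 ∣ Nat.card F₀ := Nat.prime_five.dvd_of_dvd_pow (by rw [← hc, hF]; norm_num : 5 ∣ Nat.card F₀ ^ l)
    have h5 : 5 ^ 3 ∣ 5 ^ 2 := by
      rw [← hF, hc]
      exact (pow_dvd_pow 5 h3).trans (pow_dvd_pow_of_dvd h4 l)
    omega
  · omega
  · omega
  · exfalso
    have := Fact.mk Nat.prime_five
    have hfin : Finite (SU 3 F 5) := inferInstance
    obtain ⟨P, hcore, -, hcases⟩ := S5779.result 5 hF (by norm_num) H hH hres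
    obtain ⟨K, hK⟩ := Sylow.exists_subgroup_card_pow_prime 5 hd
    have hX : Nat.card ((K.map A.subtype).map (suHom 3 F 5)) = 5 ^ 2 := by
      rw [Subgroup.card_map_of_injective suHom_injective, Subgroup.card_map_of_injective A.subtype_injective, hK]
    have hXH := (Subgroup.map_mono (f := suHom 3 F 5) (Subgroup.map_subtype_le K)).trans hAH
    have h1 := H269.U5.card_dvd_aut hcore hXH fun x hx hs => by
      obtain ⟨c, hc⟩ := (mem_scalars_iff _).1 hs
      have h2 := (mem_SUg.1 (hH.1.le (hXH hx))).2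
      rw [hc, Matrix.det_smul, Matrix.det_one, mul_one, Fintype.card_fin] at h2
      have h3 : orderOf x ∣ 3 := orderOf_dvd_of_pow_eq_one (Units.ext (by
        rw [Units.val_pow_eq_pow_val, hc, smul_pow, h2, one_pow, one_smul, Units.val_one]))
      have h4 := Subgroup.orderOf_dvd_natCard _ hx
      rw [hX] at h4
      exact orderOf_eq_one_iff.1 (Nat.eq_one_of_dvd_coprimes (by norm_num) h3 h4)
    rw [hX] at h1
    rcases hcases with ⟨-, h5, -⟩ | ⟨⟨e⟩, -⟩ | ⟨⟨e⟩, -⟩
    · exact h5 rfl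
    · rw [Nat.card_congr (MulAut.congr e).toEquiv] at h1
      have := h1.trans H753.ResCard.card_mulAut_A6
      omega
    · rw [Nat.card_congr (MulAut.congr e).toEquiv] at h1
      have := h1.trans card_aut_a7
      omega

theorem card_z (hF : Fintype.card F = q ^ 2) : Nat.card (Subgroup.center (SU 3 F q)) = Nat.gcd 3 (q + 1) := by
  obtain ⟨p, f, -, -, rfl, -⟩ := H251.GeoU.exists_prime_power hF
  exact card_center hF (by norm_num)

theorem card_psu (hF : Fintype.card F = q ^ 2) :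
    Nat.gcd 3 (q + 1) * ((q + 1) * Nat.card (PSU 3 F q)) = q ^ 3 * ((q + 1) * (q ^ 2 - 1) * (q ^ 3 + 1)) := by
  have h := S0280.result hF 3 (by norm_num)
  rwa [Finset.prod_range_succ, Finset.prod_range_succ, Finset.prod_range_one, if_pos (by decide), if_neg (by decide),
    if_pos (by decide), zero_add, pow_one] at h

theorem base : Base where
  table := OrdDiv.table
  known _ _ _ _ := S0000.result

section abs

variable {S : Type} [Group S] [Finite S] {T B : Subgroup S}

theorem nab (h : Fc T B) : ¬ ∀ a b : T, a * b = b * a := fun hc => h.nab ⟨⟨hc⟩⟩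

theorem rel (h : Fc T B) : (T ⊓ B).relIndex T = B.index := by rw [Subgroup.inf_relIndex_left, h.pd.relIndex]

/-- `|A|` is neither `1` nor a prime nor the square of a prime -/
theorem not_small (h : Fc T B) {p k : ℕ} (hp : p.Prime) (hk : k ≤ 2) : Nat.card ↥(T ⊓ B) ≠ p ^ k := fun hc => by
  rcases Nat.eq_zero_or_pos k with rfl | h0
  · exact h.nb (Subgroup.card_eq_one.1 hc)
  · exact h.nab ((Sp.boxLc S T _ inf_le_left h.lcX p k 1 hp h0 hp.not_dvd_one (by rw [hc, mul_one])).2.2.1 rfl hk h.simple)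

theorem nums (h : Fc T B) : Nat.card ↥(T ⊓ B) * B.index = Nat.card T ∧ Nat.card ↥(T ⊓ B) * T.index = Nat.card B ∧
    Nat.card T * T.index = Nat.card S ∧ Nat.card ↥(T ⊓ B) ≠ 1 ∧ Nat.card ↥(T ⊓ B) ≠ 2 ∧ Nat.card ↥(T ⊓ B) ≠ 3 ∧
    Nat.card ↥(T ⊓ B) ≠ 4 ∧ Nat.card ↥(T ⊓ B) ≠ 5 :=
  ⟨h.pd.card_left, inf_comm T B ▸ h.pd.symm.card_left, T.card_mul_index, not_small h Nat.prime_two (k := 0) (by norm_num),
    not_small h Nat.prime_two (k := 1) (by norm_num), not_small h Nat.prime_three (k := 1) (by norm_num),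
    not_small h Nat.prime_two (k := 2) le_rfl, not_small h Nat.prime_five (k := 1) (by norm_num)⟩

theorem three (h : Fc T B) (hS : Nat.card S = 6048) (hi : ∀ H : Subgroup S, H ≠ ⊤ → 28 ≤ H.index) :
    Nat.card T = 168 ∧ B.index = 28 := by
  obtain ⟨h1, -, h2, h3, h4, h5, h6, h7⟩ := nums h
  have h8 := ords_of base (l := [(2, 5), (3, 3), (7, 1)]) (n := 6048) (by decide +kernel) (L := [168, 504, 6048])
    (by decide +kernel) T h.simple (nab h) (hS ▸ T.card_subgroup_dvd_card)
  have h9 := hi T h.neX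
  have h10 := hi B h.neY
  simp only [List.mem_cons, List.not_mem_nil, or_false] at h8
  rw [hS] at h2
  have h11 : Nat.card T = 168 := by rcases h8 with h8 | h8 | h8 <;> rw [h8] at h2 <;> omega
  refine ⟨h11, ?_⟩
  rw [h11] at h1
  generalize Nat.card ↥(T ⊓ B) = a at *
  have h12 : a ≤ 6 := by nlinarith
  interval_cases a <;> omega

theorem four (h : Fc T B) (hS : Nat.card S = 62400) (hi : ∀ H : Subgroup S, H ≠ ⊤ → 65 ≤ H.index) : False := by
  have h2 := T.card_mul_index
  have h8 := ords_of base (l := [(2, 6), (3, 1), (5, 2), (13, 1)]) (n := 62400) (by decide +kernel) (L := [60, 7800, 62400])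
    (by decide +kernel) T h.simple (nab h) (hS ▸ T.card_subgroup_dvd_card)
  have h9 := hi T h.neX
  have h10 := (hi B h.neY).trans h.pd.index_le
  simp only [List.mem_cons, List.not_mem_nil, or_false] at h8
  rw [hS] at h2
  rcases h8 with h8 | h8 | h8 <;> rw [h8] at h2 h10 <;> omega

theorem sev (h : Fc T B) (hS : Nat.card S = 5663616) (hi : ∀ H : Subgroup S, H ≠ ⊤ → 344 ≤ H.index) : False := by
  have h2 := T.card_mul_index
  have h8 := ords_of base (l := [(2, 7), (3, 1), (7, 3), (43, 1)]) (n := 5663616) (by decide +kernel) (L := [168, 5663616])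
    (by decide +kernel) T h.simple (nab h) (hS ▸ T.card_subgroup_dvd_card)
  have h9 := hi T h.neX
  have h10 := (hi B h.neY).trans h.pd.index_le
  simp only [List.mem_cons, List.not_mem_nil, or_false] at h8
  rw [hS] at h2
  rcases h8 with h8 | h8 <;> rw [h8] at h2 h10 <;> omega

theorem five (h : Fc T B) (hS : Nat.card S = 126000) (hB : 25 ∣ Nat.card B → Nat.card B ∣ 1000) : False := by
  obtain ⟨h1, h1', h2, h3, h4, h5, h6, h7⟩ := nums h
  have hd : Nat.card T ∣ 126000 := hS ▸ T.card_subgroup_dvd_card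
  have h8 := ords_of base (l := [(2, 4), (3, 2), (5, 3), (7, 1)]) (n := 126000) (by decide +kernel)
    (L := [60, 168, 360, 504, 2520, 126000]) (by decide +kernel) T h.simple (nab h) hd
  have h9 : T.index ≠ 1 := fun h0 => h.neX (Subgroup.index_eq_one.1 h0)
  simp only [List.mem_cons, List.not_mem_nil, or_false] at h8
  rw [hS] at h2
  have h10 : T.index = 2100 ∨ T.index = 750 ∨ T.index = 350 ∨ T.index = 250 ∨ T.index = 50 ∧ Nat.card T = 2520 := by
    rcases h8 with h8 | h8 | h8 | h8 | h8 | h8 <;> rw [h8] at h2 <;> omega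
  have h11 := hB (h1' ▸ Dvd.dvd.mul_left (by omega) _)
  rw [← h1'] at h11
  have h12 : T.index ∣ 1000 := (Dvd.intro_left _ rfl).trans h11
  rcases h10 with h10 | h10 | h10 | h10 | ⟨h10, h13⟩
  · exact absurd (h10 ▸ h12) (by norm_num)
  · exact absurd (h10 ▸ h12) (by norm_num)
  · exact absurd (h10 ▸ h12) (by norm_num)
  · rw [h10] at h11
    have h14 : Nat.card ↥(T ⊓ B) ∣ 4 := Nat.dvd_of_mul_dvd_mul_right (by norm_num : 0 < 250) h11
    have h15 := Nat.le_of_dvd (by norm_num) h14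
    have h16 : 0 < Nat.card ↥(T ⊓ B) := Nat.card_pos
    omega
  · rw [h10] at h11
    have h14 : Nat.card ↥(T ⊓ B) ∣ 20 := Nat.dvd_of_mul_dvd_mul_right (by norm_num : 0 < 50) h11
    have h15 : Nat.card ↥(T ⊓ B) = 10 ∨ Nat.card ↥(T ⊓ B) = 20 := by
      have h16 := Nat.le_of_dvd (by norm_num) h14
      generalize Nat.card ↥(T ⊓ B) = a at *
      interval_cases a <;> omega
    rcases h15 with h15 | h15
    · have h16 := (Sp.boxLc S T _ inf_le_left h.lcX 5 1 2 Nat.prime_five one_pos (by norm_num) (by rw [h15]; norm_num)).1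
        fun d hd hd' => by
          have := Nat.le_of_dvd (by norm_num) hd
          omega
      rw [rel h] at h16
      rw [h15, h13] at h1
      omega
    · have hs := h.simple
      obtain ⟨g, hg, hr⟩ := exists_real_filter OrdDiv.table (S0000.result (G := T)) (nab h)
        (l := [(2, 4), (3, 2), (5, 3), (7, 1)]) (N := 126000) (by decide +kernel) hd (fun x => x == 2520) (by rw [h13]; rfl)
      have h17 : (cands [(2, 4), (3, 2), (5, 3), (7, 1)] 126000).filter (fun g => ordN g == 2520) = [Grp.alt 7] := by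
        decide +kernel
      rw [h17, List.mem_singleton] at hg
      subst hg
      obtain ⟨e⟩ := hr
      exact a7 h e h15

end abs

theorem big {p f l : ℕ} (hF : Fintype.card F = (p ^ f) ^ 2) (hp : p.Prime) (hf : 1 ≤ f) (hq : 6 ≤ p ^ f) (h7 : p ^ f ≠ 7)
    (hl : Pm p f 3 l) {X Y : Subgroup (PSU 3 F (p ^ f))} (hX : X ≠ ⊤) (hY : Y ≠ ⊤) (hpd : Ex78.Pd X Y) (hb : X ⊓ Y ≠ ⊥)
    (hd : l ∣ Nat.card X) : False := by
  have hfin : Finite (PSU 3 F (p ^ f)) := Quotient.finite _
  have h1 := (S2148.result (p ^ f) hF (by omega) (by omega)).1 Y hY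
  have h2 : 2 ≤ Nat.card ↥(X ⊓ Y) := (Subgroup.one_lt_card_iff_ne_bot _).2 hb
  have h3 : 2 * ((p ^ f) ^ 3 + 1) ≤ Nat.card X := hpd.card_left ▸ Nat.mul_le_mul h2 h1
  have h4 := small3 hF hp hf (fun q hF hq H hH hS => S5779.result q hF hq H hH hS) hq hl (comap_ne_top hX)
    (hd.trans (card_dvd_comap X))
  rw [card_comap_pr, card_z hF] at h4
  have h5 : 1 * Nat.card X ≤ Nat.gcd 3 (p ^ f + 1) * Nat.card X :=
    Nat.mul_le_mul_right _ (Nat.gcd_pos_of_pos_left _ (by norm_num))
  rcases h4 with h4 | ⟨rfl, h4⟩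
  · have h6 : 7 * (2 * ((p ^ f) ^ 3 + 1)) ≤ (p ^ f + 1) * (Nat.gcd 3 (p ^ f + 1) * Nat.card X) :=
      Nat.mul_le_mul (by omega) (by omega)
    omega
  · generalize Nat.card X = x at *
    rw [pow_one] at *
    have h6 : p < 13 := lt_of_pow_lt_pow_left₀ 3 (by norm_num) (by omega)
    interval_cases p
    all_goals first | omega | (norm_num at hp; done) | (norm_num at h3 h4; omega)

end B3

open B3 H89.Reg in
/-- **`PSU_3(q)`** -/
theorem box3 : Box3 := by
  intro F _ _ q hF h2 T B h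
  have hfin : Finite (PSU 3 F q) := Quotient.finite _
  have h1 := H533.Reg.one_lt_q hF
  have hc := card_psu hF
  by_cases h5 : q = 5
  · subst h5
    refine (five h (by norm_num at hc; omega) fun hd => ?_).elim
    obtain ⟨k, d, hd1, hd2⟩ := card25 hF (comap_ne_top h.neY) (hd.trans (card_dvd_comap B))
    rw [card_comap_pr, card_z hF] at hd2
    have h3 : Nat.card B ∣ 126000 := by
      rw [show 126000 = Nat.card (PSU 3 F 5) by norm_num at hc; omega]
      exact B.card_subgroup_dvd_card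
    have h4 : Nat.card B ∣ 5 ^ k * 8 :=
      Nat.dvd_of_mul_dvd_mul_left (by norm_num : 0 < 3) (by
        rw [show 3 * Nat.card B = 5 ^ k * d from hd2, show 3 * (5 ^ k * 8) = 5 ^ k * 24 by ring]
        exact mul_dvd_mul_left _ hd1)
    obtain ⟨a, b, ha, hb, hab⟩ := (Nat.dvd_mul).1 h4
    obtain ⟨j, -, rfl⟩ := (Nat.dvd_prime_pow Nat.prime_five).1 ha
    have h6 : 5 ^ j ∣ 125 :=
      (Nat.Coprime.pow_left j (by norm_num : Nat.Coprime 5 1008)).dvd_of_dvd_mul_right ((Dvd.intro _ hab).trans h3)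
    exact hab ▸ mul_dvd_mul h6 hb
  have hi := (S2148.result q hF (by omega) h5).1
  by_cases h3 : q = 3
  · subst h3
    exact ⟨rfl, three h (by norm_num at hc; omega) hi⟩
  exfalso
  by_cases h4 : q = 4
  · subst h4
    exact four h (by norm_num at hc; omega) hi
  by_cases h7 : q = 7
  · subst h7
    exact sev h (by norm_num at hc; omega) hi
  obtain ⟨p, f, l, hl, -⟩ := H947.El.exists_PN hF (by omega)
  obtain rfl := hl.qp
  have hm : Pm p f 3 l := ⟨hl.pr, hl.iff⟩
  rcases h.pd.prime_dvd hl.pr (hm.dvd_psu hl.pp hl.n0 (by norm_num) (by decide) le_rfl hF) with h8 | h8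
  · exact big hF hl.pp hl.n0 (by omega) h7 hm h.neX h.neY h.pd h.nb h8
  · exact big hF hl.pp hl.n0 (by omega) h7 hm h.neY h.neX h.pd.symm (inf_comm T B ▸ h.nb) h8

end Cfsg.Agent.SM.U
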