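import Cfsg.Agent.SM.U.Defs
import Cfsg.Agent.StandardComponent.AltAut

/-!
# SM (S3570), `PSU_3(q)`: the factor `A_7` with `|T ⊓ B| = 20` (helper74)
-/

set_option autoImplicit false

namespace Cfsg.Agent.SM.U.B3

open Cfsg Subgroup Equiv

theorem fx_symm {S : Type} [Group S] {β : MulAut S} {L : Subgroup S} (h : Fx β L) {x : S} (hx : x ∈ L) : β.symm x ∈ L :=
  (h _).2 (by rwa [β.apply_symm_apply])

/-- the restriction of an automorphism -/
def res {S : Type} [Group S] {β : MulAut S} {L : Subgroup S} (h : Fx β L) : MulAut L where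
  toFun v := ⟨β v, (h v).1 v.2⟩
  invFun v := ⟨β.symm v, fx_symm h v.2⟩
  left_inv v := Subtype.ext (β.symm_apply_apply v)
  right_inv v := Subtype.ext (β.apply_symm_apply v)
  map_mul' v w := Subtype.ext (map_mul β (v : S) w)

/-- a group of order `20` has one subgroup of order `5` -/
theorem twenty {A : Type} [Group A] [Finite A] (hA : Nat.card A = 20) :
    ∃ c : A, orderOf c = 5 ∧ ∀ d : A, d ^ 5 = 1 → d ∈ zpowers c := by
  have := Fact.mk Nat.prime_five
  obtain ⟨P, h1, h2, h3, -⟩ := Sp.Rd.exists_syl (A := A) (p := 5) (k := 1) (m := 4) (by norm_num) (by rw [hA]; norm_num)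
  have h4 : Nat.card (Sylow 5 A) = 1 := by
    have h5 := Nat.le_of_dvd (by norm_num) h2
    omega
  have := (Nat.card_eq_one_iff_unique.1 h4).1
  have key : ∀ d : A, d ^ 5 = 1 → d ∈ (P : Subgroup A) := fun d hd => by
    have h5 : IsPGroup 5 (zpowers d) := by
      rintro ⟨_, j, rfl⟩
      refine ⟨1, Subtype.ext ?_⟩
      show (d ^ j) ^ 5 ^ 1 = 1
      rw [pow_one, ← zpow_natCast, ← zpow_mul, mul_comm, zpow_mul, zpow_natCast, hd, one_zpow]
    obtain ⟨Q, hQ⟩ := h5.exists_le_sylow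
    rw [Subsingleton.elim Q P] at hQ
    exact hQ (mem_zpowers d)
  obtain ⟨c, hc⟩ := exists_prime_orderOf_dvd_card' (G := A) 5 (by rw [hA]; norm_num)
  have h5 : zpowers c = P := eq_of_le_of_card_ge (zpowers_le.2 (key c (hc ▸ pow_orderOf_eq_one c)))
    (by rw [Nat.card_zpowers, hc, h1, pow_one])
  exact ⟨c, hc, fun d hd => h5 ▸ key d hd⟩

/-- the stabiliser of the set of fixed points of `σ` -/
def Fz {Ω : Type} (σ : Perm Ω) : Subgroup (Perm Ω) where
  carrier := {x | ∀ i, σ i = i ↔ σ (x i) = x i}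
  one_mem' _ := Iff.rfl
  mul_mem' := fun {a b} ha hb i => (hb i).trans (ha _)
  inv_mem' := fun {a} ha i => by
    have h := ha (a⁻¹ i)
    rw [show a (a⁻¹ i) = i from Perm.eq_inv_iff_eq.1 rfl] at h
    exact h.symm

theorem mem_fz {Ω : Type} {σ g : Perm Ω} (h1 : g * σ * g⁻¹ ∈ zpowers σ) (h2 : g⁻¹ * σ * g ∈ zpowers σ) : g ∈ Fz σ := by
  intro i
  constructor
  · intro h
    obtain ⟨k, hk⟩ := h2
    have h3 : (g⁻¹ * σ * g) i = i := hk ▸ Perm.zpow_apply_eq_self_of_apply_eq_self h k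
    exact Perm.inv_eq_iff_eq.1 h3
  · intro h
    obtain ⟨k, hk⟩ := h1
    have h3 : (g * σ * g⁻¹) (g i) = g i := hk ▸ Perm.zpow_apply_eq_self_of_apply_eq_self h k
    simpa using h3

/-- an element of order `5` of `A_7` -/
theorem seven {σ : Perm (Fin 7)} (hσ : orderOf σ = 5) :
    (∃ x ∈ alternatingGroup (Fin 7), x ∈ Fz σ ∧ orderOf x = 3) ∧ ∃ x ∈ alternatingGroup (Fin 7), x ∉ Fz σ := by
  have := Fact.mk Nat.prime_five
  have h5 : σ ^ 5 = 1 := hσ ▸ pow_orderOf_eq_one σ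
  obtain ⟨a, ha⟩ : ∃ a, σ a ≠ a := by
    by_contra h
    push Not at h
    rw [show σ = 1 from Perm.ext h, orderOf_one] at hσ
    omega
  obtain ⟨b, hb⟩ : ∃ b, σ b = b := Perm.exists_fixed_point_of_prime (p := 5) (n := 1) (by decide) (by rw [pow_one, h5])
  have h1 : σ (σ a) ≠ σ a := fun h => ha (σ.injective h)
  have h2 : σ (σ (σ a)) ≠ σ (σ a) := fun h => h1 (σ.injective h)
  have h3 : σ (σ a) ≠ a := fun h => by
    have h6 : (σ ^ 5) a = a := by rw [h5]; rfl
    simp only [pow_succ, pow_zero, one_mul, Perm.mul_apply, h] at h6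
    exact ha h6
  have hs : ∀ u v, σ u ≠ u → σ v ≠ v → swap u v ∈ Fz σ := fun u v hu hv i => by
    rcases eq_or_ne i u with rfl | h4
    · rw [swap_apply_left]
      exact ⟨fun h => absurd h hu, fun h => absurd h hv⟩
    rcases eq_or_ne i v with rfl | h6
    · rw [swap_apply_right]
      exact ⟨fun h => absurd h hv, fun h => absurd h hu⟩
    rw [swap_apply_of_ne_of_ne h4 h6]
  have h3c := Perm.isThreeCycle_swap_mul_swap_same ha.symm h3.symm h1.symm
  refine ⟨⟨_, h3c.mem_alternatingGroup, (Fz σ).mul_mem (hs _ _ ha h1) (hs _ _ ha h2), h3c.orderOf⟩, ?_⟩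
  obtain ⟨g, hg⟩ := (alternatingGroup.isPretransitive_of_three_le_card (Fin 7) (by simp)).exists_smul_eq b a
  exact ⟨g, g.2, fun h => ha (by
    have h4 := (h b).1 hb
    rwa [show (g : Perm (Fin 7)) b = a from hg] at h4)⟩

/-- **`5 : 4` is not maximal in `A_7`** -/
theorem a7 {S : Type} [Group S] [Finite S] {T B : Subgroup S} (h : Fc T B) (e : T ≃* alternatingGroup (Fin 7))
    (hA : Nat.card ↥(T ⊓ B) = 20) : False := by
  obtain ⟨c, hc, hcA⟩ := twenty hA
  obtain ⟨ψ, hψ⟩ := StandardComponent.AltAut.exists_autHom 7 le_rfl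
  let π : T →* Perm (Fin 7) := (alternatingGroup (Fin 7)).subtype.comp e.toMonoidHom
  have hπ : Function.Injective π := (subtype_injective _).comp e.injective
  let c' : T := ⟨c, c.2.1⟩
  have hc' : orderOf c' = 5 := by rw [← hc, ← orderOf_coe c, ← orderOf_coe c']
  have hz : ∀ d : T, (d : S) ∈ B → d ^ 5 = 1 → π d ∈ zpowers (π c') := fun d hd h5 => by
    obtain ⟨k, hk⟩ := hcA ⟨d, d.2, hd⟩ (Subtype.ext (congrArg (fun z : T => (z : S)) h5))
    refine ⟨k, ?_⟩
    show π c' ^ k = π d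
    rw [← map_zpow]
    exact congrArg π (Subtype.ext (congrArg (fun z : ↥(T ⊓ B) => (z : S)) hk))
  obtain ⟨⟨x, hx, hxF, hx3⟩, y, hy, hyF⟩ := seven ((orderOf_injective π hπ c').trans hc')
  have h5 : c' ^ 5 = 1 := hc' ▸ pow_orderOf_eq_one c'
  have hπe : ∀ z : alternatingGroup (Fin 7), π (e.symm z) = z := fun z => congrArg Subtype.val (e.apply_symm_apply z)
  rcases h.mxT (((Fz (π c')).comap π).map T.subtype) (map_subtype_le _) (by
    rintro β hT hB _ ⟨t, ht, rfl⟩
    let g := ψ (MulAut.congr e (res hT))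
    have hg : ∀ t : T, π (res hT t) = g * π t * g⁻¹ := fun t => by
      have h1 := hψ (MulAut.congr e (res hT)) (e t)
      rw [show MulAut.congr e (res hT) (e t) = e (res hT t) by simp] at h1
      exact h1
    have hgF : g ∈ Fz (π c') := by
      refine mem_fz (hg c' ▸ hz _ ((hB _).1 c.2.2) (by rw [← map_pow, h5, map_one])) ?_
      have h1 := hz ((res hT).symm c') (fx_symm hB c.2.2) (by rw [← map_pow, h5, map_one])
      have h2 := hg ((res hT).symm c')
      rw [MulEquiv.apply_symm_apply] at h2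
      rwa [show g⁻¹ * π c' * g = π ((res hT).symm c') by rw [h2]; group]
    refine ⟨res hT t, ?_, rfl⟩
    show π (res hT t) ∈ Fz (π c')
    rw [hg]
    exact (Fz _).mul_mem ((Fz _).mul_mem hgF ht) ((Fz _).inv_mem hgF)) with h1 | h1
  · have h2 : ((e.symm ⟨x, hx⟩ : T) : S) ∈ T ⊓ B := ⟨(e.symm _).2, h1 ⟨e.symm ⟨x, hx⟩, by
      show π (e.symm ⟨x, hx⟩) ∈ Fz (π c')
      rw [hπe]
      exact hxF, rfl⟩⟩
    have h3 := orderOf_dvd_natCard _ h2
    rw [hA, orderOf_coe, ← orderOf_injective π hπ, hπe, hx3] at h3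
    omega
  · obtain ⟨t, ht, h2⟩ : ((e.symm ⟨y, hy⟩ : T) : S) ∈ ((Fz (π c')).comap π).map T.subtype := h1.symm ▸ (e.symm _).2
    rw [show t = e.symm ⟨y, hy⟩ from Subtype.ext h2] at ht
    have h3 : π (e.symm ⟨y, hy⟩) ∈ Fz (π c') := ht
    rw [hπe] at h3
    exact hyF h3

end Cfsg.Agent.SM.U.B3
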