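import Cfsg.Agent.SM.Sp.Red
import Cfsg.Agent.S1000
import Cfsg.Agent.S0044
import Cfsg.Agent.S0144
import Cfsg.Agent.S1001
import Cfsg.Agent.Lib.Cores
import Cfsg.Agent.SmallSimple.S1000.Consequences
import Cfsg.Agent.SmallSimple.FixCount
import Cfsg.Agent.J3.Fix

/-!
# SM (S3570), `PSU_4(2)` : the abstract part (helper58)

* `pd_conj` : conjugate elements of the two factors;
* `rows` : the numbers; `no36` : the index `36`; `exists_two` : a normal `2`-subgroup for the index `45`.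
-/

set_option autoImplicit false
set_option linter.unusedSectionVars false

namespace Cfsg.Agent.SM.U.B42

open Cfsg Subgroup MulAction Cfsg.Agent.SM.Sp Cfsg.Agent.SM.Ex78 Cfsg.Agent.SmallSimple

variable {G : Type} [Group G] [Finite G] {X Y H : Subgroup G}

/-- conjugate elements of the two factors -/
theorem pd_conj (h : Pd X Y) {a c : G} (ha : a ∈ X) (hb : c⁻¹ * a * c ∈ Y) : orderOf a ∣ Nat.card ↥(X ⊓ Y) := by
  obtain ⟨t, ht, b, hb', rfl⟩ := h c
  have h1 : t⁻¹ * a * t ∈ X ⊓ Y := ⟨X.mul_mem (X.mul_mem (X.inv_mem ht) ha) ht, by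
    have := Y.mul_mem (Y.mul_mem hb' hb) (Y.inv_mem hb')
    rwa [show b * ((t * b)⁻¹ * a * (t * b)) * b⁻¹ = t⁻¹ * a * t by group] at this⟩
  have h2 := orderOf_dvd_natCard (⟨_, h1⟩ : ↥(X ⊓ Y))
  rwa [← orderOf_coe, coe_mk, show t⁻¹ * a * t = MulAut.conj t⁻¹ a by simp, MulEquiv.orderOf_eq] at h2

/-- the numbers -/
theorem rows (hG : Nat.card G = 25920) (hm : ∀ L : Subgroup G, L ≠ ⊤ → 27 ≤ L.index) (f : Fa X Y) :
    Nat.card X = 360 ∧ ((Nat.card ↥(X ⊓ Y) = 10 ∧ Y.index = 36) ∨ (Nat.card ↥(X ⊓ Y) = 8 ∧ Y.index = 45)) := by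
  have := f.simple
  have h1 : Nat.card X ∣ 2 ^ 6 * (3 ^ 4 * 5 ^ 1) := (card_subgroup_dvd_card X).trans (by rw [hG]; norm_num)
  obtain ⟨_, _, h2, h3, h4⟩ := (Nat.dvd_mul).1 h1
  obtain ⟨_, _, h5, h6, rfl⟩ := (Nat.dvd_mul).1 h3
  obtain ⟨b, -, rfl⟩ := (Nat.dvd_prime_pow Nat.prime_two).1 h2
  obtain ⟨a, -, rfl⟩ := (Nat.dvd_prime_pow Nat.prime_three).1 h5
  obtain ⟨c, hc, rfl⟩ := (Nat.dvd_prime_pow Nat.prime_five).1 h6
  have h7 : Nat.card X = 5 * 3 ^ a * 2 ^ b := by
    interval_cases c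
    · have := S0144.result (G := X) 2 3 b a Nat.prime_two Nat.prime_three (by rw [← h4, pow_zero, mul_one])
      exact absurd ⟨⟨IsSimpleGroup.comm_iff_isSolvable.2 this⟩⟩ f.nab
    · rw [← h4]
      ring
  have h8 := S1000.Consequences.socle_five (S1000.result f.nab 5 a b Nat.prime_five h7) h7
  have h9 := hm X f.neX
  have h10 := X.card_mul_index
  have h11 := hm Y f.neY
  have h12 := f.pd.card_left
  have h13 : (X ⊓ Y).relIndex X = Y.index := by rw [inf_relIndex_left, f.pd.relIndex]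
  have h14 : Nat.card ↥(X ⊓ Y) ≠ 1 := fun h => f.nb (card_eq_one.1 h)
  have L := boxLc G X (X ⊓ Y) inf_le_left f.lcX
  rw [h13] at L
  have k1 : ∀ p k : ℕ, p.Prime → 0 < k → k ≤ 2 → Nat.card ↥(X ⊓ Y) ≠ p ^ k := fun p k hp h0 h2 e =>
    f.nab ((L p k 1 hp h0 hp.not_dvd_one (by rw [e, mul_one])).2.2.1 rfl h2 this)
  have a2 := k1 2 1 Nat.prime_two one_pos one_le_two
  have a3 := k1 3 1 Nat.prime_three one_pos one_le_two
  have a4 := k1 2 2 Nat.prime_two two_pos le_rfl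
  have a5 := k1 5 1 Nat.prime_five one_pos one_le_two
  have a9 := k1 3 2 Nat.prime_three two_pos le_rfl
  have a6 : Nat.card ↥(X ⊓ Y) = 6 → Y.index % 3 = 1 := fun e =>
    (L 3 1 2 Nat.prime_three one_pos (by norm_num) e).1 fun d hd h => by
      have := Nat.le_of_dvd two_pos hd
      omega
  have a12 : Nat.card ↥(X ⊓ Y) = 12 → Y.index % 3 = 1 ∨ Y.index % 2 = 1 := fun e =>
    (L 3 1 4 Nat.prime_three one_pos (by norm_num) e).2.2.2 2 2 Nat.prime_two rfl rfl fun d hd h => by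
      have := Nat.le_of_dvd (by norm_num) hd
      omega
  rw [hG] at h10
  generalize Nat.card ↥(X ⊓ Y) = m at *
  generalize Y.index = n at *
  rcases h8 with h | h | h <;> rw [h] at h10 h12
  · have : m ≤ 2 := by nlinarith
    interval_cases m <;> omega
  · have : m ≤ 13 := by nlinarith
    refine ⟨h, ?_⟩
    interval_cases m <;> omega
  · omega

/-- an element of order five fixes two of the twenty seven points -/
theorem fix_le [IsSimpleGroup G] (hG : Nat.card G = 25920) (hH : H.index = 27) {y : G} (hy : orderOf y = 5) :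
    Nat.card (fixedBy (G ⧸ H) y) ≤ 2 := by
  have := Fact.mk Nat.prime_five
  have h1 := FixCount.card_fixedBy_mul_card_stabilizer ((1 : G) : G ⧸ H) y
  have h2 := FixCount.card_fixedBy_modEq (X := G ⧸ H) (q := 5) (u := y) (hy ▸ pow_orderOf_eq_one y)
  have h3 := H.card_mul_index
  have h4 : Nat.card {h : G // IsConj y h ∧ h • ((1 : G) : G ⧸ H) = (1 : G)} ≤ Nat.card (stabilizer G ((1 : G) : G ⧸ H)) :=
    Nat.card_le_card_of_injective (fun h => ⟨h.1, h.2.2⟩) fun _ _ h => Subtype.ext (Subtype.mk.inj h)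
  rw [S1001.result 5 4 6 Nat.prime_five (by rw [hG]; norm_num) y hy, Nat.card_zpowers, hy] at h1
  rw [stabilizer_quotient] at h1 h4
  rw [← index_eq_card, hH] at h2
  rw [hH, hG] at h3
  have h5 : Nat.card H = 960 := by omega
  rw [h5] at h1 h4
  unfold Nat.ModEq at h2
  omega

/-- the subgroups of order `2 ^ k * 45` meet the class of the elements of order three of `H` -/
theorem three [IsSimpleGroup G] (hG : Nat.card G = 25920) (hH : H.index = 27) {L : Subgroup G} {k : ℕ}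
    (hL : Nat.card L = 2 ^ k * 45) : ∃ y ∈ L, orderOf y = 3 ∧ ∃ g, g⁻¹ * y * g ∈ H := by
  have := Fact.mk Nat.prime_two
  have := Fact.mk Nat.prime_three
  have := Fact.mk Nat.prime_five
  obtain ⟨P, h1, -⟩ := Rd.exists_syl (p := 2) (by norm_num) hL
  obtain ⟨x, hx⟩ := P.isPGroup'.nonempty_fixed_point_of_prime_not_dvd_card (G ⧸ H) (by rw [← index_eq_card, hH]; norm_num)
  have h2 : 2 ^ k ∣ Nat.card (stabilizer L x) := h1 ▸ card_dvd_of_le fun g hg => hx ⟨g, hg⟩
  have h3 := (stabilizer L x).card_mul_index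
  obtain ⟨s, h4⟩ := h2
  have h5 : s * (stabilizer L x).index = 45 := Nat.eq_of_mul_eq_mul_left (pow_pos two_pos k) (by
    rw [← mul_assoc, ← h4, h3, hL])
  have h6 : (stabilizer L x).index = Nat.card (orbit L x) := by rw [index_stabilizer, Nat.card_coe_set_eq]
  have h7 : Nat.card (orbit L x) ≤ 27 := by
    rw [← hH, index_eq_card]
    exact Nat.card_le_card_of_injective _ Subtype.val_injective
  obtain ⟨y, hy⟩ := exists_prime_orderOf_dvd_card' (G := L) 5 (by rw [hL]; exact Dvd.dvd.mul_left (by norm_num) _)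
  have h8 := FixCount.card_fixedBy_modEq (X := orbit L x) (q := 5) (u := y) (hy ▸ pow_orderOf_eq_one y)
  have h9 : Nat.card (fixedBy (orbit L x) y) ≤ 2 := le_trans (Nat.card_le_card_of_injective (β := fixedBy (G ⧸ H) y.1)
    (fun z => ⟨z.1.1, congrArg Subtype.val z.2⟩) fun _ _ h => Subtype.ext (Subtype.ext (congrArg (·.1) h)))
    (fix_le hG hH ((orderOf_coe y).trans hy))
  have h10 : 3 ∣ s := by
    rw [h6] at h5
    unfold Nat.ModEq at h8
    generalize Nat.card (orbit L x) = n at *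
    interval_cases n <;> omega
  obtain ⟨z, hz⟩ := exists_prime_orderOf_dvd_card' (G := stabilizer L x) 3 (h4 ▸ h10.mul_left _)
  obtain ⟨g, rfl⟩ := QuotientGroup.mk_surjective x
  exact ⟨z.1.1, z.1.2, by rw [orderOf_coe, orderOf_coe, hz], g, (FixCount.mk_mem_fixedBy_iff H _ g).1 z.2⟩

/-- **the index `36`** -/
theorem no36 [IsSimpleGroup G] (hG : Nat.card G = 25920) (hH : H.index = 27) (h : Pd X Y) (hX : Nat.card X = 360)
    (hA : Nat.card ↥(X ⊓ Y) = 10) (hY : Y.index = 36) : False := by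
  have h1 := Y.card_mul_index
  have h2 := H.card_mul_index
  rw [hY, hG] at h1
  rw [hH, hG] at h2
  obtain ⟨a, ha, h3, g, h4⟩ := three hG hH (L := X) (k := 3) hX
  obtain ⟨b, hb, h5, g', h6⟩ := three hG hH (L := Y) (k := 4) (by omega)
  have h7 : ∀ (c u : G) (h : u⁻¹ * c * u ∈ H), orderOf c = 3 → orderOf (⟨_, h⟩ : H) = 3 := fun c u h e => by
    rw [← orderOf_coe, coe_mk, show u⁻¹ * c * u = MulAut.conj u⁻¹ c by simp, MulEquiv.orderOf_eq, e]
  obtain ⟨u, j, h8⟩ := J3.Fix.exists_conj_pow (G := H) Nat.prime_three (by rw [show Nat.card H = 960 by omega]; norm_num)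
    (h7 _ _ h6 h5) (h7 _ _ h4 h3)
  have h9 : g⁻¹ * a * g = u * (g'⁻¹ * b * g') ^ j * (u : G)⁻¹ := congrArg Subtype.val h8
  have h10 := pd_conj h ha (c := g * u * g'⁻¹) (by
    have : (g * u * g'⁻¹)⁻¹ * a * (g * u * g'⁻¹) = g' * ((u : G)⁻¹ * (g⁻¹ * a * g) * u) * g'⁻¹ := by group
    rw [this, h9, show g'⁻¹ * b * g' = g'⁻¹ * b * g'⁻¹⁻¹ by rw [inv_inv], conj_pow]
    simpa [mul_assoc] using Y.pow_mem hb j)
  rw [h3, hA] at h10
  omega

/-- **the index `45`** : a normal `2`-subgroup -/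
theorem exists_two (h : Lc ⊤ Y) (hc : Nat.card Y = 576) (hY : Y.index = 45) : pCore 2 Y ≠ ⊥ := fun h0 => by
  have := Fact.mk Nat.prime_three
  have := S0144.result (G := Y) 2 3 6 2 Nat.prime_two Nat.prime_three hc
  have h1 : fittingSubgroup Y ≤ pCore 3 Y := by
    rw [Lib.Cores.fittingSubgroup_eq_iSup_pCore]
    refine iSup_le fun p => ?_
    have := Fact.mk p.2
    obtain ⟨k, hk⟩ := IsPGroup.iff_card.1 (Lib.Cores.pCore_isPGroup (G := Y) p)
    rcases k with _ | k
    · rw [card_eq_one.1 (hk.trans (pow_zero _))]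
      exact bot_le
    have h2 : (p : ℕ) ∣ 2 ^ 6 * 3 ^ 2 := ((dvd_pow_self _ k.succ_ne_zero).trans (hk ▸ card_subgroup_dvd_card _)).trans
      (by rw [hc]; norm_num)
    rcases (p.2.dvd_mul).1 h2 with h3 | h3
    · rw [(Nat.prime_dvd_prime_iff_eq p.2 Nat.prime_two).1 (p.2.dvd_of_dvd_pow h3), h0]
      exact bot_le
    · rw [(Nat.prime_dvd_prime_iff_eq p.2 Nat.prime_three).1 (p.2.dvd_of_dvd_pow h3)]
  have h2 : centralizer (pCore 3 Y : Set Y) ≤ pCore 3 Y :=
    ((centralizer_le (Lib.Cores.pCore_le_fittingSubgroup 3 |>.antisymm h1).ge).trans S0044.result).trans h1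
  have hn := Lib.Cores.pCore_normal (G := Y) 3
  obtain ⟨k, hk⟩ := IsPGroup.iff_card.1 (Lib.Cores.pCore_isPGroup (G := Y) 3)
  have h3 : k ≤ 2 := by
    have h4 : 3 ^ k ∣ 576 := hk ▸ hc ▸ card_subgroup_dvd_card _
    by_contra h5
    exact absurd ((pow_dvd_pow 3 (not_le.1 h5)).trans h4) (by norm_num)
  rcases h3.eq_or_lt with rfl | h4
  · have := (Rd.core h Nat.prime_three two_pos (m := 64) (by norm_num) hc _ hk hn).2
    omega
  have h5 : Nat.card (pCore 3 Y) ≤ 3 := hk ▸ (Nat.pow_le_pow_right (by norm_num) (Nat.le_of_lt_succ h4))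
  have h6 : (MulAut.conjNormal (H := pCore 3 Y)).ker ≤ pCore 3 Y := fun g hg => h2 fun x hx => by
    have := congrArg Subtype.val (MulEquiv.congr_fun hg ⟨x, hx⟩)
    exact (mul_inv_eq_iff_eq_mul.1 this).symm
  have h7 := (MulAut.conjNormal (H := pCore 3 Y)).ker.card_mul_index
  have h8 : (MulAut.conjNormal (H := pCore 3 Y)).ker.index ≤ 6 := by
    rw [index_ker]
    have := Fintype.ofFinite (pCore 3 Y)
    classical
    refine (Nat.card_le_card_of_injective (β := Equiv.Perm (pCore 3 Y)) (fun z => z.1.toEquiv)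
      fun _ _ h => Subtype.ext (MulEquiv.toEquiv_injective h)).trans ?_
    rw [Nat.card_perm]
    exact Nat.factorial_le h5
  have h9 := (card_le_of_le h6).trans h5
  rw [hc] at h7
  nlinarith

end Cfsg.Agent.SM.U.B42
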