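import Cfsg.Agent.SM.U.Defs
import Cfsg.Agent.SM.U.B42A
import Cfsg.Agent.S0829
import Cfsg.Agent.S2150
import Cfsg.Agent.S0283
import Cfsg.Agent.S0280
import Cfsg.Agent.LieClassical.HermSimple
import Cfsg.Agent.LieClassical.SUBasic

/-!
# SM (S3570), `PSU_4(2)` (helper58)

* `exists_eig` : an element of order three of `SU_4(2)` fixes an isotropic point;
* `exists_ti` : a `2`-local subgroup fixes a totally isotropic subspace; `no45`; `box42`.
-/

set_option autoImplicit false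
set_option linter.unusedSectionVars false

namespace Cfsg.Agent.SM.U.B42

open Cfsg Subgroup MulAction Module Cfsg.Agent.SM.Sp Cfsg.Agent.SM.Ex78 Cfsg.Agent.LieClassical.HermBasic
  Cfsg.Agent.LieClassical.HermSiegel Cfsg.Agent.LieClassical
open Cfsg.Agent.H674.SUBlock (pr pr_surjective pr_eq_one_iff)

variable {F : Type} [Field F] [Fintype F] (hF : Fintype.card F = 2 ^ 2) {n : ℕ}

/-- the linear map of an element -/
def lin (g : SU n F 2) : (Fin n → F) →ₗ[F] Fin n → F := Matrix.toLin' (mat g)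

theorem lin_apply (g : SU n F 2) (v : Fin n → F) : lin g v = act g v := rfl

include hF

theorem two_eq : (2 : F) = 0 := by
  have h := add_pow_q hF (1 : F) 1
  linear_combination h

theorem eq_one_of {a : F} (h : a ^ 2 = a) (h0 : a ≠ 0) : a = 1 := mul_left_cancel₀ h0 (by rw [mul_one, ← sq, h])

/-- anisotropic subspaces have dimension at most one -/
theorem finrank_le_one {K : Submodule F (Fin n → F)} (h : ∀ v ∈ K, hermForm n F 2 v v = 0 → v = 0) : finrank F K ≤ 1 := by
  rcases eq_or_ne K ⊥ with rfl | h0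
  · simp
  obtain ⟨u, hu, h1⟩ := K.ne_bot_iff.1 h0
  have h2 : ∀ v ∈ K, v ≠ 0 → hermForm n F 2 v v = 1 := fun v hv e =>
    eq_one_of hF (herm_self_pow hF v) fun e' => e (h v hv e')
  refine finrank_le_one_iff.2 ⟨⟨u, hu⟩, fun w => ⟨hermForm n F 2 w u, Subtype.ext (by_contra fun e => ?_)⟩⟩
  have h3 : w.1 - hermForm n F 2 w u • u ∈ K := K.sub_mem w.2 (K.smul_mem _ hu)
  have h4 : hermForm n F 2 (w.1 - hermForm n F 2 w u • u) u = 0 := by
    rw [herm_sub_left, herm_smul_left, h2 u hu h1, mul_one, sub_self]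
  have h5 := h2 _ h3 fun e' => e (sub_eq_zero.1 e').symm
  generalize w.1 - hermForm n F 2 w u • u = x at h3 h4 h5
  have h6 := h (x + u) (K.add_mem h3 hu) (by
    rw [herm_add_left, herm_add_right hF, herm_add_right hF, h4, herm_eq_zero_swap hF h4, h5, h2 u hu h1]
    linear_combination two_eq hF)
  rw [eq_neg_of_add_eq_zero_left h6, herm_neg_left, h2 u hu h1] at h4
  exact one_ne_zero (neg_eq_zero.1 h4)

/-- an element of order three fixes an isotropic point -/
theorem exists_eig {y : SU 4 F 2} (hy : y ^ 3 = 1) :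
    ∃ u : Fin 4 → F, u ≠ 0 ∧ hermForm 4 F 2 u u = 0 ∧ ∃ c : F, act y u = c • u := by
  by_contra h0
  obtain ⟨w, h1, h2⟩ := SUBasic.exists_norm_one hF
  have h3 : w ^ 2 + w + 1 = 0 := mul_left_cancel₀ (sub_ne_zero.2 h2) (by linear_combination h1)
  have h4 : ∀ c : F, finrank F (LinearMap.ker (lin y - c • LinearMap.id)) ≤ 1 := fun c =>
    finrank_le_one hF fun v hv e => by_contra fun e' => h0 ⟨v, e', e, c, sub_eq_zero.1 hv⟩
  have h5 : ∀ v, act y (act y (act y v)) = v := fun v => by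
    rw [← act_mul, ← act_mul, ← pow_two, ← pow_succ, hy, act_one]
  have h6 : ∀ (c : F) (v : Fin 4 → F), c ^ 3 = 1 →
      v + c ^ 2 • act y v + c • act y (act y v) ∈ LinearMap.ker (lin y - c • LinearMap.id) := fun c v hc => by
    rw [LinearMap.mem_ker, LinearMap.sub_apply, lin_apply, act_add, act_add, act_smul, act_smul, h5]
    simp only [LinearMap.smul_apply, LinearMap.id_apply, smul_add, smul_smul]
    rw [show c * c ^ 2 = 1 by rw [← hc]; ring, one_smul, ← sq]
    abel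
  have h7 : (⊤ : Submodule F (Fin 4 → F)) ≤ LinearMap.ker (lin y - (1 : F) • LinearMap.id) ⊔
      LinearMap.ker (lin y - w • LinearMap.id) ⊔ LinearMap.ker (lin y - (w ^ 2) • LinearMap.id) := fun v _ => by
    convert Submodule.add_mem_sup (Submodule.add_mem_sup (h6 1 v (one_pow 3)) (h6 w v h1))
      (h6 (w ^ 2) v (by rw [← pow_mul, mul_comm, pow_mul, h1, one_pow])) using 1
    funext i
    simp only [Pi.add_apply, Pi.smul_apply, smul_eq_mul]
    linear_combination (-v i) * two_eq hF - (act y v i + act y (act y v) i) * h3 - act y v i * w * h1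
  have h8 := Submodule.finrank_mono h7
  have h9 := Submodule.finrank_add_le_finrank_add_finrank (LinearMap.ker (lin y - (1 : F) • LinearMap.id))
    (LinearMap.ker (lin y - w • LinearMap.id))
  have h10 := Submodule.finrank_add_le_finrank_add_finrank (LinearMap.ker (lin y - (1 : F) • LinearMap.id) ⊔
    LinearMap.ker (lin y - w • LinearMap.id)) (LinearMap.ker (lin y - (w ^ 2) • LinearMap.id))
  have h11 := h4 1
  have h12 := h4 w
  have h13 := h4 (w ^ 2)
  rw [finrank_top, finrank_fin_fun] at h8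
  omega

/-- the normaliser of a `2`-subgroup fixes a totally isotropic subspace -/
theorem exists_ti {Q Y : Subgroup (SU n F 2)} (hQ : IsPGroup 2 Q) (h0 : Q ≠ ⊥) (hY : ∀ g ∈ Y, ∀ x ∈ Q, g⁻¹ * x * g ∈ Q) :
    ∃ W : Submodule F (Fin n → F), W ≠ ⊥ ∧ (∀ u ∈ W, ∀ v ∈ W, hermForm n F 2 u v = 0) ∧ ∀ g ∈ Y, ∀ v ∈ W, act g v ∈ W := by
  have := Fact.mk Nat.prime_two
  let C : Submodule F (Fin n → F) :=
    { carrier := {v | ∀ x ∈ Q, act x v = v}
      zero_mem' := fun x _ => act_zero x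
      add_mem' := fun ha hb x hx => by rw [act_add, ha x hx, hb x hx]
      smul_mem' := fun c _ ha x hx => by rw [act_smul, ha x hx] }
  let P : Submodule F (Fin n → F) :=
    { carrier := {v | ∀ w ∈ C, hermForm n F 2 v w = 0}
      zero_mem' := fun w _ => herm_zero_left w
      add_mem' := fun ha hb w hw => by rw [herm_add_left, ha w hw, hb w hw, add_zero]
      smul_mem' := fun c _ ha w hw => by rw [herm_smul_left, ha w hw, mul_zero] }
  have hC : ∀ g : SU n F 2, (∀ x ∈ Q, g⁻¹ * x * g ∈ Q) → ∀ v ∈ C, act g v ∈ C := fun g hg v hv x hx => by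
    rw [← act_mul, show x * g = g * (g⁻¹ * x * g) by group, act_mul, hv _ (hg x hx)]
  refine ⟨C ⊓ P, ?_, fun u hu v hv => hu.2 v hv.1, fun g hg v hv => ⟨hC g (hY g hg) v hv.1, fun w hw => by
    rw [herm_act_left]
    exact hv.2 _ (hC _ (hY _ (Y.inv_mem hg)) w hw)⟩⟩
  let _ : MulAction Q P :=
    { smul := fun x v => ⟨act x.1 v.1, fun w hw => by rw [herm_act_left, hw _ (Q.inv_mem x.2)]; exact v.2 w hw⟩
      one_smul := fun v => Subtype.ext (act_one _)
      mul_smul := fun x y v => Subtype.ext (act_mul _ _ _) }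
  obtain ⟨x, hx, h1⟩ := Q.ne_bot_iff_exists_ne_one.1 h0 |>.elim fun x h => (⟨x.1, x.2, fun e => h (Subtype.ext e)⟩ :
    ∃ x ∈ Q, x ≠ 1)
  obtain ⟨v, hv⟩ : ∃ v, act x v ≠ v := by_contra fun h => h1 (ext_act fun v => by
    rw [act_one]
    exact by_contra fun e => h ⟨v, e⟩)
  have h2 : act x v - v ∈ P := fun w hw => by rw [herm_sub_left, herm_act_left, hw _ (Q.inv_mem hx), sub_self]
  have h3 : 2 ∣ Nat.card P := by
    have : Nontrivial P := ⟨⟨⟨_, h2⟩, 0, fun e => hv (sub_eq_zero.1 (congrArg Subtype.val e))⟩⟩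
    rw [Module.natCard_eq_pow_finrank (K := F), Nat.card_eq_fintype_card, hF, ← pow_mul]
    exact dvd_pow_self _ (mul_pos two_pos finrank_pos).ne'
  obtain ⟨b, hb, h4⟩ := hQ.exists_fixed_point_of_prime_dvd_card_of_fixed_point P h3 (a := 0)
    fun x => Subtype.ext (act_zero _)
  exact (Submodule.ne_bot_iff _).2 ⟨b.1, ⟨fun x hx => congrArg Subtype.val (hb ⟨x, hx⟩), b.2⟩,
    fun e => h4 (Subtype.ext e.symm)⟩

theorem finrank_ti {W : Submodule F (Fin 4 → F)} (h : ∀ u ∈ W, ∀ v ∈ W, hermForm 4 F 2 u v = 0) : finrank F W ≤ 2 := by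
  by_contra h0
  have h1 : ∀ i j : Fin 4, ∃ v ∈ W, v ≠ 0 ∧ v i = 0 ∧ v j = 0 := fun i j => by
    obtain ⟨v, h1, h2⟩ := (Submodule.ne_bot_iff _).1 (LinearMap.ker_ne_bot_of_finrank_lt
      (f := ((LinearMap.proj i : (Fin 4 → F) →ₗ[F] F).prod (LinearMap.proj j)) ∘ₗ W.subtype) (by simpa using h0))
    exact ⟨v.1, v.2, fun e => h2 (Subtype.ext e), congrArg Prod.fst h1, congrArg Prod.snd h1⟩
  have h2 : ∀ v ∈ W, v ≠ 0 → v 1 = 0 → (v 0 = 0 ∨ v 2 = 0) → v 3 ≠ 0 := fun v hv e e1 e2 e3 => by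
    have h3 := h v hv v hv
    rw [herm_def, Fin.sum_univ_four, e1, e3] at h3
    refine e (funext fun i => ?_)
    rcases e2 with e2 | e2 <;> rw [e2] at h3 <;> fin_cases i <;> simp_all
  obtain ⟨u, hu, a1, a2, a3⟩ := h1 0 1
  obtain ⟨v, hv, b1, b2, b3⟩ := h1 1 2
  have h3 := h u hu v hv
  rw [herm_def, Fin.sum_univ_four, a2, a3, b3] at h3
  have h4 := h2 u hu a1 a3 (.inl a2)
  have h5 := h2 v hv b1 b2 (.inr b3)
  simp_all

/-- **the index `45`** -/
theorem no45 {X Y : Subgroup (SU 4 F 2)} (hm : ∀ L : Subgroup (SU 4 F 2), L ≠ ⊤ → 27 ≤ L.index) (h : Pd X Y)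
    (hX : Nat.card X = 360) (hA : Nat.card ↥(X ⊓ Y) = 8) (hY : Y.index = 45) (h2 : pCore 2 Y ≠ ⊥) : False := by
  have := Fact.mk Nat.prime_three
  have : Finite (SU 4 F 2) := Subtype.finite
  obtain ⟨W, h3, h4, h5⟩ := exists_ti hF (Y := Y) ((Lib.Cores.pCore_isPGroup (G := Y) 2).map Y.subtype)
    (fun e => h2 ((map_eq_bot_iff_of_injective _ Y.subtype_injective).1 e)) fun g hg => by
      rintro _ ⟨x, hx, rfl⟩
      exact ⟨_, (Lib.Cores.pCore_normal 2).conj_mem' x hx ⟨g, hg⟩, rfl⟩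
  let _ : MulAction (SU 4 F 2) (Submodule F (Fin 4 → F)) :=
    { smul := fun g U => U.map (lin g)
      one_smul := fun U => Submodule.ext fun v => ⟨fun ⟨u, hu, e⟩ => by rwa [← e, lin_apply, act_one], fun hv => ⟨v, hv, act_one v⟩⟩
      mul_smul := fun g g' U => by
        show U.map (lin (g * g')) = (U.map (lin g')).map (lin g)
        rw [← Submodule.map_comp]
        exact congrArg (U.map ·) (LinearMap.ext (act_mul g g')) }
  have h6 : ∀ (g : SU 4 F 2) (U : Submodule F (Fin 4 → F)), finrank F (g • U : Submodule F (Fin 4 → F)) = finrank F U :=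
    fun g U => (Submodule.equivMapOfInjective (lin g) (act_injective g) U).finrank_eq.symm
  have h7 : ∀ g : SU 4 F 2, (∀ v ∈ W, act g v ∈ W) → g ∈ stabilizer (SU 4 F 2) W := fun g hg =>
    Submodule.eq_of_le_of_finrank_eq (by rintro _ ⟨v, hv, rfl⟩; exact hg v hv) (h6 g W)
  have h8 : Y ≤ stabilizer (SU 4 F 2) W := fun g hg => h7 g (h5 g hg)
  obtain ⟨v, hv, h9⟩ := (Submodule.ne_bot_iff _).1 h3
  have h10 : ∀ u : Fin 4 → F, u ≠ 0 → hermForm 4 F 2 u u = 0 → ∃ g : SU 4 F 2, act g v = u := fun u hu e =>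
    (HermGen.exists_map_iso hF (k := 4) (by norm_num) le_rfl (HermGen.mem_coordSub_top v) (HermGen.mem_coordSub_top u)
      h9 hu (h4 v hv v hv) e).imp fun _ h => h.2
  have h11 : stabilizer (SU 4 F 2) W ≠ ⊤ := fun e => by
    obtain ⟨u, h12, h13⟩ := HermSimple.exists_partner hF h9 (h4 v hv v hv)
    obtain ⟨g, rfl⟩ := h10 u (by rintro rfl; exact zero_ne_one ((herm_zero_right hF v).symm.trans h13)) h12
    exact zero_ne_one ((h4 v hv _ ((show g ∈ stabilizer (SU 4 F 2) W from e ▸ mem_top g).le ⟨v, hv, rfl⟩)).symm.trans h13)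
  have h12 := hm _ h11
  have h13 := relIndex_mul_index h8
  rw [hY] at h13
  have h14 : Y.relIndex (stabilizer (SU 4 F 2) W) = 1 := by
    generalize Y.relIndex (stabilizer (SU 4 F 2) W) = a at h13
    have : a ≤ 1 := by nlinarith
    interval_cases a <;> omega
  have h15 := finrank_ti hF h4
  have h16 : finrank F W ≠ 0 := fun e => h3 (Submodule.finrank_eq_zero.1 e)
  rcases h15.eq_or_lt with h17 | h17
  · rw [h14, one_mul, index_stabilizer, ← Nat.card_coe_set_eq] at h13
    have h18 := S0829.result hF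
    have h19 : Nat.card (orbit (SU 4 F 2) W) ≤ _ := Nat.card_le_card_of_injective
      (β := {W : Submodule F (Fin 4 → F) // finrank F W = 2 ∧ ∀ u ∈ W, ∀ v ∈ W, hermForm 4 F 2 u v = 0})
      (fun U => ⟨U.1, by
        obtain ⟨_, g, rfl⟩ := U
        refine ⟨(h6 g W).trans h17, ?_⟩
        rintro _ ⟨a, ha, rfl⟩ _ ⟨b, hb, rfl⟩
        exact (herm_act g a b).trans (h4 a ha b hb)⟩) fun _ _ h => Subtype.ext (Subtype.mk.inj h)
    omega
  · obtain ⟨y, hy⟩ := exists_prime_orderOf_dvd_card' (G := X) 3 (by rw [hX]; norm_num)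
    rw [← orderOf_coe] at hy
    obtain ⟨u, h18, h19, c, h20⟩ := exists_eig hF (hy ▸ pow_orderOf_eq_one y.1)
    obtain ⟨g, rfl⟩ := h10 u h18 h19
    have h21 := pd_conj h y.2 (c := g) (relIndex_eq_one.1 h14 (h7 _ fun w hw => by
      obtain ⟨a, ha⟩ := (finrank_eq_one_iff_of_nonzero' (⟨v, hv⟩ : W) fun e => h9 (congrArg Subtype.val e)).1
        (show finrank F W = 1 by omega) ⟨w, hw⟩
      rw [← show a • v = w from congrArg Subtype.val ha, act_smul, act_mul, act_mul, h20, act_smul, act_inv_act]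
      exact W.smul_mem _ (W.smul_mem _ hv)))
    rw [hy, hA] at h21
    omega

theorem pr_inj : Function.Injective (pr : SU 4 F 2 →* PSU 4 F 2) := (injective_iff_map_eq_one _).2 fun x hx => by
  obtain ⟨c, h1, h2, rfl⟩ := (SUBasic.mem_center_SU_iff hF (by norm_num) x).1 ((pr_eq_one_iff x).1 hx)
  obtain rfl : c = 1 := by rw [← h1, show c ^ 4 = c ^ (2 + 1) * c by ring, h2, one_mul]
  exact Subtype.ext (Subtype.ext Matrix.diagonal_one)

end Cfsg.Agent.SM.U.B42

namespace Cfsg.Agent.SM.U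

open Cfsg Subgroup Cfsg.Agent.SM.Sp
open Cfsg.Agent.H674.SUBlock (pr pr_surjective)

/-- **`PSU_4(2)`** -/
theorem box42 : Box42 := fun F _ _ hF T B f => by
  have : Finite (SU 4 F 2) := Subtype.finite
  have := S0283.result hF 4 (by norm_num) (by norm_num)
  have hG : Nat.card (PSU 4 F 2) = 25920 := by
    have h := S0280.result hF 4 (by norm_num)
    simp [Finset.prod_range_succ, Nat.even_iff] at h
    omega
  obtain ⟨h1, H, h2⟩ := S2150.result 2 hF le_rfl
  obtain ⟨h3, h4 | h4⟩ := B42.rows hG h1 f.toFa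
  · exact B42.no36 hG h2 f.pd h3 h4.1 h4.2
  let e : SU 4 F 2 ≃* PSU 4 F 2 := MulEquiv.ofBijective pr ⟨B42.pr_inj hF, pr_surjective⟩
  have h5 : ∀ L : Subgroup (SU 4 F 2), L ≠ ⊤ → 27 ≤ L.index := fun L hL => by
    rw [← index_map_of_bijective (f := e.toMonoidHom) e.bijective]
    exact h1 _ fun h => hL (map_injective (f := e.toMonoidHom) e.injective (h.trans (map_top_of_surjective _ e.surjective).symm))
  have g := Rd.fa_map e.symm f.toFa
  obtain ⟨h6, h7⟩ := B42.rows ((Nat.card_congr e.toEquiv).trans hG) h5 g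
  have h8 : (B.map e.symm.toMonoidHom).index = 45 := (index_map_of_bijective e.symm.bijective B).trans h4.2
  have h9 := (B.map e.symm.toMonoidHom).card_mul_index
  rw [h8, (Nat.card_congr e.toEquiv).trans hG] at h9
  exact B42.no45 hF h5 g.pd h6 (h7.resolve_left fun h => by omega).1 h8 (B42.exists_two g.lcY (by omega) h8)

end Cfsg.Agent.SM.U
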