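import Cfsg.Agent.SM.U.Defs2
import Cfsg.Agent.SM.U.B3
import Cfsg.Agent.S5797
import Cfsg.Agent.S5812

/-!
# SM (S3570), `PSU_5(q)` and `PSU_7(q)`: `box57` (helper74)
-/

set_option autoImplicit false
set_option linter.unusedSectionVars false

namespace Cfsg.Agent.SM.U

namespace B57

open Module Cfsg Cfsg.Geo Cfsg.Agent.H918 Cfsg.Agent.H89.Reg Cfsg.Agent.H533.Reg
open Cfsg.Agent.H674.SUBlock (pr pr_surjective)
open Cfsg.Agent.OrdDiv Cfsg.Agent.H940.Eng
open scoped MatrixGroups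

variable {F : Type} [Field F] [Fintype F] {n p f l : ℕ}

/-- the maximal overgroup, `n` an odd prime -/
theorem gen (hF : Fintype.card F = (p ^ f) ^ 2) (hp : p.Prime) (hf : 1 ≤ f) (hn : 4 ≤ n) (hno : Odd n) (hnp : n.Prime)
    (hl : Pm p f n l) {X : Subgroup (PSU n F (p ^ f))} (hX : X ≠ ⊤) (hd : l ∣ Nat.card X) :
    (p ^ f + 1) * Nat.card X ≤ n ^ 2 * ((p ^ f) ^ n + 1) ∨
      ∃ H : Subgroup (GL (Fin n) F), IsMaximalIn (SUg n F (p ^ f)) H ∧ gl X ≤ H ∧ InUnitaryResidualClass H := by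
  obtain ⟨H, hH, hAH⟩ := exists_max (comap_ne_top hX)
  have hfinG : Finite (GL (Fin n) F) := inferInstance
  have hdH : Nat.card X ∣ Nat.card H := (card_dvd_comap X).trans
    ((Subgroup.card_map_of_injective suHom_injective).symm.dvd.trans (Subgroup.card_dvd_of_le hAH))
  rcases S5663.result n (p ^ f) hF (by omega) (by omega) H hH.1.le (sup_scalars_ne hF (by omega) (by omega) hH) with
    ⟨M, hM, hHM⟩ | hres
  · left
    rcases class_gen hF hp hf hn hno le_rfl (by omega) hl hM ((hd.trans hdH).trans (Subgroup.card_dvd_of_le hHM)) with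
      ⟨h1, -⟩ | ⟨-, r, K, hr, -, hK, hadj, rfl⟩
    · omega
    · have hne : Nonempty (Fin n) := ⟨⟨0, by omega⟩⟩
      have h1 := H912.finrank_dvd_of_fieldSub hK
      rw [Fintype.card_fin] at h1
      obtain rfl : r = n := (Nat.prime_dvd_prime_iff_eq hr hnp).1 h1
      refine le_trans (Nat.mul_le_mul_left _ (Nat.le_of_dvd Nat.card_pos (hdH.trans (Subgroup.card_dvd_of_le ?_))))
        (card_field_le hF (by omega) hno hK hadj)
      exact le_inf (hHM.trans inf_le_left) hH.1.le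
  · exact Or.inr ⟨H, hH, hAH, hres⟩

theorem two_mul_le {S : Type} [Group S] [Finite S] {X Y : Subgroup S} (hpd : Ex78.Pd X Y) (hb : X ⊓ Y ≠ ⊥) {m : ℕ}
    (h : m ≤ Y.index) : 2 * m ≤ Nat.card X :=
  hpd.card_left ▸ Nat.mul_le_mul ((Subgroup.one_lt_card_iff_ne_bot _).2 hb) h

theorem num {q a b c x : ℕ} (h1 : 2 * (a * b) ≤ x) (h2 : (q + 1) * x ≤ c * a) (ha : 0 < a) (h : c < (q + 1) * (2 * b)) :
    False := by
  have h3 : (q + 1) * (2 * b) * a ≤ c * a :=
    le_trans (le_of_eq (by ring)) ((Nat.mul_le_mul_left (q + 1) h1).trans h2)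
  exact absurd (Nat.le_of_mul_le_mul_right h3 ha) (not_le.2 h)

theorem five (hF : Fintype.card F = (p ^ f) ^ 2) (hp : p.Prime) (hf : 1 ≤ f) (hl : Pm p f 5 l)
    {X Y : Subgroup (PSU 5 F (p ^ f))} (hX : X ≠ ⊤) (hY : Y ≠ ⊤) (hpd : Ex78.Pd X Y) (hb : X ⊓ Y ≠ ⊥) (hd : l ∣ Nat.card X) :
    p ^ f = 2 ∧ Nat.card X ∣ 13200 := by
  have hfin : Finite (PSU 5 F (p ^ f)) := Quotient.finite _
  have hq := one_lt_q hF
  have h1 := (S2151.result (p ^ f) hF hq 5 le_rfl (by decide)).1 Y hY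
  rw [ix5 hq] at h1
  have h2 := two_mul_le hpd hb h1
  have h3 : 2 ^ 2 ≤ (p ^ f) ^ 2 := Nat.pow_le_pow_left hq 2
  rcases gen hF hp hf (by norm_num) (by decide) Nat.prime_five hl hX hd with h | ⟨H, hH, hXH, hres⟩
  · exact (num h2 h (Nat.succ_pos _) (lt_of_lt_of_le (by norm_num : 5 ^ 2 < 3 * 10) (Nat.mul_le_mul (by omega) (by omega)))).elim
  obtain ⟨P, hcore, -, hcases⟩ := S5797.result (p ^ f) hF H hH hres
  have h4 := card_dvd_aut hcore hXH
  have h5 : ∀ k, k ≤ p ^ f → 2 * ((k ^ 5 + 1) * (k ^ 2 + 1)) ≤ Nat.card X := fun k hk =>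
    le_trans (by gcongr) h2
  rcases hcases with ⟨⟨e⟩, h6⟩ | ⟨⟨K, _, _, hK, ⟨e⟩⟩, h6⟩
  · rw [Nat.card_congr (MulAut.congr e).toEquiv] at h4
    have h7 := h4.trans H269.U5.card_aut_l211
    refine ⟨?_, h7⟩
    by_contra h8
    have h9 := (h5 4 (by omega)).trans (Nat.le_of_dvd (by norm_num) h7)
    omega
  · rw [Nat.card_congr (MulAut.congr e).toEquiv] at h4
    have h9 := (h5 5 (by omega)).trans (Nat.le_of_dvd (by norm_num) (h4.trans (H269.U5.card_aut_u42 hK)))
    omega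

theorem seven (hF : Fintype.card F = (p ^ f) ^ 2) (hp : p.Prime) (hf : 1 ≤ f) (hl : Pm p f 7 l)
    {X Y : Subgroup (PSU 7 F (p ^ f))} (hX : X ≠ ⊤) (hY : Y ≠ ⊤) (hpd : Ex78.Pd X Y) (hb : X ⊓ Y ≠ ⊥) (hd : l ∣ Nat.card X) :
    False := by
  have hfin : Finite (PSU 7 F (p ^ f)) := Quotient.finite _
  have hq := one_lt_q hF
  have h1 := (S2151.result (p ^ f) hF hq 7 (by norm_num) (by decide)).1 Y hY
  rw [ix7 hq] at h1
  have h2 := two_mul_le hpd hb h1
  have h3 : 2 ^ 4 ≤ (p ^ f) ^ 4 := Nat.pow_le_pow_left hq 4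
  rcases gen hF hp hf (by norm_num) (by decide) (by norm_num) hl hX hd with h | ⟨H, hH, hXH, hres⟩
  · exact num h2 h (Nat.succ_pos _) (lt_of_lt_of_le (by norm_num : 7 ^ 2 < 3 * 32) (Nat.mul_le_mul (by omega) (by omega)))
  obtain ⟨P, hcore, -, h6, h7, K, iK, jK, hK, ⟨e⟩⟩ := S5812.result (p ^ f) hF H hH hres
  have h4 := card_dvd_aut hcore hXH
  rw [Nat.card_congr (MulAut.congr e).toEquiv] at h4
  have hfK : Finite (PSU 3 K 3) := Quotient.finite _
  have h8 := (Nat.le_of_dvd Nat.card_pos h4).trans (card_aut_u33 hK)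
  have h9 : 2 * ((7 ^ 7 + 1) * (7 ^ 4 + 7 ^ 2 + 1)) ≤ Nat.card X := by
    have h10 : 7 ≤ p ^ f := by omega
    exact le_trans (by gcongr) h2
  omega

theorem u52 {S : Type} [Group S] [Finite S] {T B : Subgroup S} (h : Fc T B) (hS : Nat.card S = 13685760)
    (hi : 165 ≤ B.index) (hd : Nat.card T ∣ 13200 ∨ Nat.card B ∣ 13200) : False := by
  obtain ⟨h1, h1', h2, h3, h4, h5, h6, h7⟩ := B3.nums h
  have h0 : 0 < Nat.card ↥(T ⊓ B) := Nat.card_pos
  rcases hd with hd | hd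
  · have h8 := ords_of B3.base (l := [(2, 4), (3, 1), (5, 2), (11, 1)]) (n := 13200) (by decide +kernel) (L := [60, 660])
      (by decide +kernel) T h.simple (B3.nab h) hd
    simp only [List.mem_cons, List.not_mem_nil, or_false] at h8
    have h9 : 6 * 165 ≤ Nat.card T := h1 ▸ Nat.mul_le_mul (by omega) hi
    omega
  · have h8 := ords_of B3.base (l := [(2, 10), (3, 5), (5, 1), (11, 1)]) (n := 13685760) (by decide +kernel)
      (L := [60, 360, 660, 7920, 25920, 95040, 13685760]) (by decide +kernel) T h.simple (B3.nab h)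
      (hS ▸ T.card_subgroup_dvd_card)
    simp only [List.mem_cons, List.not_mem_nil, or_false] at h8
    have h9 : T.index ≠ 1 := fun h0 => h.neX (Subgroup.index_eq_one.1 h0)
    rw [hS] at h2
    rw [← h1'] at hd
    obtain ⟨c, hc⟩ : T.index ∣ 13200 := (Dvd.intro_left _ rfl).trans hd
    have h10 : T.index = 228096 ∨ T.index = 38016 ∨ T.index = 20736 ∨ T.index = 1728 ∨ T.index = 144 ∨ T.index = 528 := by
      rcases h8 with h8 | h8 | h8 | h8 | h8 | h8 | h8 <;> rw [h8] at h2 <;> omega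
    have h11 : T.index = 528 := by
      rcases h10 with h10 | h10 | h10 | h10 | h10 | h10 <;> rw [h10] at hc <;> omega
    rw [h11] at hd
    obtain ⟨k, hk, h12⟩ := (Nat.dvd_prime_pow Nat.prime_five (m := 2)).1
      (Nat.dvd_of_mul_dvd_mul_right (by norm_num : 0 < 528) hd)
    exact B3.not_small h Nat.prime_five hk h12

theorem card_u52 (hF : Fintype.card F = 2 ^ 2) : Nat.card (PSU 5 F 2) = 13685760 := by
  have h := S0280.result hF 5 (by norm_num)
  simp only [Finset.prod_range_succ, Finset.prod_range_zero] at h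
  norm_num [Nat.even_iff] at h
  omega

end B57

open B57 H89.Reg in
/-- **`PSU_5(q)`, `PSU_7(q)`** -/
theorem box57 : Box57 := by
  intro F _ _ n q hF hn T B h
  have hfin : Finite (PSU n F q) := Quotient.finite _
  obtain ⟨p, f, hp, hf, hq, -⟩ := H251.GeoU.exists_prime_power hF
  rcases hn with rfl | rfl
  · obtain ⟨l, hl⟩ := exists_pm (k := 5) hp hf le_rfl (by decide)
    have h1 : q = 2 ∧ (Nat.card T ∣ 13200 ∨ Nat.card B ∣ 13200) := by
      subst hq
      rcases h.pd.prime_dvd hl.pr (hl.dvd_psu hp hf (by norm_num) (by decide) le_rfl hF) with h8 | h8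
      · exact (five hF hp hf hl h.neX h.neY h.pd h.nb h8).imp_right Or.inl
      · exact (five hF hp hf hl h.neY h.neX h.pd.symm (inf_comm T B ▸ h.nb) h8).imp_right Or.inr
    obtain ⟨rfl, h2⟩ := h1
    exact u52 h (card_u52 hF) ((S2151.result 2 hF le_rfl 5 le_rfl (by decide)).1 B h.neY) h2
  · subst hq
    obtain ⟨l, hl⟩ := exists_pm (k := 7) hp hf (by norm_num) (by decide)
    rcases h.pd.prime_dvd hl.pr (hl.dvd_psu hp hf (by norm_num) (by decide) le_rfl hF) with h8 | h8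
    · exact seven hF hp hf hl h.neX h.neY h.pd h.nb h8
    · exact seven hF hp hf hl h.neY h.neX h.pd.symm (inf_comm T B ▸ h.nb) h8

end Cfsg.Agent.SM.U
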