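import Cfsg.Agent.SM.U.B62BA
import Cfsg.Agent.SM.Ot.Lin
import Cfsg.Agent.H359.FactsB
import Cfsg.Agent.S0664
import Cfsg.Agent.H275.QdSylow
import Cfsg.Agent.Lib.Cores
import Cfsg.Agent.H395.EPM.Count
import Cfsg.Agent.CTwoTab.Card
import Cfsg.Agent.H18.USix
import Cfsg.Agent.PLocal.ThompsonJA

/-!
# SM (S3570): `PSU_6(2) = PSU_5(2) B` (helper15)
-/

set_option autoImplicit false
set_option linter.unusedSectionVars false

namespace Cfsg.Agent.SM.U.B62B

open Cfsg Subgroup
open Cfsg.Agent.Lib.Cores Cfsg.Agent.PLocal.ThompsonJA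

variable {G : Type} [Group G] [Finite G] {p : ℕ}

theorem pow_eq_one_of_comm (hp : p.Prime) (hs : ∀ x : G, p ∣ orderOf x → x ^ p = 1) {x y : G} (hx : orderOf x = p)
    (h : x * y = y * x) : y ^ p = 1 := by
  refine (em (p ∣ orderOf y)).elim (hs y) fun k => ?_
  have h1 := hs (x * y) (by
    rw [Commute.orderOf_mul_eq_mul_orderOf_of_coprime h (hx ▸ hp.coprime_iff_not_dvd.2 k), hx]
    exact Dvd.intro _ rfl)
  rwa [Commute.mul_pow h, ← hx, pow_orderOf_eq_one, one_mul, hx] at h1

/-- the normaliser of a self-centralising subgroup of prime order -/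
theorem nrm_dvd (hp : p.Prime) (hs : ∀ x : G, p ∣ orderOf x → x ^ p = 1) (h2 : ¬ p ^ 2 ∣ Nat.card G) {Q : Subgroup G}
    (hQ : Nat.card Q = p) : Nat.card (normalizer (Q : Set G)) ∣ p * (p - 1) := by
  have := Fact.mk hp
  have := isCyclic_of_prime_card hQ
  obtain ⟨x, hx⟩ := exists_prime_orderOf_dvd_card' p hQ.symm.dvd
  obtain ⟨k, hk⟩ := IsPGroup.iff_card.1 (show IsPGroup p (centralizer (Q : Set G)) from fun y => ⟨1, Subtype.ext (by
    rw [pow_one, coe_pow, pow_eq_one_of_comm hp hs ((orderOf_coe x).trans hx) (y.2 x x.2), coe_one])⟩)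
  have h1 : k ≤ 1 := not_lt.1 fun h => h2 ((pow_dvd_pow p h).trans (hk ▸ card_subgroup_dvd_card _))
  rw [← Q.normalizerMonoidHom.ker.card_mul_index, index_ker, normalizerMonoidHom_ker,
    Nat.card_congr (subgroupOfEquivOfLe (centralizer_le_normalizer _)).toEquiv, hk, ← Nat.totient_prime hp]
  exact Nat.mul_dvd_mul ((pow_dvd_pow p h1).trans (pow_one p).dvd)
    ((card_subgroup_dvd_card _).trans (by rw [IsCyclic.card_mulAut, hQ]))

/-- Frattini -/
theorem frat [Fact p.Prime] {B : Subgroup G} {L : Subgroup B} (hL : L.Normal) (h2 : ¬ p ^ 2 ∣ Nat.card G) (h1 : p ∣ Nat.card L) :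
    ∃ (Q : Subgroup G) (c : ℕ), Nat.card Q = p ∧ (normalizer (Q : Set G)).index % p = 1 ∧ c ∣ Nat.card L ∧
      Nat.card L / c % p = 1 ∧ L.index * c ∣ Nat.card (normalizer (Q : Set G)) := by
  have hp : p.Prime := Fact.out
  obtain ⟨x, hx⟩ := exists_prime_orderOf_dvd_card' p h1
  have h3 : Nat.card (zpowers x.1) = p := by rw [Nat.card_zpowers, orderOf_coe, hx]
  have h4 : ∀ {K : Type} [Group K] [Finite K] {Q : Subgroup K}, Nat.card K ∣ Nat.card G → Nat.card Q = p →
      ∃ P : Sylow p K, P = Q := fun {K} _ _ Q k1 k2 => ⟨(IsPGroup.of_card (k2.trans (pow_one p).symm)).toSylow fun k =>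
    h2 (Dvd.dvd.trans (by rw [← Q.card_mul_index, k2, sq]; exact Nat.mul_dvd_mul_left p k) k1), rfl⟩
  obtain ⟨P, hP⟩ := h4 (card_subgroup_dvd_card B) h3
  have h5 : Nat.card ((P : Subgroup B).map B.subtype) = p := by rw [Subgroup.card_map_of_injective B.subtype_injective, hP, h3]
  obtain ⟨P', hP'⟩ := h4 dvd_rfl h5
  have h6 := relIndex_sup_right (normalizer (P : Set B)) L
  rw [P.normalizer_sup_eq_top' (hP ▸ zpowers_le.2 x.2), relIndex_top_right] at h6
  have h7 := (L.subgroupOf (normalizer (P : Set B))).index_mul_card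
  have h8 := (normalizer (P : Set B)).index_mul_card
  rw [← L.index_mul_card, ← h7, ← relIndex, ← h6, mul_left_comm] at h8
  have h9 := Nat.eq_of_mul_eq_mul_left (Nat.pos_of_ne_zero FiniteIndex.index_ne_zero) h8
  refine ⟨_, _, h5, ?_, Dvd.intro_left _ h9, ?_, ?_⟩
  · rw [← hP', Sylow.coe_coe, ← P'.card_eq_index_normalizer, card_sylow_modEq_one p G, Nat.mod_eq_of_lt hp.one_lt]
  · rw [← h9, Nat.mul_div_cancel _ Nat.card_pos, ← P.card_eq_index_normalizer, card_sylow_modEq_one p B,
      Nat.mod_eq_of_lt hp.one_lt]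
  · rw [h6, relIndex, h7, ← Subgroup.card_map_of_injective B.subtype_injective]
    exact card_dvd_of_le (le_normalizer_map _)

/-- no characteristically self-normalising subgroup of order `4860` and index `2816` -/
theorem no4860 {V : Subgroup G} (h : Sp.Lc ⊤ V) (hV : Nat.card V = 4860) (hi : V.index = 2816)
    (hs : ∀ x : V, 5 ∣ orderOf x → x ^ 5 = 1) : False := by
  have := Fact.mk Nat.prime_three
  have := Fact.mk Nat.prime_five
  obtain ⟨x, hx⟩ := exists_prime_orderOf_dvd_card' (G := V) 5 (by rw [hV]; norm_num)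
  have h0 : ∀ {x y : V}, orderOf x = 5 → x * y = y * x → ∀ N : Subgroup V, y ∈ N → ¬ 5 ∣ Nat.card N → y = 1 :=
    fun {x y} hx k N hy hN => by
      rcases (Nat.dvd_prime Nat.prime_five).1 (orderOf_dvd_of_pow_eq_one (pow_eq_one_of_comm Nat.prime_five hs hx k)) with l | l
      · exact orderOf_eq_one_iff.1 l
      · exact absurd (l ▸ N.orderOf_dvd_natCard hy) hN
  have h1 : ∀ N : Subgroup V, N.Normal → ¬ 5 ∣ Nat.card N → Nat.card N % 5 = 1 := fun N _ hN => by
    obtain ⟨C, c1, c2⟩ := Ot.card_mod (IsPGroup.of_card (n := 1) (by rw [Nat.card_zpowers, hx, pow_one]) :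
      IsPGroup 5 (zpowers x)) ((MulAut.conjNormal (H := N)).comp (zpowers x).subtype)
    rwa [show C = ⊥ from eq_bot_iff.2 fun y hy => Subtype.ext (h0 hx (mul_inv_eq_iff_eq_mul.1
      (congrArg Subtype.val ((c1 y).1 hy ⟨x, mem_zpowers x⟩))) N y.2 hN), card_bot] at c2
  have h2 : ∀ N : Subgroup V, N.Normal → IsPGroup 3 N → N ≠ ⊥ → Nat.card N = 81 := fun N n1 n2 n3 => by
    obtain ⟨k, hk⟩ := IsPGroup.iff_card.1 n2
    have h2 := h1 N n1 (by rw [hk]; exact fun l => absurd (Nat.prime_five.dvd_of_dvd_pow l) (by norm_num))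
    have h3 : k < 6 := not_le.1 fun l => absurd ((pow_dvd_pow 3 l).trans (hk ▸ hV ▸ card_subgroup_dvd_card N)) (by norm_num)
    have h4 := mt card_eq_one.1 n3
    rw [hk] at h2 h4 ⊢
    interval_cases k <;> omega
  obtain ⟨R, r1, r2, r3, r4⟩ := Sp.Rd.exists_syl (A := V) (p := 3) (k := 5) (m := 20) (by norm_num) hV
  have h3 : pCore 3 V ≠ ⊥ := by
    have h3 := card_subgroup_dvd_card (MulAction.toPermHom V (Sylow 3 V)).range
    have h4 := (MulAction.toPermHom V (Sylow 3 V)).ker.card_mul_index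
    rw [index_ker, hV] at h4
    rw [Nat.card_perm] at h3
    have h5 := h3.trans (Nat.factorial_dvd_factorial (show _ ≤ 10 by
      have := Nat.le_of_dvd (by norm_num) r2
      revert r2 r3
      interval_cases Nat.card (Sylow 3 V) <;> decide))
    obtain ⟨y, hy⟩ := exists_prime_orderOf_dvd_card' (G := (MulAction.toPermHom V (Sylow 3 V)).ker) 3 (by_contra fun k =>
      absurd ((Nat.Coprime.dvd_of_dvd_mul_left (k := 3 ^ 5) ((Nat.prime_three.coprime_iff_not_dvd.2 k).pow_left 5)
        (by rw [h4]; norm_num)).trans h5) (by decide))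
    refine fun k => (show (3 : ℕ) ≠ 1 by norm_num) (hy.symm.trans (orderOf_eq_one_iff.2 (Subtype.ext (mem_bot.1 (k.le ?_)))))
    rw [pCore_eq_iInf_sylow, mem_iInf]
    exact fun P => (((IsPGroup.of_card (n := 1) (by rw [Nat.card_zpowers, orderOf_coe, hy, pow_one])).inf_normalizer_sylow P).le
      ⟨mem_zpowers y.1, Sylow.smul_eq_iff_mem_normalizer.1 (DFunLike.congr_fun y.2 P)⟩).2
  have h4 := h2 _ inferInstance (pCore_isPGroup 3) h3
  have h5 : centralizer (pCore 3 V : Set V) ≤ pCore 3 V := by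
    obtain ⟨z, z1, z2, z3⟩ := Ot.exists_cent (pCore_isPGroup (G := V) 3) (U := pCore 3 V)
      (fun g _ x hx => (inferInstance : (pCore 3 V).Normal).conj_mem x hx g) (by rw [h4]; norm_num)
    have h5 := eq_of_le_of_card_ge (inf_le_left : pCore 3 V ⊓ centralizer (pCore 3 V : Set V) ≤ _) (by
      rw [h4, h2 (pCore 3 V ⊓ centralizer (pCore 3 V : Set V)) inferInstance ((pCore_isPGroup 3).to_inf_left)
        fun k => z2 (mem_bot.1 (k.le ⟨z1, z3⟩))])
    have h6 : ¬ 5 ∣ Nat.card (centralizer (pCore 3 V : Set V)) := fun k => by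
      obtain ⟨y, hy⟩ := exists_prime_orderOf_dvd_card' 5 k
      exact z2 (h0 ((orderOf_coe y).trans hy) (y.2 z z1).symm _ z1 (by rw [h4]; norm_num))
    have h7 := h1 _ inferInstance h6
    obtain ⟨c, hc⟩ := h4 ▸ card_dvd_of_le (inf_eq_left.1 h5)
    have h8 := hV ▸ hc ▸ card_subgroup_dvd_card (centralizer (pCore 3 V : Set V))
    have h9 : c = 1 ∨ c = 6 := by
      have h9 : c ∣ 60 := Nat.dvd_of_mul_dvd_mul_left (by norm_num) h8
      have := Nat.le_of_dvd (by norm_num) h9
      rw [hc] at h7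
      interval_cases c <;> omega
    rcases h9 with rfl | rfl
    · exact (eq_of_le_of_card_ge (inf_eq_left.1 h5) (by rw [hc, h4])).ge
    · obtain ⟨P, p1, -, -, p2⟩ := Sp.Rd.exists_syl (p := 3) (k := 5) (m := 2) (by norm_num) hc
      have := P.characteristic_of_normal (normal_of_index_eq_two p2)
      have h10 := h1 ((P : Subgroup _).map (centralizer (pCore 3 V : Set V)).subtype) inferInstance
      rw [Subgroup.card_map_of_injective (subtype_injective _), p1] at h10
      exact absurd (h10 (by norm_num)) (by norm_num)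
  have h6 := S0664.result (by norm_num) (fun ⟨K, N, _, ⟨e⟩⟩ => by
    have h6 := (card_quotient_dvd_card (N.subgroupOf K)).trans (card_subgroup_dvd_card K)
    rw [Nat.card_congr e.toEquiv, H275.QdSylow.card_qd, hV] at h6
    exact absurd h6 (by norm_num)) h5 R
  have h7 := R.isPGroup'.to_le (centerThompsonAOf_le _)
  have h8 := eq_of_le_of_card_ge (le_pCore h6 h7) (by
    rw [h4, h2 _ h6 h7 (centerThompsonAOf_ne_bot _ R.isPGroup' fun k => by rw [k, card_bot] at r1; omega)])
  have h9 : _ ≤ V := (normalizer_le_normalizer_centerThompsonAOf ((R : Subgroup V).map V.subtype)).trans (by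
    rw [← map_centerThompsonAOf _ V.subtype_injective, h8]
    exact (le_inf le_top le_rfl).trans (h _ (pCore_characteristic 3) h3))
  let P := (R.isPGroup'.map V.subtype).toSylow (by
    rw [index_map_subtype, r4, hi]
    norm_num)
  have h10 := card_sylow_modEq_one 3 G
  rw [P.card_eq_index_normalizer, ← relIndex_mul_index (show normalizer (P : Set G) ≤ V from h9), hi, relIndex,
    show normalizer (P : Set G) = normalizer (((R : Subgroup V).map V.subtype : Subgroup G) : Set G) from rfl,
    subgroupOf_normalizer_eq (map_subtype_le _), subgroupOf, comap_map_eq_self_of_injective V.subtype_injective,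
    Sylow.coe_coe, ← R.card_eq_index_normalizer, Nat.ModEq, Nat.mul_mod, r3] at h10
  omega

end B62B

/-- **`PSU_6(2)`, `T = PSU_5(2)`** -/
theorem box62B : Box62B := by
  rintro F _ _ hF T B f ⟨h1, -, w, hw, hT⟩
  have hS := H18.USix.card_psu hF
  have h2 := index_Pt hF (by norm_num) hw
  rw [if_pos (by decide), ← hT] at h2
  have h3 : T.index = 672 := by omega
  have h4 := h3 ▸ f.pd.symm.index_dvd
  have h5 := B.card_mul_index
  rcases B62B.ng_cases hF f.neY h1 with k | k | ⟨L, hL, k | ⟨K, _, _, hK, ⟨e⟩⟩⟩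
  · exact absurd (h4.trans k) (by norm_num)
  · exact absurd (h4.trans k) (by norm_num)
  · have := Fact.mk (show Nat.Prime 11 by norm_num)
    have h6 := H395.EPM.card_22 k
    obtain ⟨Q, c, q1, q2, q3, q4, q5⟩ := B62B.frat (p := 11) hL (by rw [hS]; norm_num) (by rw [h6]; norm_num)
    have h7 := B62B.nrm_dvd (by norm_num) (H559.USixSpec.eleven hF) (by rw [hS]; norm_num) q1
    have h8 := (Subgroup.normalizer (Q : Set (PSU 6 F 2))).card_mul_index
    have h9 : Nat.card (Subgroup.normalizer (Q : Set (PSU 6 F 2))) = 55 := by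
      have := Nat.le_of_dvd (by norm_num) h7
      rw [hS] at h8
      revert h7 h8
      interval_cases Nat.card (Subgroup.normalizer (Q : Set (PSU 6 F 2))) <;> omega
    rw [h9] at q5
    have h10 := (Dvd.intro_left _ rfl).trans q5
    have := Nat.le_of_dvd (by norm_num) h10
    obtain rfl : c = 55 := by
      rw [h6] at q4
      interval_cases c <;> omega
    have h11 := L.index_mul_card
    rw [Nat.eq_one_of_dvd_one (Nat.dvd_of_mul_dvd_mul_right (by norm_num) (q5.trans (one_mul _).symm.dvd)), h6] at h11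
    rw [← h11, hS] at h5
    omega
  · have := Fact.mk (show Nat.Prime 7 by norm_num)
    have h6 := (Nat.card_congr e.toEquiv).trans (CTwoTab.card_psu_four_three hK)
    obtain ⟨Q, c, q1, -, q3, q4, q5⟩ := B62B.frat (p := 7) hL (by rw [hS]; norm_num) (by rw [h6]; norm_num)
    have h7 := q5.trans (B62B.nrm_dvd (by norm_num) (H559.USixSpec.seven hF) (by rw [hS]; norm_num) q1)
    have h10 := (Dvd.intro_left _ rfl).trans h7
    have := Nat.le_of_dvd (by norm_num) h10
    obtain rfl : c = 21 := by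
      rw [h6] at q4
      interval_cases c <;> omega
    have h11 := L.index_mul_card
    rcases (Nat.dvd_prime Nat.prime_two).1 (Nat.dvd_of_mul_dvd_mul_right (k := 21) (by norm_num) h7) with k | k
    · exfalso
      obtain rfl := Subgroup.index_eq_one.1 k
      rw [k, h6] at h11
      rw [← h11, hS] at h5
      have h12 := T.card_mul_index
      have h13 := f.pd.card_left
      have h14 := Sp.Rd.lc_sub f.lcX inf_le_left
      have e' := Subgroup.subgroupOfEquivOfLe (inf_le_left : T ⊓ B ≤ T)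
      rw [Subgroup.subgroupOf_self] at h14
      rw [h3, hS] at h12
      have h15 : B.index = 2816 := by omega
      rw [h15] at h13
      refine B62B.no4860 h14 ((Nat.card_congr e'.toEquiv).trans (by omega)) ?_ fun x hx => ?_
      · rw [Subgroup.inf_subgroupOf_left, ← Subgroup.relIndex, f.pd.relIndex, h15]
      · let φ := ((Subgroup.topEquiv.symm.trans e).toMonoidHom.comp (Subgroup.inclusion inf_le_right)).comp e'.toMonoidHom
        have hφ : Function.Injective φ := ((Subgroup.topEquiv.symm.trans e).injective.comp (Subgroup.inclusion_injective _)).comp e'.injective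
        exact hφ (by rw [map_pow, map_one, H359.pow_five_psu43 hK _ (by rwa [orderOf_injective φ hφ])])
    · rw [k, h6] at h11
      rw [← h11, hS] at h5
      omega

end Cfsg.Agent.SM.U
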