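import Cfsg.Agent.SM.U.Bas
import Cfsg.Agent.H913.S6.Final
import Cfsg.Agent.S0000
import Cfsg.Agent.H559.USixSpec
import Cfsg.Agent.H138.HT.AltP
import Cfsg.Agent.H264.FKS.ResCore

/-!
# SM (S3570): the subgroups of `PSU_6(2)` in no geometric class (helper15)
-/

set_option autoImplicit false
set_option linter.unusedSectionVars false

namespace Cfsg.Agent.SM.U.B62B

open Cfsg Cfsg.Geo Subgroup
open Cfsg.Agent.H674.SUBlock (pr pr_surjective)
open Cfsg.Agent.H918 (suHom SUg suHom_injective)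
open Cfsg.Agent.H918.Six (IsU43 Out6x)


variable {F : Type} [Field F] [Fintype F] {n q : ℕ}

/-- the socle of a residual group -/
theorem exists_soc (hF : Fintype.card F = q ^ 2) (hn : 3 ≤ n) {Y : Subgroup (PSU n F q)} {P : Subgroup (GL (Fin n) F)}
    (hP : IsResidualCore (gl Y) P) : ∃ L : Subgroup Y, L.Normal ∧ Nonempty (L ≃* H915.LD.Soc P) := by
  have h1 : ∀ x : P, ∃ g : SU n F q, pr g ∈ Y ∧ suHom n F q g = x := fun x => hP.le x.2
  choose g g1 g2 using h1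
  let f : P →* Y := MonoidHom.mk' (fun x => ⟨pr (g x), g1 x⟩) fun x y => Subtype.ext
    ((congrArg pr (suHom_injective (by rw [map_mul, g2, g2, g2, coe_mul]))).trans (map_mul pr (g x) (g y)))
  refine ⟨f.range, ⟨?_⟩, ⟨(QuotientGroup.quotientKerEquivRange f).symm.trans (QuotientGroup.quotientMulEquivOfEq
    (Subgroup.ext fun x => ?_))⟩⟩
  · rintro _ ⟨x, rfl⟩ ⟨y, hy⟩
    obtain ⟨y, rfl⟩ := pr_surjective y
    refine ⟨⟨_, hP.normal _ (mem_gl.2 hy) x x.2⟩, Subtype.ext ?_⟩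
    exact (congrArg pr (suHom_injective (a₂ := y * g x * y⁻¹) (by rw [g2, map_mul, map_mul, map_inv, g2]))).trans
      (by rw [map_mul, map_mul, map_inv]; rfl)
  · rw [MonoidHom.mem_ker, Subtype.ext_iff, mem_subgroupOf, ← g2]
    exact H264.FKS.hker_su hF hn (g x)

/-- **the subgroups of `PSU_6(2)` in no geometric class** -/
theorem ng_cases (hF : Fintype.card F = 2 ^ 2) {Y : Subgroup (PSU 6 F 2)} (hY : Y ≠ ⊤) (h : NG Y) :
    Nat.card Y ∣ 1440 ∨ Nat.card Y ∣ 5040 ∨ ∃ L : Subgroup Y, L.Normal ∧ (Spor.IsoM22 L ∨ IsU43 L) := by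
  have := H559.USixSpec.charTwo hF
  have := Fact.mk Nat.prime_two
  obtain ⟨P, hP, hC, hsd⟩ := H915.LD.unitary_core ((H921.unitary_structure hF (by norm_num)
    ((gl_le Y).trans inf_le_left)).resolve_left fun ⟨M, h1, h2⟩ => h M h1 h2)
  have hPU : P ≤ GU 6 F 2 := (hP.le.trans (gl_le Y)).trans inf_le_left
  obtain ⟨L, hL, ⟨e⟩⟩ := exists_soc hF (by norm_num) hP
  have h1 := card_dvd_aut hP le_rfl
  have h6 : Nonempty (H915.LD.Soc P ≃* alternatingGroup (Fin 6)) → Nat.card Y ∣ 1440 := fun ⟨e⟩ =>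
    h1.trans ((Nat.card_congr (MulAut.congr e).toEquiv).dvd.trans H138.HT.card_aut_six_dvd)
  have h7 : Nonempty (H915.LD.Soc P ≃* alternatingGroup (Fin 7)) → Nat.card Y ∣ 5040 := fun ⟨e⟩ =>
    h1.trans ((Nat.card_congr (MulAut.congr e).toEquiv).dvd.trans H533.Reg.card_aut_a7)
  have h8 : ¬ SUg 6 F 2 ≤ P := fun k => hY (eq_top_iff.2 fun y _ => by
    obtain ⟨y, rfl⟩ := pr_surjective y
    exact mem_gl.1 (hP.le (k (H918.suHom_mem y))))
  have hout : Out6x 2 P := by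
    by_cases hL : IsLieTypeChar 2 (H915.LD.Soc P)
    · exact Or.inr (Or.inr (H918.Six.own6_su 2 hC hL hF hPU (H913.S6.psu45 2 inferInstance inferInstance P hC)))
    · exact H913.S6.list6 (fun _ _ _ _ => S0000.result) 2 inferInstance inferInstance P hC hL
  rcases hout with k | k | k | k | k | k | k | k | k | k | k | k | k | k | ⟨K, _, _, k, k1, -, ⟨k2⟩⟩
  · exact Or.inr (Or.inl (h7 k))
  · exact Or.inl (h6 k)
  · exact absurd k hsd
  · exact absurd rfl k.2.1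
  · exact Or.inl (h6 k.1)
  · exact Or.inr (Or.inl (h7 k.1))
  · exact Or.inr (Or.inl (h7 k.1))
  · exact absurd rfl k.2.2.1
  · exact absurd k.2.1 (by norm_num)
  · exact Or.inr (Or.inr ⟨L, hL, Or.inl ⟨e.trans k.1.some⟩⟩)
  · obtain ⟨⟨K, _, _, k1, ⟨k2⟩⟩, -⟩ := k
    exact Or.inr (Or.inr ⟨L, hL, Or.inr ⟨K, _, _, k1, ⟨e.trans k2⟩⟩⟩)
  · exact absurd rfl k.1
  · exact absurd rfl k.1
  · exact absurd (inf_le_right.trans k.ge) h8
  · have h9 : k ≠ 0 := by
      rintro rfl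
      exact Fintype.one_lt_card.ne' k1
    have : CharP K 2 := charP_of_card_eq_prime_pow (f := k * 2) (by rw [k1, pow_mul])
    exact absurd (H48.NatSU.psu_eq hC 2 hF hPU k1 (by norm_num) (by norm_num) k2 rfl).2.ge h8

end Cfsg.Agent.SM.U.B62B
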