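import Cfsg.Agent.SM.U.B62NGeo
import Cfsg.Agent.SM.Mat.Sieve
import Cfsg.Agent.H940.EngLoc
import Cfsg.Agent.H251.Der.SixP
import Cfsg.Agent.H395.EPM.Count
import Cfsg.Agent.CTwoTab.Card
import Cfsg.Agent.S5802
import Cfsg.Agent.S5803
import Cfsg.Agent.S1663
import Cfsg.Agent.S0283
import Cfsg.Agent.S0279
import Cfsg.Agent.S0815

/-!
# SM (S3570), `PSU₆(2)`: no factor fixes a nonsingular point (helper75)
-/

set_option autoImplicit false
set_option linter.unusedSectionVars false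

namespace Cfsg.Agent.SM.U.B62N

open Cfsg Cfsg.Geo Subgroup Module Cfsg.Agent.OrdDiv Cfsg.Agent.H940.Eng Cfsg.Agent.H940.Eng.D
open Cfsg.Agent.LieClassical.HermSiegel (act)
open Cfsg.Agent.H674.SUBlock (pr pr_surjective)
open Cfsg.Agent.H918 (suHom SUg suHom_injective suHom_mem)
open Cfsg.Agent.H89.Reg (InvA card_comap_pr)
open Cfsg.Agent.H251.Small (tbl6 card_u6)

def lU : List (ℕ × ℕ) := [(2, 15), (3, 6), (5, 1), (7, 1), (11, 1)]

def locU : List LD := [⟨7, 7, [(2, 1), (3, 1), (7, 1)]⟩, ⟨11, 11, [(5, 1), (11, 1)]⟩]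

/-- not the order of a proper subgroup of `PSU₆(2)` -/
def bU (m : ℕ) : Bool := bad lU 9196830720 [] 30 locU tbl6 m

theorem vU : valid lU 9196830720 = true := by decide +kernel

set_option maxRecDepth 100000 in
theorem oU : Ords.{0} 9196830720 tbl6 := ords_of Mat.base vU (by decide +kernel)

theorem sv1 : (tbl6.all fun a => a % 11 == 0 || (divsT lU).all fun c => a % c != 0 ||
    887040 % (9196830720 / a * c) != 0 || bU (9196830720 / a * c) || bU c) = true := by decide +kernel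

theorem sv2 : (tbl6.all fun a => a % 11 != 0 || 887040 % a != 0 || a == 443520 || (divsT lU).all fun c => a % c != 0 ||
    a / c < 672 || (9196830720 / a * c) % 11 == 0 || bU (9196830720 / a * c) || bU c || (a == 7920 && c == 10)) = true := by
  decide +kernel

theorem sv3 : ((divsT l_m22).all fun c => 443520 / c < 672 || c % 11 == 0 || bU (20736 * c) ||
    bad l_m22 n_m22 [] 30 H715.Fpr.M22.loc o_m22 c || (c % 7 != 0 && 693 < 443520 / c)) = true := by decide +kernel

theorem pm11 : H89.Reg.Pm 2 1 5 11 := ⟨by norm_num, fun j => by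
  have h : 2 ^ j % 11 = 2 ^ (j % 10) % 11 := by
    conv_lhs => rw [← Nat.div_add_mod j 10, pow_add, pow_mul, Nat.mul_mod, Nat.pow_mod]
    simp
  rw [← Nat.modEq_iff_dvd' Nat.one_le_two_pow, Nat.ModEq, h, Nat.dvd_iff_mod_eq_zero]
  have := Nat.mod_lt j (show 0 < 10 by norm_num)
  interval_cases j % 10 <;> simp⟩

variable {F : Type} [Field F] [Fintype F] (hF : Fintype.card F = 2 ^ 2)

include hF

theorem nbU {X : Subgroup (PSU 6 F 2)} (hX : X ≠ ⊤) : bU (Nat.card X) = false := by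
  have hS := card_u6 hF
  have : Finite (PSU 6 F 2) := Nat.finite_of_card_ne_zero (by rw [hS]; norm_num)
  have := S0283.result hF 6 (by norm_num) (by norm_num)
  have hna : ¬ ∀ a b : PSU 6 F 2, a * b = b * a := fun h => by
    let _ : CommGroup (PSU 6 F 2) := { (inferInstance : Group (PSU 6 F 2)) with mul_comm := h }
    have h1 := IsSimpleGroup.prime_card (α := PSU 6 F 2)
    rw [hS] at h1
    exact absurd h1 (by norm_num)
  refine not_bad vU hS oU (fun ld hld => ?_) (by simp) hX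
  simp only [locU, List.mem_cons, List.not_mem_nil, or_false] at hld
  rcases hld with rfl | rfl
  · obtain ⟨R, h1, h2⟩ := H251.Der.selfcent7_u6 hF
    exact loc_of_cent hna hS (by decide +kernel) (by decide +kernel) (fC := [(7, 1)]) (by decide +kernel) h1
      (by rw [h2, h1]; decide) (by decide +kernel) (by decide +kernel)
  · obtain ⟨R, h1, h2⟩ := H251.Small.selfcent_u6 hF
    exact loc_of_cent hna hS (by decide +kernel) (by decide +kernel) (fC := [(11, 1)]) (by decide +kernel) h1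
      (by rw [h2, h1]; decide) (by decide +kernel) (by decide +kernel)

theorem le_index {X : Subgroup (PSU 6 F 2)} (hX : X ≠ ⊤) : 672 ≤ X.index := by
  have h1 := H251.Der.le_u6 hF hX
  have h2 := X.card_mul_index
  rw [card_u6 hF] at h2
  by_contra h
  have h3 := Nat.mul_le_mul h1 (Nat.le_of_lt_succ (not_le.1 h))
  omega

theorem card_comap (X : Subgroup (PSU 6 F 2)) : Nat.card (X.comap (pr : SU 6 F 2 →* _)) = 3 * Nat.card X := by
  rw [card_comap_pr, S0279.result hF 6 (by norm_num)]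
  rfl

/-- the subgroups of order divisible by `11` -/
theorem dvd11 {X : Subgroup (PSU 6 F 2)} (hX : X ≠ ⊤) (h : 11 ∣ Nat.card X)
    (hN : ∀ w, hermForm 6 F 2 w w ≠ 0 → ¬ X ≤ Pt 2 w) : Nat.card X ∣ 887040 := by
  have := Fact.mk Nat.prime_three
  rcases H533.Reg.even_gen (p := 2) (f := 1) (n := 6) (m := 5) hF Nat.prime_two le_rfl (by norm_num) (by decide) rfl pm11
    (A := X.comap pr) (H89.Reg.comap_ne_top hX) (h.trans ((card_comap hF X).symm ▸ Dvd.intro_left 3 rfl)) with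
    ⟨w, hw, h1⟩ | ⟨H, h1, h2, h3⟩
  · exact absurd ((le_Pt hF (by norm_num)).2 h1) (hN w hw)
  · obtain ⟨P, hP, k | k | k | k | ⟨⟨K, _, _, hK, ⟨e⟩⟩, -⟩ | k⟩ := S5803.result 2 hF H h1 h3
    · exact absurd rfl k.2.2.1
    · exact absurd k.2.2 (by norm_num)
    · exact absurd k.2.2 (by norm_num)
    · exact H395.EPM.card_aut k.1 ▸ card_dvd_aut hP h2
    · have h4 := h.trans (card_dvd_aut hP h2)
      rw [Nat.card_congr (MulAut.congr e).toEquiv, S0815.result 3 1 le_rfl (pow_one 3).symm hK 4 (by norm_num) (by norm_num),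
        CTwoTab.card_psu_four_three hK] at h4
      exact absurd h4 (by norm_num)
    · exact absurd k.2 (by decide)

/-- the maximal subgroups -/
theorem no_max {H : Subgroup (GL (Fin 6) F)} (hH : IsMaximalIn (SUg 6 F 2) H) {K : Subgroup (SU 6 F 2)}
    (hK : ∀ g, g ∈ K ↔ suHom 6 F 2 g ∈ H) (h1 : 2 ^ 8 * 3 ^ 5 ∣ Nat.card K) (h2 : ¬ 7 ∣ Nat.card K) (h3 : 693 < K.index)
    (h4 : ∀ w, hermForm 6 F 2 w w ≠ 0 → ¬ K ≤ Sb 2 (F ∙ w)) : False := by
  have hfin : Finite (SU 6 F 2) := inferInstance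
  obtain ⟨g2, g3, g4⟩ := card_gu hF
  have h5 : ∀ {W : Submodule F (Fin 6 → F)}, H = subspaceStabilizer W ⊓ (GU 6 F 2 ⊓ specialLinear (Fin 6) F) → InvA K W :=
    fun h g hg w hw => ((h.le ((hK g).1 hg)).1 w).1 hw
  have h6 : ∀ {W : Submodule F (Fin 6 → F)}, finrank F W = 1 → ∀ w ∈ W, w ≠ 0 → F ∙ w = W := fun k w hw h0 =>
    Submodule.eq_of_le_of_finrank_eq ((Submodule.span_singleton_le_iff_mem _ _).2 hw) (by rw [k, finrank_span_singleton h0])
  have h7 : ∀ W : Submodule F (Fin 6 → F), InvA (K ⊓ Sb 2 W) W := fun W g hg w hw => (hg.2 w).1 hw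
  rcases S5802.result 2 hF H hH with ⟨W, k1, k2, k3⟩ | ⟨W, k1, k2, k3, k4⟩ | k | k | ⟨D, k1, k2⟩ | ⟨D, k1, k2, k3⟩ | k | k |
    ⟨F₀, r, P, k1, k2, k3, -⟩ | ⟨F₀, P, ζ, k1, k2, k3, k4, k5, k6⟩ | k | k
  · have h8 := ts_le hF k2
    have h9 : finrank F W ≠ 0 := fun h => k1 (Submodule.finrank_eq_zero.1 h)
    by_cases h : finrank F W = 1
    · obtain ⟨w, hw, h0⟩ := Submodule.exists_mem_ne_zero_of_ne_bot k1
      have h10 := Nat.le_of_dvd (Nat.pos_of_ne_zero FiniteIndex.index_ne_zero)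
        (index_dvd_of_le (show Sb 2 W ≤ K from fun g hg => (hK g).2 (k3.ge ⟨hg, suHom_mem g⟩)))
      have h11 := iso_index hF h0 (k2 w hw w hw)
      rw [h6 h w hw h0] at h11
      omega
    · exact ts_three hF k2 (by omega) (h5 k3) ((Dvd.intro_left _ rfl).trans h1)
  · have h9 : finrank F W ≠ 0 := fun h => k1 (Submodule.finrank_eq_zero.1 h)
    by_cases h : finrank F W = 1
    · obtain ⟨w, hw, hW⟩ := H89.Reg.exists_span h fun v hv h => by
        by_contra h0
        obtain ⟨-, u, hu, huv⟩ := k2 v hv h0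
        exact huv (h u hu)
      exact h4 w hw fun g hg => h6 h w hW (H89.Reg.ne_zero_of_ns hw) ▸ mem_Sb_of (h5 k4 g hg)
    · have h10 := h1.trans (nd_dvd hF k2 (k := 2) (by omega) (h5 k4))
      rw [g2, g4] at h10
      exact absurd h10 (by norm_num)
  · exact absurd k.1 (by norm_num)
  · exact absurd k.1 (by norm_num)
  · have h10 := h1.trans ((half fun g hg => (k2.le ((hK g).1 hg)).1).trans
      (Nat.mul_dvd_mul_right (nd_dvd hF (k1.nondegenerate 0) (k1.decomp.finrank_eq 0) (h7 _)) 2))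
    rw [g3] at h10
    exact absurd h10 (by norm_num)
  · exact ts_three hF (k2 0) (.inr (k1.finrank_eq 0)) (h7 _) ((by norm_num : Nat.Coprime (3 ^ 5) 2).dvd_of_dvd_mul_right
      (((Dvd.intro_left _ rfl).trans h1).trans (half fun g hg => (k3.le ((hK g).1 hg)).1)))
  · exact absurd k.1 (by norm_num)
  · exact absurd k.1 (by norm_num)
  · obtain ⟨i, -, hi⟩ := (Nat.dvd_prime_pow Nat.prime_two).1 ((dvd_pow_self _ k1.ne_zero).trans (k3.symm.trans hF).dvd)
    rw [hF, hi, ← pow_mul] at k3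
    have h10 : r ∣ 2 := Dvd.intro_left _ (Nat.pow_right_injective le_rfl k3).symm
    rw [(Nat.prime_dvd_prime_iff_eq k1 Nat.prime_two).1 h10] at k2
    exact absurd k2 (by decide)
  · exact h2 (seven_sp hF k1 k2 k3 k4 k5 fun g hg => (hK g).2 (k6.ge ⟨hg, suHom_mem g⟩))
  · exact absurd k.1 (by decide)
  · have h8 : Nat.card H = Nat.card K := by
      rw [← card_map_of_injective (K := K) suHom_injective]
      congr 2
      refine le_antisymm (fun g hg => ?_) (map_le_iff_le_comap.2 fun g hg => (hK g).1 hg)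
      obtain ⟨g, rfl⟩ := H918.exists_suHom (hH.1.le hg)
      exact ⟨g, (hK g).2 hg, rfl⟩
    obtain ⟨P, hP, k⟩ := S5803.result 2 hF H hH k
    refine h2 (Dvd.dvd.trans ?_ (((card_quotient_dvd_card ((scalars (Fin 6) F).subgroupOf P)).trans
      (card_dvd_of_le hP.le)).trans h8.dvd))
    obtain k | k | k | k | ⟨⟨K, _, _, hK, ⟨e⟩⟩, -⟩ | k := k
    · exact absurd rfl k.2.2.1
    · exact absurd k.2.2 (by norm_num)
    · exact absurd k.2.2 (by norm_num)
    · rw [H395.EPM.card_22 k.1]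
      norm_num
    · rw [Nat.card_congr e.toEquiv, CTwoTab.card_psu_four_three hK]
      norm_num
    · exact absurd k.2 (by decide)

/-- `M₂₂` has no supplement -/
theorem no_m22 {T B : Subgroup (PSU 6 F 2)} (hs : IsSimpleGroup T) (hT : Nat.card T = 443520) (hB : B ≠ ⊤) (h : Ex78.Pd T B)
    (hN : ∀ w, hermForm 6 F 2 w w ≠ 0 → ¬ B ≤ Pt 2 w) : False := by
  have hS := card_u6 hF
  have : Finite (PSU 6 F 2) := Nat.finite_of_card_ne_zero (by rw [hS]; norm_num)
  obtain ⟨e⟩ := S1663.result (G := T) ⟨hs, hT⟩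
  obtain ⟨H, hH, h1⟩ := H533.Reg.exists_max (H89.Reg.comap_ne_top hB)
  have h2 : B.comap pr ≤ H.comap (suHom 6 F 2) := map_le_iff_le_comap.1 h1
  obtain ⟨Y, hY⟩ : ∃ Y : Subgroup (PSU 6 F 2), Y.comap pr = H.comap (suHom 6 F 2) :=
    ⟨_, comap_map_eq_self ((ker_le_comap _ B).trans h2)⟩
  have h3 : B ≤ Y := (comap_le_comap_of_surjective pr_surjective).1 (hY ▸ h2)
  have h4 : Y ≠ ⊤ := by
    rintro rfl
    refine hH.1.not_ge fun g hg => ?_
    obtain ⟨g, rfl⟩ := H918.exists_suHom hg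
    exact hY.le (mem_top _)
  have h5 := h.mono le_rfl h3
  have h6 := h5.card_left
  have h7 := h5.card
  have h8 := le_index hF h4
  have h9 : ∀ w, hermForm 6 F 2 w w ≠ 0 → ¬ Y ≤ Pt 2 w := fun w hw k => hN w hw (h3.trans k)
  rw [hS, hT] at h7
  rw [hT] at h6
  have h10 : Nat.card Y = 20736 * Nat.card ↥(T ⊓ Y) := by omega
  have h11 : 443520 / Nat.card ↥(T ⊓ Y) = Y.index := Nat.div_eq_of_eq_mul_right Nat.card_pos h6.symm
  have h12 := List.all_eq_true.1 sv3 _ (mem_divsT (valid_prime v_m22) ((Dvd.intro _ h6).trans (valid_prod v_m22).symm.dvd))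
  have h13 : ¬ 11 ∣ Nat.card ↥(T ⊓ Y) := fun k =>
    absurd ((Dvd.intro _ h10.symm).trans (dvd11 hF h4 (k.trans (Dvd.intro_left _ h10.symm)) h9)) (by norm_num)
  have h14 : bad l_m22 n_m22 [] 30 H715.Fpr.M22.loc o_m22 (Nat.card ↥(T ⊓ Y)) = false := by
    have c := H715.Fpr.M22.ctx Mat.base
    have := c.fin
    have := c.simple
    rw [← Mat.card_im e Y]
    refine not_bad c.val c.card c.ords c.loc (by simp) (Mat.im_ne_top e fun k => ?_)
    rw [inf_eq_left.2 k, hT] at h6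
    omega
  rw [h11, ← h10, nbU hF h4, h14, decide_eq_false (not_lt.2 h8), beq_false_of_ne (mt Nat.dvd_of_mod_eq_zero h13)] at h12
  simp only [Bool.false_or, Bool.or_self, Bool.and_eq_true, bne_iff_ne, decide_eq_true_eq] at h12
  refine no_max hF hH (K := Y.comap pr) (fun g => by rw [hY, mem_comap]) ?_ ?_ ?_ fun w hw k => h9 w hw ?_
  · rw [card_comap hF, h10, ← mul_assoc]
    exact Dvd.intro _ rfl
  · rw [card_comap hF, h10, ← mul_assoc]
    exact fun k => h12.1 (Nat.mod_eq_zero_of_dvd ((by norm_num : Nat.Coprime 7 (3 * 20736)).dvd_of_dvd_mul_left k))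
  · rw [index_comap_of_surjective _ pr_surjective]
    exact h12.2
  · exact (comap_le_comap_of_surjective pr_surjective).1 (k.trans (comap_St hF (by norm_num) _).ge)

end B62N

open B62N Cfsg.Agent.OrdDiv Cfsg.Agent.H940.Eng in
/-- **`PSU₆(2)`, no factor fixes a nonsingular point** -/
theorem box62N : Box62N := by
  intro F _ _ hF T B f hN
  have hS := H251.Small.card_u6 hF
  have : Finite (PSU 6 F 2) := Nat.finite_of_card_ne_zero (by rw [hS]; norm_num)
  have h1 : Nat.card T ∣ 9196830720 := hS ▸ T.card_subgroup_dvd_card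
  have h2 := oU T f.simple (fun h => f.nab ⟨⟨h⟩⟩) h1
  have h3 : Nat.card ↥(T ⊓ B) ∣ Nat.card T := Subgroup.card_dvd_of_le inf_le_left
  have h4 := mem_divsT (valid_prime vU) (valid_prod vU ▸ h3.trans h1)
  have h5 : 9196830720 / Nat.card T * Nat.card ↥(T ⊓ B) = Nat.card B := by
    have h := f.pd.card
    obtain ⟨i, hi⟩ := h1
    rw [hS, hi, mul_assoc] at h
    rw [hi, Nat.mul_div_cancel_left _ Nat.card_pos]
    exact Nat.eq_of_mul_eq_mul_left Nat.card_pos h
  have h6 := nbU hF f.neY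
  have h7 := nbU hF (X := T ⊓ B) fun h => f.neY (top_le_iff.1 (h.ge.trans inf_le_right))
  have h8 : 11 ∣ Nat.card B → Nat.card B ∣ 887040 := fun h => dvd11 hF f.neY h fun w hw => (hN w hw).2
  by_cases h : 11 ∣ Nat.card T
  · have h9 := dvd11 hF f.neX h fun w hw => (hN w hw).1
    by_cases h10 : Nat.card T = 443520
    · exact no_m22 hF f.simple h10 f.neY f.pd fun w hw => (hN w hw).2
    have h11 := List.all_eq_true.1 sv2 _ h2
    rw [Nat.mod_eq_zero_of_dvd h, Nat.mod_eq_zero_of_dvd h9, beq_false_of_ne h10] at h11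
    have h12 := List.all_eq_true.1 (by simpa only [bne_self_eq_false, Bool.false_or, Bool.or_self] using h11) _ h4
    have h13 : Nat.card T / Nat.card ↥(T ⊓ B) = B.index := Nat.div_eq_of_eq_mul_right Nat.card_pos f.pd.card_left.symm
    have h14 : ¬ 11 ∣ Nat.card B := fun k =>
      absurd ((hS ▸ f.pd.card_dvd).trans (Nat.mul_dvd_mul h9 (h8 k))) (by norm_num)
    rw [h5, h6, h7, h13, Nat.mod_eq_zero_of_dvd h3, decide_eq_false (not_lt.2 (le_index hF f.neY)),
      beq_false_of_ne (mt Nat.dvd_of_mod_eq_zero h14)] at h12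
    simp only [bne_self_eq_false, Bool.false_or, Bool.or_self, Bool.and_eq_true, beq_iff_eq] at h12
    have h15 := (Sp.boxLc _ T _ inf_le_left f.lcX 5 1 2 Nat.prime_five one_pos (by norm_num) h12.2).1 fun d h1 h2 => by
      have := Nat.le_of_dvd two_pos h1
      omega
    rw [Subgroup.inf_relIndex_left, f.pd.relIndex, ← h13, h12.1, h12.2] at h15
    omega
  · have h9 := List.all_eq_true.1 sv1 _ h2
    rw [beq_false_of_ne (mt Nat.dvd_of_mod_eq_zero h), Bool.false_or] at h9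
    have h10 := List.all_eq_true.1 h9 _ h4
    rw [h5, h6, h7, Nat.mod_eq_zero_of_dvd h3,
      Nat.mod_eq_zero_of_dvd (h8 ((f.pd.prime_dvd (by norm_num) (by rw [hS]; norm_num)).resolve_left h))] at h10
    exact absurd h10 (by decide)

end Cfsg.Agent.SM.U
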