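import Cfsg.Agent.SM.U.Bas
import Cfsg.Agent.H77.Final
import Cfsg.Agent.H913.SubfieldMem
import Cfsg.Agent.S0277
import Cfsg.Agent.S0837

/-!
# SM (S3570), `PSU₆(2)`: orders of the geometric subgroups (helper75)

* `ts_three` : the stabiliser of a totally isotropic line or plane has no subgroup of order `3 ^ 5`;
* `nd_dvd` : the stabiliser of a nondegenerate subspace;
* `iso_index` : at most `693` isotropic points;
* `half` : the stabiliser of a decomposition into two parts;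
* `seven_sp` : the symplectic subfield group has order divisible by `63`.
-/

set_option autoImplicit false
set_option linter.unusedSectionVars false

namespace Cfsg.Agent.SM.U.B62N

open Cfsg Cfsg.Geo Subgroup Module Matrix
open Cfsg.Agent.LieClassical.HermBasic Cfsg.Agent.ClassicalGeometry.HermOrtho
open Cfsg.Agent.LieClassical.HermSiegel
open Cfsg.Agent.H918 (suHom SUg suHom_injective suHom_mem)
open Cfsg.Agent.H89.Reg (InvA)

variable {F : Type} [Field F] [Fintype F] {n q : ℕ}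

theorem card_units_end {X : Type} [AddCommGroup X] [Module F X] [FiniteDimensional F X] {d : ℕ} (h : finrank F X = d) :
    Nat.card (Module.End F X)ˣ = ∏ i : Fin d, (Fintype.card F ^ d - Fintype.card F ^ (i : ℕ)) := by
  rw [← Matrix.card_GL_field]
  exact Nat.card_congr (Units.mapEquiv (LinearMap.toMatrixAlgEquiv (Module.finBasisOfFinrankEq F X h)).toMulEquiv).toEquiv

/-- the natural representation -/
def rp (R : Subgroup (SU n F q)) : Representation F R (Fin n → F) where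
  toFun g := Matrix.toLin' (mat (g : SU n F q))
  map_one' := by rw [Subgroup.coe_one, mat_one, Matrix.toLin'_one]; rfl
  map_mul' g h := by rw [Subgroup.coe_mul, mat_mul, Matrix.toLin'_mul]; rfl

theorem rp_apply (R : Subgroup (SU n F q)) (g : R) (v : Fin n → F) : rp R g v = act (g : SU n F q) v :=
  Matrix.toLin'_apply _ _

theorem two_zero (hF : Fintype.card F = 2 ^ 2) : (2 : F) = 0 := by
  have h : ((Fintype.card F : ℕ) : F) = 0 := FiniteField.cast_card_eq_zero F
  rw [hF] at h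
  push_cast at h
  exact pow_eq_zero_iff (two_ne_zero) |>.1 (by rw [← h]; norm_num)

theorem add_self (hF : Fintype.card F = 2 ^ 2) (v : Fin n → F) : v + v = 0 := by
  rw [← two_smul F v, two_zero hF, zero_smul]

/-- groups of odd order in the stabiliser of a totally isotropic subspace -/
theorem ts_dvd (hF : Fintype.card F = 2 ^ 2) {W : Submodule F (Fin n → F)}
    (hW : ∀ u ∈ W, ∀ v ∈ W, hermForm n F 2 u v = 0) {R : Subgroup (SU n F 2)} (hR : InvA R W) (ho : Odd (Nat.card R))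
    {k m : ℕ} (hk : finrank F W = k) (hm : n = k + (k + m)) :
    Nat.card R ∣ (∏ i : Fin k, (4 ^ k - 4 ^ (i : ℕ))) * ∏ i : Fin m, (4 ^ m - 4 ^ (i : ℕ)) := by
  have hfin : Finite (SU n F 2) := inferInstance
  set U : Submodule F (Fin n → F) := hermPerp 2 (W : Set (Fin n → F)) with hU
  have hWU : W ≤ U := fun u hu v hv => hW u hu v hv
  have h1 : ∀ g : R, W ≤ W.comap (rp R g) := fun g w hw => by
    rw [Submodule.mem_comap, rp_apply]
    exact hR g g.2 w hw
  have h2 : ∀ g : R, U ≤ U.comap (rp R g) := fun g w hw => by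
    rw [Submodule.mem_comap, rp_apply]
    exact hR.perp g g.2 w hw
  have h3 : ∀ g : R, W.comap U.subtype ≤ (W.comap U.subtype).comap ((rp R).subrepresentation U h2 g) := fun g w hw =>
    h1 g hw
  let a := ((rp R).subrepresentation W h1).toHomUnits
  let b := (((rp R).subrepresentation U h2).quotient _ h3).toHomUnits
  have hinj : Function.Injective (a.prod b) := by
    rw [injective_iff_map_eq_one]
    intro g hg
    have ha : a g = 1 := congrArg Prod.fst hg
    have hb : b g = 1 := congrArg Prod.snd hg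
    have e1 : ∀ w ∈ W, act (g : SU n F 2) w = w := fun w hw => by
      have := congrArg (fun x : (Module.End F W)ˣ => (((x : Module.End F W) ⟨w, hw⟩ : W) : Fin n → F)) ha
      rw [← rp_apply]
      exact this
    have e2 : ∀ u ∈ U, act (g : SU n F 2) u - u ∈ W := fun u hu => by
      have h4 := congrArg (fun x : (Module.End F (U ⧸ W.comap U.subtype))ˣ =>
        (x : Module.End F (U ⧸ W.comap U.subtype)) (Submodule.Quotient.mk ⟨u, hu⟩)) hb
      have h5 : (Submodule.Quotient.mk ((rp R).subrepresentation U h2 g ⟨u, hu⟩) : U ⧸ W.comap U.subtype) =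
        Submodule.Quotient.mk ⟨u, hu⟩ := h4
      rw [Submodule.Quotient.eq] at h5
      rw [← rp_apply]
      exact h5
    have e3 : ∀ v, act (g : SU n F 2) v - v ∈ U := fun v w hw => by
      rw [herm_sub_left]
      conv_lhs => rw [← e1 w hw, herm_act, e1 w hw]
      exact sub_self _
    have e4 : ∀ v, act ((g : SU n F 2) * (g : SU n F 2)) v - v ∈ W := fun v => by
      have h4 := e2 _ (e3 v)
      rw [act_sub] at h4
      have h5 : act ((g : SU n F 2) * (g : SU n F 2)) v - v = act (g : SU n F 2) (act (g : SU n F 2) v) - act (g : SU n F 2) v -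
          (act (g : SU n F 2) v - v) + ((act (g : SU n F 2) v - v) + (act (g : SU n F 2) v - v)) := by
        rw [act_mul]
        abel
      rw [h5, add_self hF, add_zero]
      exact h4
    have e5 : (g : SU n F 2) * (g : SU n F 2) * ((g : SU n F 2) * (g : SU n F 2)) = 1 := ext_act fun v => by
      have h4 : act ((g : SU n F 2) * (g : SU n F 2)) (act ((g : SU n F 2) * (g : SU n F 2)) v - v) = act ((g : SU n F 2) * (g : SU n F 2)) v - v := by
        rw [act_mul, e1 _ (e4 v), e1 _ (e4 v)]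
      rw [act_sub] at h4
      have h5 : act ((g : SU n F 2) * (g : SU n F 2)) (act ((g : SU n F 2) * (g : SU n F 2)) v) = v + ((act ((g : SU n F 2) * (g : SU n F 2)) v - v) +
          (act ((g : SU n F 2) * (g : SU n F 2)) v - v)) := by
        rw [sub_eq_iff_eq_add.1 h4]
        abel
      rw [act_mul, h5, add_self hF, add_zero, act_one]
    have e6 : g ^ 4 = 1 := Subtype.ext (by
      rw [Subgroup.coe_pow, Subgroup.coe_one, ← e5, pow_succ, pow_succ, pow_two, mul_assoc])
    have e7 : orderOf g ∣ Nat.gcd 4 (Nat.card R) := Nat.dvd_gcd (orderOf_dvd_of_pow_eq_one e6) (orderOf_dvd_natCard g)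
    have e8 : Nat.Coprime 4 (Nat.card R) := (Nat.coprime_two_left.2 ho).pow_left 2
    rw [e8, Nat.dvd_one] at e7
    exact orderOf_eq_one_iff.1 e7
  have h4 := Subgroup.card_dvd_of_injective _ hinj
  have h5 : finrank F (U ⧸ W.comap U.subtype) = m := by
    have e1 := Submodule.finrank_quotient_add_finrank (W.comap U.subtype)
    have e2 : finrank F (W.comap U.subtype) = k := by rw [← hk]; exact (Submodule.comapSubtypeEquivOfLe hWU).finrank_eq
    have e3 := H89.Reg.finrank_perp hF W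
    rw [← hU] at e3
    omega
  rwa [Nat.card_prod, card_units_end hk, card_units_end h5, hF] at h4

theorem ts_three (hF : Fintype.card F = 2 ^ 2) {W : Submodule F (Fin 6 → F)}
    (hW : ∀ u ∈ W, ∀ v ∈ W, hermForm 6 F 2 u v = 0) (hk : finrank F W = 2 ∨ finrank F W = 3)
    {K : Subgroup (SU 6 F 2)} (hK : InvA K W) : ¬ 3 ^ 5 ∣ Nat.card K := by
  intro h
  have hfin : Finite (SU 6 F 2) := inferInstance
  have := Fact.mk Nat.prime_three
  obtain ⟨R, hR⟩ := Sylow.exists_subgroup_card_pow_prime 3 h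
  have h1 : Nat.card (R.map K.subtype) = 3 ^ 5 := by rw [card_map_of_injective K.subtype_injective, hR]
  have h2 : InvA (R.map K.subtype) W := fun g hg => hK g (map_subtype_le R hg)
  rcases hk with hk | hk
  · have h3 := ts_dvd hF hW h2 (by rw [h1]; decide) hk (m := 2) rfl
    rw [h1] at h3
    revert h3
    decide
  · have h3 := ts_dvd hF hW h2 (by rw [h1]; decide) hk (m := 0) rfl
    rw [h1] at h3
    revert h3
    decide

theorem ts_le (hF : Fintype.card F = q ^ 2) {W : Submodule F (Fin n → F)}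
    (hW : ∀ u ∈ W, ∀ v ∈ W, hermForm n F q u v = 0) : 2 * finrank F W ≤ n := by
  have h1 : W ≤ hermPerp q (W : Set (Fin n → F)) := fun u hu v hv => hW u hu v hv
  have h2 := Submodule.finrank_mono h1
  have h3 := H89.Reg.finrank_perp hF W
  omega

theorem nd_dvd (hF : Fintype.card F = q ^ 2) {W : Submodule F (Fin n → F)} (hW : IsNondegenerateOn (hermForm n F q) W)
    {k : ℕ} (hk : finrank F W = k) {K : Subgroup (SU n F q)} (hK : InvA K W) :
    Nat.card K ∣ Nat.card (GU k F q) * Nat.card (GU (n - k) F q) := by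
  have hkn : k ≤ n := by
    have := Submodule.finrank_le W
    rwa [hk, finrank_fin_fun] at this
  obtain ⟨e⟩ := S0837.result hF n k hkn W hk fun u hu h => by
    by_contra h0
    obtain ⟨-, x, hx, h1⟩ := hW u hu h0
    exact h1 (h x hx)
  rw [← Nat.card_prod, ← Nat.card_congr e.toEquiv]
  let ι : K →* GU n F q := ((suHom n F q).comp K.subtype).codRestrict _ fun g => (suHom_mem (g : SU n F q)).1
  have hι : Function.Injective ι := fun a b h => Subtype.ext (suHom_injective (congrArg Subtype.val h))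
  refine Subgroup.card_dvd_of_injective (ι.codRestrict _ fun g => ?_) fun a b h => hι (congrArg Subtype.val h)
  exact mem_Sb_of (hK g g.2)

theorem card_gu (hF : Fintype.card F = 2 ^ 2) :
    Nat.card (GU 2 F 2) = 18 ∧ Nat.card (GU 3 F 2) = 648 ∧ Nat.card (GU 4 F 2) = 77760 := by
  rw [S0277.result hF 2, S0277.result hF 3, S0277.result hF 4]
  decide

theorem iso_index (hF : Fintype.card F = 2 ^ 2) {w : Fin 6 → F} (h0 : w ≠ 0) (hw : hermForm 6 F 2 w w = 0) :
    (Sb 2 (F ∙ w)).index ≤ 693 := by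
  classical
  have h1 : H77.Final.St 2 w = Sb 2 (F ∙ w) := by
    ext g
    rw [H77.Final.mem_St, mem_Sb_span]
    refine ⟨fun ⟨c, _, h⟩ => ⟨c, h⟩, fun ⟨c, h⟩ => ⟨c, ?_, h⟩⟩
    rintro rfl
    rw [zero_smul, act_eq_zero] at h
    exact h0 h
  have h2 := H77.Final.index_St hF h0
    (Finset.univ.filter fun v => ∃ (g : SU 6 F 2) (c : F), c ≠ 0 ∧ v = c • act g w) (fun v => by simp)
  have h3 : (Finset.univ.filter fun v => ∃ (g : SU 6 F 2) (c : F), c ≠ 0 ∧ v = c • act g w) ⊆ H77.Step7.Is 2 6 F := by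
    intro v hv
    obtain ⟨g, c, hc, rfl⟩ := (Finset.mem_filter.1 hv).2
    refine H77.Step7.mem_Is.2 ⟨smul_ne_zero hc fun h => h0 ((act_eq_zero g).1 h), ?_⟩
    rw [herm_smul_left, herm_smul_right, herm_act, hw, mul_zero, mul_zero]
  have h4 := Finset.card_le_card h3
  have h5 := H77.Step7.card_Is (F := F) (n := 6) hF (by norm_num)
  have h6 : H77.Step1.In 2 6 = 2079 := by decide
  rw [h6] at h5
  rw [h1] at h2
  omega

theorem half {D : Fin 2 → Submodule F (Fin n → F)} {K : Subgroup (SU n F q)}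
    (hK : ∀ g ∈ K, suHom n F q g ∈ decompositionStabilizer D) : Nat.card K ∣ Nat.card ↥(K ⊓ Sb q (D 0)) * 2 := by
  have key : ∀ g ∈ K, g ∉ Sb q (D 0) → (∀ v ∈ D 0, act g v ∈ D 1) ∧ ∀ v ∈ D 1, act g v ∈ D 0 := by
    intro g hg h
    obtain ⟨σ, hσ⟩ := hK g hg
    have h1 : ∀ i, ∀ v ∈ D i, act g v ∈ D (σ i) := fun i v hv => by
      rw [← hσ i]
      exact ⟨v, hv, Matrix.toLin'_apply _ _⟩
    have h2 : σ 0 ≠ 0 := fun h2 => h (mem_Sb_of fun v hv => h2 ▸ h1 0 v hv)
    have h3 : σ 0 = 1 := by omega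
    have h4 : σ 1 = 0 := by
      have : σ 1 ≠ σ 0 := σ.injective.ne (by decide)
      omega
    exact ⟨h3 ▸ h1 0, h4 ▸ h1 1⟩
  have h1 : ((Sb q (D 0)).subgroupOf K).index ∣ 2 := by
    rw [index_dvd_two_iff]
    by_cases h : ∀ b : K, (b : SU n F q) ∈ Sb q (D 0)
    · exact ⟨1, fun b => .inr (h b)⟩
    · push Not at h
      obtain ⟨a, ha⟩ := h
      refine ⟨a, fun b => ?_⟩
      by_cases hb : (b : SU n F q) ∈ Sb q (D 0)
      · exact .inr hb
      · refine .inl (mem_subgroupOf.2 (mem_Sb_of fun v hv => ?_))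
        rw [Subgroup.coe_mul, act_mul]
        exact (key b b.2 hb).2 _ ((key a a.2 ha).1 v hv)
  rw [← ((Sb q (D 0)).subgroupOf K).card_mul_index, ← inf_subgroupOf_left,
    Nat.card_congr (subgroupOfEquivOfLe (inf_le_left : K ⊓ Sb q (D 0) ≤ K)).toEquiv]
  exact Nat.mul_dvd_mul_left _ (by rwa [inf_subgroupOf_left])

/-- the symplectic subfield group is transitive on the `63` rational points -/
theorem seven_sp (hF : Fintype.card F = 2 ^ 2) {F₀ : Subfield F} {P : GL (Fin 6) F} {ζ : F}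
    (hc : Fintype.card F = Nat.card F₀ ^ 2) (hζ : ζ ≠ 0) (hζ2 : ζ + ζ ^ 2 = 0)
    (hP : IsFormRationalStructure (hermForm 6 F 2) F₀ ζ P)
    (hi : ∀ u : Fin 6 → F, (∀ i, u i ∈ F₀) →
      hermForm 6 F 2 ((P : Matrix (Fin 6) (Fin 6) F) *ᵥ u) ((P : Matrix (Fin 6) (Fin 6) F) *ᵥ u) = 0)
    {K : Subgroup (SU 6 F 2)} (hK : ∀ g, suHom 6 F 2 g ∈ subfieldSubgroup F₀ P → g ∈ K) : 7 ∣ Nat.card K := by
  classical
  have hfin : Finite (SU 6 F 2) := inferInstance
  have h2 := two_zero hF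
  have hc2 : Nat.card F₀ = 2 := by
    rw [hF] at hc
    exact (Nat.pow_left_injective two_ne_zero hc).symm
  have hζ1 : ζ = 1 := by
    have h : ζ * (1 + ζ) = 0 := by rw [← hζ2]; ring
    have h' := (mul_eq_zero.1 h).resolve_left hζ
    linear_combination h' - h2
  have h01 : ∀ x ∈ F₀, x ≠ 0 → x = 1 := by
    intro x hx h0
    let _ := Fintype.ofFinite F₀
    have h := FiniteField.pow_card (⟨x, hx⟩ : F₀)
    rw [← Nat.card_eq_fintype_card, hc2] at h
    have h' : x ^ 2 = x := congrArg Subtype.val h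
    exact mul_left_cancel₀ h0 (by rw [← pow_two, h', mul_one])
  set M : Matrix (Fin 6) (Fin 6) F := (P : Matrix (Fin 6) (Fin 6) F) with hM
  let L : Set (Fin 6 → F) := {v | ∃ u : Fin 6 → F, (∀ i, u i ∈ F₀) ∧ v = M *ᵥ u}
  have hLh : ∀ a ∈ L, ∀ b ∈ L, hermForm 6 F 2 a b ∈ F₀ := by
    rintro _ ⟨u, hu, rfl⟩ _ ⟨v, hv, rfl⟩
    have h := hP u v hu hv
    rwa [hζ1, one_mul] at h
  have hLi : ∀ a ∈ L, hermForm 6 F 2 a a = 0 := by
    rintro _ ⟨u, hu, rfl⟩
    exact hi u hu
  have hLa : ∀ a ∈ L, ∀ b ∈ L, ∀ c ∈ F₀, a + c • b ∈ L := by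
    rintro _ ⟨u, hu, rfl⟩ _ ⟨v, hv, rfl⟩ c hc
    exact ⟨u + c • v, fun i => F₀.add_mem (hu i) (F₀.mul_mem hc (hv i)), by rw [mulVec_add, mulVec_smul]⟩
  have hLe : ∀ j, M *ᵥ Pi.single j 1 ∈ L := fun j => ⟨_, fun i => by
    by_cases h : i = j
    · rw [h, Pi.single_eq_same]
      exact F₀.one_mem
    · rw [Pi.single_eq_of_ne h]
      exact F₀.zero_mem, rfl⟩
  have hMs : ∀ v, M *ᵥ (((P⁻¹ : GL (Fin 6) F) : Matrix (Fin 6) (Fin 6) F) *ᵥ v) = v := fun v => by
    rw [mulVec_mulVec, hM, ← Units.val_mul, mul_inv_cancel, Units.val_one, one_mulVec]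
  have hMi : Function.Injective fun u : Fin 6 → F => M *ᵥ u := Finite.injective_iff_surjective.2 fun v => ⟨_, hMs v⟩
  have hnd : ∀ a : Fin 6 → F, a ≠ 0 → ∃ c ∈ L, hermForm 6 F 2 a c ≠ 0 := by
    intro a ha
    by_contra h
    push Not at h
    refine ha (herm_nondeg hF fun v => ?_)
    rw [← hMs v, pi_eq_sum_univ' (((P⁻¹ : GL (Fin 6) F) : Matrix (Fin 6) (Fin 6) F) *ᵥ v), mulVec_sum,
      herm_sum_right hF]
    refine Finset.sum_eq_zero fun j _ => ?_
    rw [mulVec_smul, herm_smul_right, h _ (hLe j), mul_zero]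
  let K₁ : Subgroup (SU 6 F 2) :=
    { carrier := {g | g ∈ K ∧ ∀ v, v ∈ L ↔ act g v ∈ L}
      mul_mem' := fun {a b} ha hb => ⟨K.mul_mem ha.1 hb.1, fun v => by rw [act_mul, ← ha.2, ← hb.2]⟩
      one_mem' := ⟨K.one_mem, fun v => by rw [act_one]⟩
      inv_mem' := fun {a} ha => ⟨K.inv_mem ha.1, fun v => by rw [ha.2 (act a⁻¹ v), act_act_inv]⟩ }
  have htv : ∀ a ∈ L, ∃ t ∈ K₁, ∀ v, act t v = v + hermForm 6 F 2 v a • a := by
    intro a ha
    have hs : IsSiegel 2 a 0 (1 : F) := ⟨hLi a ha, herm_zero_left _, by rw [herm_zero_left]; linear_combination h2⟩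
    have ht : ∀ v, act (siegel hF a 0 1 hs) v = v + hermForm 6 F 2 v a • a := fun v => by
      rw [act_siegel, smul_zero, add_zero, one_mul, herm_zero_right hF, sub_zero]
    have hL : ∀ v ∈ L, act (siegel hF a 0 1 hs) v ∈ L := fun v hv => by
      rw [ht]
      exact hLa v hv a ha _ (hLh v hv a ha)
    refine ⟨siegel hF a 0 1 hs, ⟨hK _ (H913.SubfieldMem.mem_subfieldSubgroup_of fun j => hL _ (hLe j)), fun v => ⟨hL v, fun hv => ?_⟩⟩, ht⟩
    have h := hL _ hv
    rwa [ht, ht, herm_add_left, herm_smul_left, hLi a ha, mul_zero, add_zero, add_assoc, add_self hF, add_zero] at h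
  have hmv : ∀ a ∈ L, ∀ b ∈ L, hermForm 6 F 2 a b ≠ 0 → ∃ t ∈ K₁, act t a = b := by
    intro a ha b hb h
    obtain ⟨t, ht, h1⟩ := htv _ (hLa a ha b hb 1 F₀.one_mem)
    refine ⟨t, ht, ?_⟩
    rw [h1, one_smul, herm_add_right hF, hLi a ha, zero_add, h01 _ (hLh a ha b hb) h, one_smul, ← add_assoc,
      add_self hF, zero_add]
  have htr : ∀ a ∈ L, ∀ b ∈ L, a ≠ 0 → b ≠ 0 → ∃ t ∈ K₁, act t a = b := by
    intro a ha b hb ha0 hb0
    obtain ⟨c, hc, h1, h3⟩ : ∃ c ∈ L, hermForm 6 F 2 a c ≠ 0 ∧ hermForm 6 F 2 b c ≠ 0 := by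
      obtain ⟨c, hc, h1⟩ := hnd a ha0
      obtain ⟨d, hd, h3⟩ := hnd b hb0
      by_cases h4 : hermForm 6 F 2 b c = 0
      · by_cases h5 : hermForm 6 F 2 a d = 0
        · refine ⟨_, hLa c hc d hd 1 F₀.one_mem, ?_, ?_⟩
          · rwa [one_smul, herm_add_right hF, h5, add_zero]
          · rwa [one_smul, herm_add_right hF, h4, zero_add]
        · exact ⟨d, hd, h5, h3⟩
      · exact ⟨c, hc, h1, h4⟩
    obtain ⟨s, hs, h4⟩ := hmv a ha c hc h1
    obtain ⟨t, ht, h5⟩ := hmv b hb c hc h3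
    exact ⟨t⁻¹ * s, K₁.mul_mem (K₁.inv_mem ht) hs, by rw [act_mul, h4, ← h5, act_inv_act]⟩
  have hcL : L.ncard = 64 := by
    have h : L = Set.range fun u : Fin 6 → F₀ => M *ᵥ fun i => (u i : F) := by
      ext v
      exact ⟨fun ⟨u, hu, h⟩ => ⟨fun i => ⟨u i, hu i⟩, h.symm⟩, fun ⟨u, h⟩ => ⟨_, fun i => (u i).2, h.symm⟩⟩
    rw [h, Set.ncard_range_of_injective fun u v huv => funext fun i => Subtype.ext (congrFun (hMi huv) i), Nat.card_fun,
      hc2, Nat.card_eq_fintype_card, Fintype.card_fin]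
    rfl
  let _ : MulAction K₁ (Fin 6 → F) :=
    { smul := fun g v => act (g : SU 6 F 2) v
      one_smul := fun v => act_one v
      mul_smul := fun a b v => act_mul _ _ v }
  have he0 : M *ᵥ Pi.single 0 1 ≠ 0 := fun h => by
    have h1 := hMi (show M *ᵥ Pi.single 0 1 = M *ᵥ 0 by rw [h, mulVec_zero])
    simpa using congrFun h1 0
  have ho : MulAction.orbit K₁ (M *ᵥ Pi.single 0 1) = L \ {0} := by
    ext v
    constructor
    · rintro ⟨g, rfl⟩
      exact ⟨(g.2.2 _).1 (hLe 0), fun h => he0 ((act_eq_zero (g : SU 6 F 2)).1 h)⟩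
    · rintro ⟨hv, h0⟩
      obtain ⟨t, ht, h⟩ := htr _ (hLe 0) v hv he0 h0
      exact ⟨⟨t, ht⟩, h⟩
  have h1 := (MulAction.stabilizer K₁ (M *ᵥ Pi.single 0 1)).index_dvd_card
  have h3 : (MulAction.stabilizer K₁ (M *ᵥ Pi.single 0 1)).index = (L \ {0}).ncard :=
    (MulAction.index_stabilizer _ _).trans (congrArg Set.ncard ho)
  have h4 : (0 : Fin 6 → F) ∈ L := ⟨0, fun _ => F₀.zero_mem, (mulVec_zero M).symm⟩
  rw [h3, Set.ncard_sdiff_singleton_of_mem h4, hcL] at h1
  exact ((by decide : 7 ∣ 64 - 1).trans h1).trans (card_dvd_of_le fun g hg => hg.1)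

end Cfsg.Agent.SM.U.B62N
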