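import Cfsg.Agent.SM.U.BNN
import Cfsg.Agent.H89.Reg.Nine
import Cfsg.Agent.H951.Rg.Max93
import Cfsg.Agent.S5833
import Cfsg.Agent.S2151

/-!
# SM (S3570), `PSU_9(q)` (helper58)

* `first`, `second` : the overgroups of the primitive primes of `q ^ 9 + 1`, `q ^ 7 + 1`;
* `field` : the normaliser of a field; `plane`, `iso`, `eq_Pt`, `ns` : `q = 2`; `box9_of`.
-/

set_option autoImplicit false
set_option linter.unusedSectionVars false

namespace Cfsg.Agent.SM.U.B9

open Cfsg Cfsg.Geo Subgroup Module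
open Cfsg.Agent.LieClassical.HermBasic Cfsg.Agent.ClassicalGeometry.HermOrtho
open Cfsg.Agent.LieClassical.HermSiegel (act act_one act_mul act_add act_smul herm_act ext_act act_eq_zero)
open Cfsg.Agent.H89.Reg Cfsg.Agent.H533.Reg Cfsg.Agent.SM.Ex78
open Cfsg.Agent.GpUn (fx ND fixG exists_equiv nd_top)
open Cfsg.Agent.H674.SUBlock (pr pr_surjective)
open Cfsg.Agent.H918 (suHom SUg suHom_injective sup_scalars_ne)
open Cfsg.Agent.ClassicalGeometry.UnitTransv (utv act_utv)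

theorem pow_split {r a b m k : ℕ} (hr : r.Prime) (h : r ^ (a + b + 1) ∣ m * k) : r ^ (a + 1) ∣ m ∨ r ^ (b + 1) ∣ k := by
  obtain ⟨y, z, hy, hz, e⟩ := Nat.dvd_mul.1 h
  obtain ⟨i, -, rfl⟩ := (Nat.dvd_prime_pow hr).1 (Dvd.intro _ e)
  obtain ⟨j, -, rfl⟩ := (Nat.dvd_prime_pow hr).1 (Dvd.intro_left _ e)
  rw [← pow_add] at e
  have h1 := Nat.pow_right_injective hr.two_le e
  by_cases h2 : a + 1 ≤ i
  · exact .inl ((pow_dvd_pow r h2).trans hy)
  · exact .inr ((pow_dvd_pow r (by omega)).trans hz)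

theorem card_inf_mul {G : Type*} [Group G] (A H : Subgroup G) : Nat.card ↥(A ⊓ H) * H.relIndex A = Nat.card A := by
  rw [relIndex, ← (H.subgroupOf A).card_mul_index]
  congr 1
  rw [← inf_subgroupOf_left]
  exact (Nat.card_congr (subgroupOfEquivOfLe (inf_le_left : A ⊓ H ≤ A)).toEquiv).symm

variable {F : Type} [Field F] [Fintype F] {n p f l q : ℕ}

/-- the orbit of a vector of an invariant subspace -/
theorem rel_lt {A : Subgroup (SU n F q)} {W : Submodule F (Fin n → F)} (hW : InvA A W) {w : Fin n → F} (hw : w ∈ W)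
    (h0 : w ≠ 0) : (fixV q w).relIndex A < Nat.card W := by
  let _ : MulAction (SU n F q) (Fin n → F) := { smul := act, one_smul := act_one, mul_smul := act_mul }
  have h1 : (fixV q w).subgroupOf A = MulAction.stabilizer A w := Subgroup.ext fun _ => Iff.rfl
  rw [relIndex, h1, MulAction.index_stabilizer]
  refine Set.ncard_lt_ncard (t := (W : Set (Fin n → F))) ⟨?_, fun h => ?_⟩
  · rintro _ ⟨g, rfl⟩
    exact hW g g.2 w hw
  · obtain ⟨g, hg⟩ := h W.zero_mem
    exact h0 ((act_eq_zero g.1).1 hg)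

theorem pt_of_line (hF : Fintype.card F = q ^ 2) (hn : 3 ≤ n) {X : Subgroup (PSU n F q)} {W : Submodule F (Fin n → F)}
    (hW : InvA (X.comap pr) W) (h1 : finrank F W = 1) {w : Fin n → F} (hw : w ∈ W) (h0 : w ≠ 0) : X ≤ Pt q w :=
  (le_Pt hF hn).2 fun g hg => by
    obtain ⟨c, hc⟩ := (finrank_eq_one_iff_of_nonzero' (⟨w, hw⟩ : W) fun h => h0 (congrArg Subtype.val h)).1 h1
      ⟨act g w, hW g hg w hw⟩
    exact ⟨c, (congrArg Subtype.val hc).symm⟩

section

variable (hF : Fintype.card F = (p ^ f) ^ 2) (hp : p.Prime) (hf : 1 ≤ f)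

include hF hp hf

/-- the factor that contains a primitive prime of `q ^ 9 + 1` -/
theorem first (hl : Pm p f 9 l) {X Y : Subgroup (PSU 9 F (p ^ f))} (h : Pd X Y) (hX : X ≠ ⊤) (hY : Y ≠ ⊤)
    (hd : l ∣ Nat.card X) :
    (∃ K : Subalgebra F (Matrix (Fin 9) (Fin 9) F), IsFieldSubalgebra 3 K ∧ IsAdjointClosedFor (hermForm 9 F (p ^ f)) K ∧
      gl X ≤ subalgebraNormalizer K) ∨ (p ^ f = 2 ∧ Nat.card X ∣ 100465920) := by
  obtain ⟨H, hH, hAH⟩ := exists_max (comap_ne_top hX)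
  have hfinG : Finite (GL (Fin 9) F) := inferInstance
  have hdH : Nat.card X ∣ Nat.card H := (card_dvd_comap X).trans
    ((card_map_of_injective suHom_injective).symm.dvd.trans (card_dvd_of_le hAH))
  rcases S5663.result 9 (p ^ f) hF (by omega) (by omega) H hH.1.le (sup_scalars_ne hF (by omega) (by omega) hH) with
    ⟨M, hM, hHM⟩ | hres
  · rcases class_gen hF hp hf (by norm_num) (by decide) le_rfl (by omega) hl hM
      ((hd.trans hdH).trans (card_dvd_of_le hHM)) with ⟨h1, -⟩ | ⟨-, r, K, hr, -, hK, hadj, rfl⟩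
    · omega
    · have h1 := H912.finrank_dvd_of_fieldSub hK
      rw [Fintype.card_fin] at h1
      obtain rfl : r = 3 := (Nat.prime_dvd_prime_iff_eq hr Nat.prime_three).1 (hr.dvd_of_dvd_pow (n := 2) h1)
      exact .inl ⟨K, hK, hadj, le_trans hAH (hHM.trans inf_le_left)⟩
  · obtain ⟨P, hP, hc⟩ := S5833.result _ hF H hH hres
    have h1 := card_dvd_aut (Y := X) hP hAH
    have hs := hP.simple
    rcases hc with ⟨⟨e⟩, -⟩ | ⟨hJ, hq⟩ | ⟨⟨e⟩⟩
    · rw [Nat.card_congr (MulAut.congr e).toEquiv, H951.Rg.card_aut_l219] at h1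
      have hq := two_le hF
      have h2 := (((S2151.result _ hF hq 9 (by norm_num) (by decide)).1 Y hY).trans h.index_le).trans
        (Nat.le_of_dvd (by norm_num) h1)
      generalize p ^ f = q at *
      have h3 : 2 ^ 2 ≤ q ^ 2 := Nat.pow_le_pow_left hq 2
      have h4 : 2 ^ 6 ≤ q ^ 6 := Nat.pow_le_pow_left hq 6
      have h5 : 2 ^ 9 ≤ q ^ 9 := Nat.pow_le_pow_left hq 9
      have h6 : q ^ 6 * (q ^ 2 - 1) ≤ q ^ (9 - 1) - 1 := by
        rw [Nat.mul_sub_one, ← pow_add]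
        exact Nat.sub_le_sub_left (by omega) _
      have h7 : (2 ^ 9 + 1) * 2 ^ 6 ≤ (q ^ 9 + 1) * (q ^ (9 - 1) - 1) / (q ^ 2 - 1) := by
        rw [Nat.le_div_iff_mul_le (by omega), mul_assoc]
        exact Nat.mul_le_mul (by omega) ((Nat.mul_le_mul_right _ h4).trans h6)
      exact absurd (h7.trans h2) (by norm_num)
    · exact .inr ⟨hq, by rwa [H951.Rg.card_aut_j3 hP.nonabelian hJ] at h1⟩
    · have h2 := hd.trans h1
      rw [← H934.OutB.card_out_mul _ hP.nonabelian] at h2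
      exact (H729.CovSU9.l3 hF hp rfl hf hP.nonabelian e hl.pr (hl.ord hp hf (by norm_num) (by decide)) (by decide)
        (by norm_num) (hl.dvd_pred hp hf (by norm_num)) (hl.pr.dvd_mul.1 h2)).elim

/-- the factor that contains a primitive prime of `q ^ 7 + 1` -/
theorem second (hl : Pm p f 7 l) {Y : Subgroup (PSU 9 F (p ^ f))} (hY : Y ≠ ⊤) (hd : l ∣ Nat.card Y) :
    ∃ W : Submodule F (Fin 9 → F), 1 ≤ finrank F W ∧ finrank F W ≤ 2 ∧ InvA (Y.comap pr) W := by
  obtain ⟨M, hM, hYM⟩ := (eq_top_or_exists_le_coatom Y).resolve_left hY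
  have h1 := hd.trans (card_dvd_of_le hYM)
  have h2 := hl.lt hp hf (by norm_num)
  rcases H729.CovU.geo_over_pre hF hp rfl hf hl.pr hl.iff (hl.ord hp hf (by norm_num) (by decide)) (by decide)
    (by norm_num) (by norm_num) (by omega) hM.1 h1 with
    ⟨W, h0, -, hW, hle⟩ | ⟨W, h0, -, -, hW, hle⟩ | ⟨r, K, hr, -, hr9, hr7, -, -⟩ | hMr
  · exact ⟨W, Submodule.one_le_finrank_iff.2 h0, by omega, (inv_of_pre hle).mono fun _ hg => hYM hg⟩
  · exact ⟨W, Submodule.one_le_finrank_iff.2 h0, by omega, (inv_of_pre hle).mono fun _ hg => hYM hg⟩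
  · obtain rfl := (Nat.prime_dvd_prime_iff_eq hr Nat.prime_two).1 (Nat.dvd_sub hr9 hr7)
    norm_num at hr7
  · exact absurd h1 (nine_res (fun H hH hS => S5833.result _ hF H hH hS) hp hf hF hl hM hMr)

/-- no factor normalises a field -/
theorem field (hNF : BoxNF) {X Y : Subgroup (PSU 9 F (p ^ f))} (h : Pd X Y) (hY : Y ≠ ⊤)
    {K : Subalgebra F (Matrix (Fin 9) (Fin 9) F)} (hK : IsFieldSubalgebra 3 K)
    (hadj : IsAdjointClosedFor (hermForm 9 F (p ^ f)) K) (hX : gl X ≤ subalgebraNormalizer K) : False := by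
  have hN : NF (X.comap pr) 3 := ⟨K, hK, fun g hg => hX ⟨g, hg, rfl⟩⟩
  obtain ⟨s, hs⟩ := exists_pm (k := 7) hp hf (by norm_num) (by decide)
  obtain ⟨t, ht⟩ := exists_ev (n := 8) hp hf (by norm_num)
  have htO := ht.card_ord (by decide) hF
  have htq : ¬ t ∣ p ^ f := H251.GeoU.not_dvd_of_ord ht.pr ht.ord (by omega)
  have h1 := hs.lt hp hf (by norm_num)
  have h2 := ht.le (by norm_num)
  have h3 : s ∣ Nat.card Y := (h.prime_dvd hs.pr (hs.dvd_psu hp hf (by norm_num) (by decide) (by norm_num) hF)).resolve_left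
    fun e => by
      obtain ⟨i, k1, k2, k3⟩ := hN.div hF Nat.prime_three (by norm_num) hs.pr (hs.not_dvd_q hp hf (by norm_num))
        (by omega) (hs.card_ord hp hf (by norm_num) (by decide) hF) (dvd_comap_of e)
      omega
  have h4 : t ∣ Nat.card Y := (h.prime_dvd ht.pr (ht.dvd_psu (by norm_num) (by norm_num) hF)).resolve_left fun e => by
    obtain ⟨i, k1, k2, k3⟩ := hN.div hF Nat.prime_three (by norm_num) ht.pr htq (by omega) htO (dvd_comap_of e)
    omega
  obtain ⟨W, k1, k2, hW⟩ := second hF hp hf hs hY h3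
  obtain ⟨g, hg, hgs, hg1, -⟩ := exists_elt_pr ht.pr h4
  have h5 := fx_dim_neg hF ht.pr htq hgs hg1
  rw [ht.ord] at h5
  have h6 : W ≤ fx g := le_fx (a := 1) ht.pr htO (by rw [pow_one]; exact hgs) (hW g hg) (by omega)
  have h7 := Submodule.finrank_mono h6
  have h8 : ND (p ^ f) W := by
    rw [Submodule.eq_of_le_of_finrank_le h6 (by omega)]
    exact nd_fx (a := 1) hF ht.pr htq (by rw [pow_one]; exact hgs)
  obtain ⟨w, hw, hwW⟩ := exists_span (by omega) h8
  exact hNF F 9 _ hF (by norm_num) _ (tr_of_pd hF (by norm_num) h.symm hw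
    (pt_of_line hF (by norm_num) hW (by omega) hwW (ne_zero_of_ns hw))) 3 K Nat.prime_three (by decide) hK hadj hX

end

/-- the stabiliser of a nondegenerate plane of `SU_9(2)` -/
theorem plane (hq : q = 2) (hF : Fintype.card F = q ^ 2) {A : Subgroup (SU 9 F q)} {W : Submodule F (Fin 9 → F)}
    (hW : InvA A W) (h2 : finrank F W = 2) (hnd : ND q W) : ¬ 2 ^ 28 ∣ Nat.card A := by
  subst hq
  intro hd
  have hfin : Finite (SU 9 F 2) := inferInstance
  let b := Module.finBasisOfFinrankEq F W h2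
  have hc : Nat.card W = 16 := by
    rw [Module.natCard_eq_pow_finrank (K := F), h2, Nat.card_eq_fintype_card, hF]
    norm_num
  have h0 : ∀ i, (b i : Fin 9 → F) ≠ 0 := fun i e => b.ne_zero i (Subtype.ext e)
  have key : ∀ (C : Subgroup (SU 9 F 2)) (i : Fin 2) (a : ℕ), InvA C W → 2 ^ (a + 3 + 1) ∣ Nat.card C →
      2 ^ (a + 1) ∣ Nat.card ↥(C ⊓ fixV 2 (b i : Fin 9 → F)) := fun C i a hC e => by
    rw [← card_inf_mul C (fixV 2 (b i : Fin 9 → F))] at e
    refine (pow_split Nat.prime_two e).resolve_right fun e' => ?_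
    have h1 := rel_lt hC (b i).2 (h0 i)
    have h3 := Nat.le_of_dvd (Nat.pos_of_ne_zero (FiniteIndex.index_ne_zero)) e'
    rw [hc] at h1
    exact absurd (h3.trans_lt h1) (by norm_num)
  have h3 := key _ 1 21 (hW.mono inf_le_left) (key A 0 24 hW hd)
  set U := hermPerp 2 (W : Set (Fin 9 → F)) with hU
  have h4 : finrank F W + finrank F U = 9 := finrank_perp hF W
  have h5 : finrank F U + finrank F (hermPerp 2 (U : Set (Fin 9 → F))) = 9 := finrank_perp hF U
  obtain ⟨e⟩ := exists_equiv hF U (hermPerp_nondeg hF W hnd) (show finrank F U = 7 by omega)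
  have h9 : W ≤ hermPerp 2 (U : Set (Fin 9 → F)) := fun z hz u hu => herm_eq_zero_swap hF (hu z hz)
  rw [← Submodule.eq_of_le_of_finrank_le h9 (by omega)] at e
  have h6 : A ⊓ fixV 2 (b 0 : Fin 9 → F) ⊓ fixV 2 (b 1 : Fin 9 → F) ≤ fixG 2 W := by
    rintro g ⟨⟨-, k0⟩, k1⟩ v hv
    have h7 := congrArg Subtype.val (b.sum_repr ⟨v, hv⟩)
    rw [Fin.sum_univ_two, Submodule.coe_add, Submodule.coe_smul, Submodule.coe_smul] at h7
    change _ = v at h7
    rw [← h7, act_add, act_smul, act_smul, k0, k1]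
  have h7 := h3.trans (card_dvd_of_le h6)
  rw [← Nat.card_congr e.toEquiv] at h7
  have h8 := S0278.result hF 7 (by norm_num)
  norm_num [Finset.prod_range_succ, Nat.even_iff] at h8
  omega

/-- `q = 2`: the stabiliser of an isotropic point centralises a transvection -/
theorem iso (hq : q = 2) (hF : Fintype.card F = q ^ 2) (hn : 3 ≤ n) {T B : Subgroup (PSU n F q)} (h : Fc T B)
    {u : Fin n → F} (h0 : u ≠ 0) (hu : hermForm n F q u u = 0) : ¬ T ≤ Pt q u := by
  subst hq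
  intro hT
  have hc : (1 : F) + 1 ^ 2 = 0 := by
    have h1 := add_pow_q hF (1 : F) 1
    linear_combination h1
  have ht : ∀ x, act (utv hF u 1 hu hc) x = x + (1 * hermForm n F 2 x u) • u := act_utv hF hu hc
  have h1 := h.cen (pr (utv hF u 1 hu hc)) fun t ht' => by
    obtain ⟨g, rfl⟩ := pr_surjective t
    obtain ⟨c, hg⟩ := (le_Pt hF hn).1 hT g ht'
    have h2 : c ≠ 0 := by
      rintro rfl
      exact h0 ((act_eq_zero g).1 (by rw [hg, zero_smul]))
    have h3 := FiniteField.pow_card_sub_one_eq_one c h2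
    rw [hF] at h3
    rw [← map_mul, ← map_mul]
    congr 1
    refine ext_act fun x => ?_
    rw [act_mul, act_mul, ht, ht, act_add, act_smul, hg, ← herm_act g x u, hg, herm_smul_right, smul_smul]
    congr 2
    linear_combination (-hermForm n F 2 (act g x) u) * h3
  obtain ⟨c, -, -, h2⟩ := exists_sc hF hn (g := 1) ((map_one _).trans h1.symm)
  have h3 := h2 u
  rw [ht, hu, mul_zero, zero_smul, add_zero, act_one] at h3
  have h4 : c = 1 := by
    by_contra e
    exact h0 ((smul_eq_zero.1 (show (c - 1) • u = 0 by rw [sub_smul, ← h3, one_smul, sub_self])).resolve_left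
      (sub_ne_zero.2 e))
  refine h0 (nd_top hF u trivial fun x _ => herm_eq_zero_swap hF ?_)
  have h5 := h2 x
  rw [ht, h4, one_smul, act_one, add_eq_left, one_mul] at h5
  exact (smul_eq_zero.1 h5).resolve_right h0

/-- a factor `B` with one fixed point -/
theorem eq_Pt (hF : Fintype.card F = q ^ 2) (hn : 4 ≤ n) {T B : Subgroup (PSU n F q)} (h : Fc T B) {u : Fin n → F}
    (h0 : u ≠ 0) (hB : B ≤ Pt q u) (hne : Pt q u ≠ ⊤) (h2 : ∀ W, InvA (B.comap pr) W → finrank F W ≠ 2) : B = Pt q u := by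
  refine le_antisymm hB (h.mxB _ hne fun β hβ x hx => ?_)
  obtain ⟨b, ρ, φ, s⟩ := exists_sl hF (by omega) (by omega) β
  have h1 : φ u ≠ 0 := fun e => h0 (s.inj (by rw [e, s.zero]))
  have h3 : B ≤ Pt q (φ u) := fun y hy => by
    rw [← β.apply_symm_apply y] at hy ⊢
    exact (s.pt hF (by omega)).2 (hB ((hβ _).2 hy))
  have h4 : φ u ∈ F ∙ u := by
    by_contra e
    refine h2 ((F ∙ u) ⊔ (F ∙ φ u)) (fun g hg v hv => ?_) ?_
    · obtain ⟨y, hy, z, hz, rfl⟩ := Submodule.mem_sup.1 hv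
      rw [act_add]
      exact Submodule.add_mem_sup ((le_St hF (by omega)).1 hB g hg y hy) ((le_St hF (by omega)).1 h3 g hg z hz)
    · have k1 := Submodule.finrank_add_le_finrank_add_finrank (F ∙ u) (F ∙ φ u)
      have k2 : finrank F (F ∙ u) < finrank F ↥((F ∙ u) ⊔ (F ∙ φ u)) := Submodule.finrank_lt_finrank_of_lt
        (lt_of_le_of_ne le_sup_left fun e' => e (e' ▸ Submodule.mem_sup_right (Submodule.mem_span_singleton_self _)))
      rw [finrank_span_singleton h0] at k1 k2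
      rw [finrank_span_singleton h1] at k1
      omega
  obtain ⟨c, hc⟩ := Submodule.mem_span_singleton.1 h4
  rw [← Pt_smul (w := u) (c := c) (fun e => h1 (by rw [← hc, e, zero_smul])), hc]
  exact (s.pt hF (by omega)).2 hx

theorem card_u92 (hq : q = 2) (hF : Fintype.card F = q ^ 2) : Nat.card (PSU 9 F q) = 325473292721108444774400 := by
  subst hq
  have h1 := S0280.result hF 9 (by norm_num)
  norm_num [Finset.prod_range_succ, Nat.even_iff] at h1
  omega

/-- `T` inside `PSU_8(2)`, `B` inside `Aut J_3` -/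
theorem ns {S : Type} [Group S] [Finite S] {T B : Subgroup S} (h : Fc T B) (hS : Nat.card S = 325473292721108444774400)
    (hT : 43776 ∣ T.index) (hB : Nat.card B ∣ 100465920) : False := by
  obtain ⟨d, hd⟩ := hT
  have h1 := h.pd.symm.card_left
  rw [inf_comm, hd, mul_left_comm] at h1
  have h2 := B.card_mul_index
  rw [hS, ← h1, mul_assoc] at h2
  rw [← h1] at hB
  have h3 : Nat.card ↥(T ⊓ B) * d ∣ 2295 := Nat.dvd_of_mul_dvd_mul_left (by norm_num : 0 < 43776) hB
  have hL : ∀ a, a ∣ 2295 → a ∈ [1, 3, 5, 9, 15, 17, 27, 45, 51, 85, 135, 153, 255, 459, 765, 2295] := fun a ha =>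
    (show ∀ a < 2296, a ∣ 2295 → a ∈ [1, 3, 5, 9, 15, 17, 27, 45, 51, 85, 135, 153, 255, 459, 765, 2295] by decide +kernel)
      a (Nat.lt_succ_of_le (Nat.le_of_dvd (by norm_num) ha)) ha
  have key : ∀ e ∈ [1, 3, 5, 9, 15, 17, 27, 45, 51, 85, 135, 153, 255, 459, 765, 2295],
      ∀ a ∈ [1, 3, 5, 9, 15, 17, 27, 45, 51, 85, 135, 153, 255, 459, 765, 2295], a ∣ e → a ≠ 1 →
      ∃ r ∈ [3, 5, 17], ∃ k ∈ [1, 2, 3], ∃ m ∈ [1, 3, 5, 9, 15, 27, 45, 135], ¬ r ∣ m ∧ m ∣ 2295 ∧ a = r ^ k * m ∧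
        (∀ c ∈ [1, 3, 5, 9, 15, 17, 27, 45, 51, 85, 135, 153, 255, 459, 765, 2295], c ∣ m → c % r = 1 → c = 1) ∧
        7434971050829414400 / e % r ≠ 1 := by decide +kernel
  obtain ⟨r, hr, k, hk, m, -, k1, k2, k3, k4, k5⟩ := key _ (hL _ h3) _ (hL _ ((Dvd.intro _ rfl).trans h3)) (Dvd.intro _ rfl)
    fun e => h.nb (card_eq_one.1 e)
  have h4 := (Sp.boxLc S T (T ⊓ B) inf_le_left h.lcX r k m
    ((show ∀ r ∈ [3, 5, 17], Nat.Prime r by decide +kernel) r hr) ((show ∀ k ∈ [1, 2, 3], 0 < k by decide) k hk) k1 k3).1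
    fun c hc => k4 c (hL c (hc.trans k2)) hc
  rw [inf_relIndex_left, h.pd.relIndex] at h4
  have h5 : Nat.card ↥(T ⊓ B) * d * B.index = 7434971050829414400 := by omega
  rw [← h5, Nat.mul_div_cancel_left _ (Nat.pos_of_dvd_of_pos h3 (by norm_num))] at k5
  exact k5 h4

/-- `q = 2`, `X` inside `Aut J_3`: the other factor fixes exactly one point -/
theorem other (hF : Fintype.card F = (p ^ f) ^ 2) (hp : p.Prime) (hf : 1 ≤ f) (hq : p ^ f = 2)
    {X Y : Subgroup (PSU 9 F (p ^ f))} (h : Pd X Y) (hY : Y ≠ ⊤) (hX : Nat.card X ∣ 100465920) :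
    (∀ W, InvA (Y.comap pr) W → finrank F W ≠ 2) ∧ ∃ u, u ≠ 0 ∧ Y ≤ Pt (p ^ f) u := by
  obtain ⟨s, hs⟩ := exists_pm (k := 7) hp hf (by norm_num) (by decide)
  have h1 : s ∣ Nat.card Y := (h.prime_dvd hs.pr (hs.dvd_psu hp hf (by norm_num) (by decide) (by norm_num) hF)).resolve_left
    fun e => by
      have k1 := BNN.le_of_dvd_pow (b := 19) (k := 1) hs.pr (e.trans hX) (by decide)
      have k2 : 14 ∣ s - 1 := Dvd.dvd.trans ⟨f, by ring⟩ (hs.dvd_pred hp hf (by norm_num))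
      have k3 := hs.pr.two_le
      obtain rfl : s = 15 := by omega
      exact absurd hs.pr (by norm_num)
  have h2 : 2 ^ 28 ∣ Nat.card Y := by
    have k1 := h.card_dvd
    rw [card_u92 hq hF] at k1
    exact (pow_split (a := 8) (b := 27) Nat.prime_two (Dvd.dvd.trans (by norm_num) k1)).resolve_left fun e =>
      absurd (e.trans hX) (by norm_num)
  have h3 : ∀ W, InvA (Y.comap pr) W → finrank F W ≠ 2 := fun W hW e => by
    obtain ⟨g, hg, hgs, hg1, -⟩ := exists_elt_pr hs.pr h1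
    have k1 := hs.card_ord hp hf (by norm_num) (by decide) hF
    have k2 : g ^ s ^ 1 = 1 := by rw [pow_one]; exact hgs
    have k3 := fx_dim hs.pr k1 (by norm_num) k2 hg1
    have k4 : W ≤ fx g := le_fx hs.pr k1 k2 (hW g hg) (by omega)
    refine plane hq hF hW e ?_ (dvd_comap_of h2)
    rw [Submodule.eq_of_le_of_finrank_le k4 (by omega)]
    exact nd_fx hF hs.pr (hs.not_dvd_q hp hf (by norm_num)) k2
  obtain ⟨W, k1, k2, hW⟩ := second hF hp hf hs hY h1
  obtain ⟨u, hu, h0⟩ := Submodule.exists_mem_ne_zero_of_ne_bot (Submodule.one_le_finrank_iff.1 k1)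
  have k3 := h3 W hW
  exact ⟨h3, u, h0, pt_of_line hF (by norm_num) hW (by omega) hu h0⟩

end Cfsg.Agent.SM.U.B9

namespace Cfsg.Agent.SM.U

open Cfsg Cfsg.Agent.H89.Reg

/-- **`PSU_9(q)`** -/
theorem box9_of (hNF : BoxNF) : Box9 := by
  intro F _ _ q hF T B h
  obtain ⟨p, f, hp, hf, rfl, -⟩ := H251.GeoU.exists_prime_power hF
  obtain ⟨l, hl⟩ := exists_pm (k := 9) hp hf (by norm_num) (by decide)
  rcases h.pd.prime_dvd hl.pr (hl.dvd_psu hp hf (by norm_num) (by decide) le_rfl hF) with hd | hd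
  · rcases B9.first hF hp hf hl h.pd h.neX h.neY hd with ⟨K, hK, hadj, hX⟩ | ⟨hq, hX⟩
    · exact (B9.field hF hp hf hNF h.pd h.neY hK hadj hX).elim
    obtain ⟨h1, u, h0, hu⟩ := B9.other hF hp hf hq h.pd h.neY hX
    refine .inr (.inr (.inr ⟨hq, by norm_num, ?_, u, h0, B9.eq_Pt hF (by norm_num) h h0 hu (fun e => ?_) h1⟩))
    · have := h.simple
      obtain ⟨e, he, -, h2, h3⟩ := SP.Mon.NL.exists_name TH.Spor.base (S := T) (fun hc => h.nab ⟨⟨hc⟩⟩)
        (hX.trans (by norm_num))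
      have h4 := ((S2151.result _ hF (by omega) 9 (by norm_num) (by decide)).1 B h.neY).trans h.pd.index_le
      rw [← H934.OutB.card_out_mul _ h.nab, ← h2] at h3
      have h5 : ∀ e ∈ SP.Mon.NL.LM, e.2.1 ∣ 100465920 → 43605 ≤ e.2.1 → ¬ 3 ∣ e.2.2 := by decide +kernel
      refine fun h6 => h5 e he (h2 ▸ hX) (h2 ▸ le_trans ?_ h4) (h6.trans (Nat.dvd_of_mul_dvd_mul_right Nat.card_pos h3))
      rw [hq]
      norm_num
    · by_cases h2 : hermForm 9 F (p ^ f) u u = 0
      · exact B9.iso hq hF (by norm_num) h h0 h2 (e ▸ le_top)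
      · exact Pt_ne_top hF (by norm_num) h2 e
  · rcases B9.first hF hp hf hl h.pd.symm h.neY h.neX hd with ⟨K, hK, hadj, hX⟩ | ⟨hq, hX⟩
    · exact (B9.field hF hp hf hNF h.pd.symm h.neX hK hadj hX).elim
    obtain ⟨-, u, h0, hu⟩ := B9.other hF hp hf hq h.pd.symm h.neX hX
    by_cases h2 : hermForm 9 F (p ^ f) u u = 0
    · exact (B9.iso hq hF (by norm_num) h h0 h2 hu).elim
    · refine (B9.ns h (B9.card_u92 hq hF) (Dvd.dvd.trans ?_ (Subgroup.index_dvd_of_le hu)) hX).elim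
      have h3 := index_Pt hF (by norm_num) h2
      rw [if_neg (by decide)] at h3
      generalize (Pt (p ^ f) u).index = i at h3
      rw [hq] at h3
      exact dvd_of_eq (by omega)

end Cfsg.Agent.SM.U
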