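import Cfsg.Agent.SM.U.Defs2
import Cfsg.Agent.H89.Reg.Even
import Cfsg.Agent.H533.Reg.Final
import Cfsg.Agent.S5842
import Cfsg.Agent.S5948
import Cfsg.Agent.SP.Mon.NL.Out
import Cfsg.Agent.TH.Spor.Enum

/-!
# SM (S3570), `PSU_n(q)`, `n` even: some factor fixes a nonsingular point (helper58)

* `full_elt` : a generator of the cyclic Sylow subgroup; `big` : `n ≥ 10`;
* `gen`, `r4`, `r6`, `r8`, `r10` : the residual lists; `five` : `PSU_4(5)`; `boxNN`.
-/

set_option autoImplicit false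
set_option linter.unusedSectionVars false

namespace Cfsg.Agent.SM.U.BNN

open Cfsg Cfsg.Geo Subgroup Module
open Cfsg.Agent.LieClassical.HermBasic
open Cfsg.Agent.LieClassical.HermSiegel (act)
open Cfsg.Agent.H89.Reg Cfsg.Agent.H533.Reg Cfsg.Agent.SM.Ex78
open Cfsg.Agent.H278.Cov (Num)
open Cfsg.Agent.H851.Dg (CycP)
open Cfsg.Agent.GpUn (fx ND)
open Cfsg.Agent.H674.SUBlock (pr pr_surjective)
open Cfsg.Agent.H918 (suHom SUg)

theorem card_aut_u43' {K : Type*} [Field K] [Fintype K] (hK : Fintype.card K = 9) :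
    Nat.card (MulAut (PSU 4 K 3)) ∣ 26127360 := by
  have : Fact (Nat.Prime 3) := ⟨Nat.prime_three⟩
  have hK' : Fintype.card K = 3 ^ 2 := by rw [hK]; norm_num
  have h1 := S0280.result hK' 4 (by norm_num)
  rw [S0815.result (F := K) 3 1 le_rfl (by norm_num) hK' 4 (by norm_num) (by norm_num)]
  norm_num [Finset.prod_range_succ, Nat.even_iff] at h1 ⊢
  exact dvd_of_eq (by omega)

theorem card_aut_u52 {K : Type*} [Field K] [Fintype K] (hK : Fintype.card K = 2 ^ 2) :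
    Nat.card (MulAut (PSU 5 K 2)) ∣ 27371520 := by
  have : Fact (Nat.Prime 2) := ⟨Nat.prime_two⟩
  have h1 := S0280.result hK 5 (by norm_num)
  rw [S0815.result (F := K) 2 1 le_rfl (by norm_num) hK 5 (by norm_num) (by norm_num)]
  norm_num [Finset.prod_range_succ, Nat.even_iff] at h1 ⊢
  exact dvd_of_eq (by omega)

/-- a prime divisor of a smooth number -/
theorem le_of_dvd_pow {l b k N : ℕ} (hl : l.Prime) (h : l ∣ N) (hN : N ∣ b.factorial ^ k) : l ≤ b :=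
  (Nat.Prime.dvd_factorial hl).1 (hl.dvd_of_dvd_pow (h.trans hN))

variable {F : Type} [Field F] [Fintype F] {n p f l : ℕ}

section

variable (hF : Fintype.card F = (p ^ f) ^ 2) (hp : p.Prime) (hf : 1 ≤ f)

include hF hp hf

theorem cyc (hN : 3 ≤ n) {k : ℕ} (hl : Pm p f k l) (hodd : Odd k) (hkN : k ≤ n) (hNk : n < 2 * k) :
    CycP l (PSU n F (p ^ f)) := by
  have hord := hl.ord hp hf (by omega) hodd
  exact H953.Dg.cyc_psu hF hN ⟨hl.pr, by rw [hord]; exact hNk, by rw [hord]; exact hkN⟩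

/-- a generator of the cyclic Sylow subgroup -/
theorem full_elt (hN : 3 ≤ n) {k : ℕ} (hl : Pm p f k l) (hodd : Odd k) (hkN : k ≤ n) (hNk : n < 2 * k)
    {X : Subgroup (PSU n F (p ^ f))} (hX : ¬ l ∣ X.index) :
    ∃ x ∈ X.comap (pr : SU n F (p ^ f) →* _), orderOf x = l ^ ((p ^ f) ^ k + 1).factorization l := by
  set v := ((p ^ f) ^ k + 1).factorization l with hv
  have h1 : l ^ v ∣ Nat.card (PSU n F (p ^ f)) := by
    refine pow_dvd_psu hF hl.pr (hl.not_dvd_succ hf (by omega)) (i := k - 1) (by omega) (by omega) ?_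
    have hev : Even (k - 1) := by
      obtain ⟨c, hc⟩ := hodd
      exact ⟨c, by omega⟩
    rw [if_pos hev, Nat.sub_add_cancel (by omega)]
    exact Nat.ordProj_dvd _ _
  rw [← X.card_mul_index] at h1
  have h2 : l ^ v ∣ Nat.card X :=
    (Nat.Coprime.pow_left _ ((Nat.Prime.coprime_iff_not_dvd hl.pr).2 hX)).dvd_of_dvd_mul_right h1
  have := Fact.mk hl.pr
  obtain ⟨K, hK⟩ := Sylow.exists_subgroup_card_pow_prime l h2
  have hKp : IsPGroup l (K.map X.subtype) := by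
    rw [IsPGroup.iff_card]
    exact ⟨v, by rw [card_map_of_injective X.subtype_injective, hK]⟩
  have hKc := cyc hF hp hf hN hl hodd hkN hNk _ hKp
  obtain ⟨g, hg⟩ := IsCyclic.exists_generator (α := K.map X.subtype)
  have hgo : orderOf (g : PSU n F (p ^ f)) = l ^ v := by
    rw [orderOf_coe, orderOf_eq_card_of_forall_mem_zpowers hg, card_map_of_injective X.subtype_injective, hK]
  exact lift_order (map_subtype_le _ g.2) hgo (pow_pos hl.pr.pos _)

/-- large dimension: the factor with the full cyclic Sylow subgroup fixes a nonsingular point -/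
theorem big (hn : 9 ≤ n) (hodd : Odd n) (hl : Gd p f n l) {X : Subgroup (PSU (n + 1) F (p ^ f))} (hX : X ≠ ⊤)
    (hi : ¬ l ∣ X.index) : ∃ w, hermForm (n + 1) F (p ^ f) w w ≠ 0 ∧ X ≤ Pt (p ^ f) w := by
  obtain ⟨x, hx, hxo⟩ := full_elt hF hp hf (by omega) hl.toPm hodd (by omega) (by omega) hi
  have hnum : Num ((p ^ f) ^ 2) (n + 1) n (orderOf x) := by
    rw [hxo]; exact hl.num hp hf (by omega) (by omega) (by omega)
  have hxp := pow_full hxo
  have hlo := hl.toPm.card_ord hp hf (by omega) hodd hF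
  obtain ⟨W, hW1, hW2, hWH⟩ : ∃ W : Submodule F (Fin (n + 1) → F), 1 ≤ finrank F W ∧ 2 * finrank F W ≤ n + 1 ∧
      InvA (X.comap pr) W := by
    rcases ogs (fun hF n k hn hk g h1 h2 h3 H hg hi => S5948.result hF n k hn hk g h1 h2 h3 H hg hi) hF
      (comap_ne_top hX) hx hnum with ⟨W, h0, h1, h2⟩ | ⟨r, hr, hrd, -⟩
    · exact exists_small hF h0 h1 h2
    · have h2 := dvd_sub_of_gcd hrd
      rw [show n + 1 - n = 1 by omega] at h2
      exact absurd (Nat.dvd_one.1 h2) hr.one_lt.ne'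
  have hWfx : W ≤ fx x := le_fx hl.pr hlo hxp (hWH x hx) (by omega)
  have hfd := fx_dim hl.pr hlo (by omega) hxp (ne_one_of_num hnum)
  have hWd : finrank F W = 1 := by
    have := Submodule.finrank_mono hWfx
    omega
  have hnd : ND (p ^ f) W := by
    rw [Submodule.eq_of_le_of_finrank_le hWfx (by omega)]
    exact nd_fx hF hl.pr (hl.toPm.not_dvd_q hp hf (by omega)) hxp
  obtain ⟨w, hw, hwW⟩ := exists_span hWd hnd
  refine ⟨w, hw, (le_Pt hF (by omega)).2 fun g hg => ?_⟩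
  obtain ⟨c, hc⟩ := (finrank_eq_one_iff_of_nonzero' (⟨w, hwW⟩ : W)
    fun h => ne_zero_of_ns hw (congrArg Subtype.val h)).1 hWd ⟨act g w, hWH g hg w hwW⟩
  exact ⟨c, (congrArg Subtype.val hc).symm⟩

/-- the residual alternative -/
theorem gen {m : ℕ} (hn : 4 ≤ n) (hm : Odd m) (hnm : n = m + 1) (hl : Pm p f m l) {X : Subgroup (PSU n F (p ^ f))}
    (hX : X ≠ ⊤) (hd : l ∣ Nat.card X) (hN : ∀ w, hermForm n F (p ^ f) w w ≠ 0 → ¬ X ≤ Pt (p ^ f) w) :
    ∃ H : Subgroup (GL (Fin n) F), IsMaximalIn (SUg n F (p ^ f)) H ∧ gl X ≤ H ∧ InUnitaryResidualClass H := by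
  rcases even_gen hF hp hf hn hm hnm hl (comap_ne_top hX) (hd.trans (card_dvd_comap X)) with ⟨w, hw, h⟩ | h
  · exact absurd ((le_Pt hF (by omega)).2 h) (hN w hw)
  · exact h

theorem r4 (hq : 4 ≤ p ^ f) (hl : Pm p f 3 l) {X Y : Subgroup (PSU 4 F (p ^ f))} (h : Pd X Y) (hX : X ≠ ⊤) (hY : Y ≠ ⊤)
    (hd : l ∣ Nat.card X) (hN : ∀ w, hermForm 4 F (p ^ f) w w ≠ 0 → ¬ X ≤ Pt (p ^ f) w) :
    p ^ f = 5 ∧ Nat.card X ∣ 5040 := by
  obtain ⟨H, hH, hXH, hres⟩ := gen hF hp hf le_rfl (by decide) rfl hl hX hd hN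
  obtain ⟨P, hP, hq', hc⟩ := l4 _ hF H hH hres
  have h1 := card_dvd_aut hP hXH
  rcases hc with ⟨⟨e⟩, h7⟩ | ⟨-, h3⟩ | ⟨⟨K, _, _, hK, ⟨e⟩⟩, -⟩
  · rw [Nat.card_congr (MulAut.congr e).toEquiv] at h1
    have h2 := h1.trans card_aut_a7
    refine ⟨?_, h2⟩
    have h3 := (((S2150.result _ hF (by omega)).1 Y hY).trans h.index_le).trans (Nat.le_of_dvd (by norm_num) h2)
    generalize p ^ f = q at *
    by_contra h5
    have h6 : q ≠ 6 := by
      rintro rfl
      revert hq'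
      norm_num
    have h8 : 10 ^ 3 ≤ q ^ 3 := Nat.pow_le_pow_left (by omega) 3
    have h9 : (10 + 1) * (10 ^ 3 + 1) ≤ (q + 1) * (q ^ 3 + 1) := Nat.mul_le_mul (by omega) (by omega)
    omega
  · omega
  · rw [Nat.card_congr (MulAut.congr e).toEquiv] at h1
    have h2 := le_of_dvd_pow (b := 5) (k := 4) hl.pr (hd.trans (h1.trans (H269.U5.card_aut_u42 hK))) (by decide)
    have h3 := hl.lt hp hf (by norm_num)
    omega

theorem r6 (hq : 3 ≤ p ^ f) (hl : Pm p f 5 l) {X Y : Subgroup (PSU 6 F (p ^ f))} (h : Pd X Y) (hX : X ≠ ⊤) (hY : Y ≠ ⊤)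
    (hd : l ∣ Nat.card X) (hN : ∀ w, hermForm 6 F (p ^ f) w w ≠ 0 → ¬ X ≤ Pt (p ^ f) w) : False := by
  obtain ⟨H, hH, hXH, hres⟩ := gen hF hp hf (by norm_num) (by decide) rfl hl hX hd hN
  obtain ⟨P, hP, hc⟩ := l6 _ hF H hH hres
  have h1 := card_dvd_aut hP hXH
  have h2 := ((S2152.result _ hF hq 6 le_rfl (by decide)).1 Y hY).trans h.index_le
  have h3 := hl.lt hp hf (by norm_num)
  rw [ix6 (by omega)] at h2
  have h4 : ∀ a, a ≤ p ^ f → (a ^ 5 + 1) * (a ^ 4 + 1) ≤ Nat.card X := fun a ha =>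
    (Nat.mul_le_mul (by have := Nat.pow_le_pow_left ha 5; omega) (by have := Nat.pow_le_pow_left ha 4; omega)).trans h2
  have h5 := h4 3 hq
  rcases hc with ⟨⟨e⟩, -⟩ | ⟨⟨e⟩, -⟩ | ⟨⟨K, _, _, hK, ⟨e⟩⟩, -, h6⟩ | ⟨-, h6⟩ | ⟨⟨K, _, _, hK, ⟨e⟩⟩, -⟩ | ⟨⟨e⟩, -⟩
  · rw [Nat.card_congr (MulAut.congr e).toEquiv] at h1
    exact absurd (h5.trans (Nat.le_of_dvd (by norm_num) (h1.trans H269.U5.card_aut_l211))) (by norm_num)
  · rw [Nat.card_congr (MulAut.congr e).toEquiv] at h1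
    exact absurd (h5.trans (Nat.le_of_dvd (by norm_num) (h1.trans card_aut_a7))) (by norm_num)
  · have h7 := Nat.le_of_dvd Nat.card_pos h1
    rw [Nat.card_congr (MulAut.congr e).toEquiv] at h7
    exact absurd ((h4 5 (by omega)).trans (h7.trans (card_aut_l34 hK))) (by norm_num)
  · omega
  · rw [Nat.card_congr (MulAut.congr e).toEquiv] at h1
    have := le_of_dvd_pow (b := 7) (k := 3) hl.pr (hd.trans (h1.trans (card_aut_u43' hK))) (by decide)
    omega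
  · rw [Nat.card_congr (MulAut.congr e).toEquiv] at h1
    exact not_dvd_u3 hF hp hf hl hq (hd.trans h1)

theorem r8 (hl : Pm p f 7 l) {X Y : Subgroup (PSU 8 F (p ^ f))} (h : Pd X Y) (hX : X ≠ ⊤) (hY : Y ≠ ⊤)
    (hd : l ∣ Nat.card X) (hN : ∀ w, hermForm 8 F (p ^ f) w w ≠ 0 → ¬ X ≤ Pt (p ^ f) w) : False := by
  obtain ⟨H, hH, hXH, hres⟩ := gen hF hp hf (by norm_num) (by decide) rfl hl hX hd hN
  obtain ⟨P, hP, -, hq, K, _, _, hK, ⟨e⟩⟩ := l8 _ hF H hH hres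
  have h1 := Nat.le_of_dvd Nat.card_pos (card_dvd_aut hP hXH)
  have h2 := ((S2152.result _ hF (by omega) 8 (by norm_num) (by decide)).1 Y hY).trans h.index_le
  rw [ix8 (by omega)] at h2
  rw [Nat.card_congr (MulAut.congr e).toEquiv] at h1
  have h4 : 11 ^ 7 ≤ (p ^ f) ^ 7 := Nat.pow_le_pow_left (by omega) 7
  have h5 : (11 ^ 7 + 1) * 1 ≤ Nat.card X := (Nat.mul_le_mul (by omega) (by omega)).trans h2
  exact absurd (h5.trans (h1.trans (card_aut_l34 hK))) (by norm_num)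

theorem r10 (hq : p ^ f = 2) (hl : Pm p f 9 l) {X : Subgroup (PSU 10 F (p ^ f))} (hX : X ≠ ⊤)
    (hd : l ∣ Nat.card X) (hN : ∀ w, hermForm 10 F (p ^ f) w w ≠ 0 → ¬ X ≤ Pt (p ^ f) w) : False := by
  obtain ⟨H, hH, hXH, hres⟩ := gen hF hp hf (by norm_num) (by decide) rfl hl hX hd hN
  obtain ⟨P, r, hP, hr, hch, hc⟩ := S5842.result _ hF H hH hres
  have h1 := card_dvd_aut hP hXH
  have h2 : r = 2 := by
    have h3 : r ∣ Fintype.card F := (CharP.cast_eq_zero_iff F r _).1 (FiniteField.cast_card_eq_zero F)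
    rw [hF, hq] at h3
    exact (Nat.prime_dvd_prime_iff_eq hr Nat.prime_two).1 (hr.dvd_of_dvd_pow h3)
  have h3 := hl.lt hp hf (by norm_num)
  rcases hc with ⟨-, -, h4, -⟩ | ⟨-, -, h4⟩ | ⟨-, -, h4⟩ | ⟨-, h4⟩ | ⟨-, h4⟩ | ⟨⟨e⟩⟩
  any_goals omega
  rw [Nat.card_congr (MulAut.congr e).toEquiv] at h1
  have h5 := hd.trans h1
  rw [hq] at hF h5
  have := le_of_dvd_pow (b := 11) (k := 2) hl.pr (h5.trans (card_aut_u52 hF)) (by decide)
  omega

end

/-- `PSU_4(5)` -/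
theorem five (hF : Fintype.card F = 5 ^ 2) {T B : Subgroup (PSU 4 F 5)} (h : Fc T B)
    (hd : Nat.card T ∣ 5040 ∨ Nat.card B ∣ 5040) : False := by
  have hS : Nat.card (PSU 4 F 5) = 14742000000 := by
    have h1 := S0280.result hF 4 (by norm_num)
    norm_num [Finset.prod_range_succ, Nat.even_iff] at h1
    omega
  have h1 := T.card_mul_index
  rw [hS] at h1
  have := h.simple
  obtain ⟨e, he, -, h2, -⟩ := SP.Mon.NL.exists_name TH.Spor.base (S := T) (fun hc => h.nab ⟨⟨hc⟩⟩)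
    ((Dvd.intro _ h1).trans (by norm_num))
  have h3 := (S2150.result _ hF (by norm_num)).1 T h.neX
  have h4 := (S2150.result _ hF (by norm_num)).1 B h.neY
  rcases hd with hd | hd
  · have h5 : ∀ e ∈ SP.Mon.NL.LM, e.2.1 ∣ 5040 → 756 ≤ e.2.1 → e.2.1 = 2520 := by decide +kernel
    have h6 := h.pd.card_left
    have h7 : Nat.card T = 2520 := h2.trans (h5 e he (h2 ▸ hd) (h2 ▸ le_trans h4 h.pd.index_le))
    have h8 : Nat.card ↥(T ⊓ B) ≠ 1 := fun h9 => h.nb (card_eq_one.1 h9)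
    have h9 : Nat.card ↥(T ⊓ B) * 756 ≤ 2520 := (Nat.mul_le_mul_left _ h4).trans (h6.trans h7).le
    have h10 : 0 < Nat.card ↥(T ⊓ B) := Nat.card_pos
    have h11 : ∀ r : ℕ, r.Prime → Nat.card ↥(T ⊓ B) ≠ r := fun r hr h12 =>
      h.nab ((Sp.boxLc _ T (T ⊓ B) inf_le_left h.lcX r 1 1 hr one_pos hr.not_dvd_one
        (by rw [h12, pow_one, mul_one])).2.2.1 rfl (by norm_num) h.simple)
    have h12 := h11 2 Nat.prime_two
    have h13 := h11 3 Nat.prime_three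
    omega
  · have h5 : ∀ e ∈ SP.Mon.NL.LM, e.2.1 ∣ 14742000000 → 14742000000 ∣ e.2.1 * 5040 → e.2.1 = 14742000000 := by
      decide +kernel
    have h6 : Nat.card T = 14742000000 := h2.trans (h5 e he (h2 ▸ Dvd.intro _ h1)
      (h2 ▸ h1 ▸ Nat.mul_dvd_mul_left _ (h.pd.symm.index_dvd.trans hd)))
    rw [h6] at h1
    omega

end Cfsg.Agent.SM.U.BNN

namespace Cfsg.Agent.SM.U

open Cfsg Cfsg.Agent.H89.Reg

/-- **`n` even: some factor fixes a nonsingular point** -/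
theorem boxNN : BoxNN := by
  intro F _ _ n q hF hn hev h42 h43 h62 T B h hN
  obtain ⟨p, f, hp, hf, rfl, -⟩ := H251.GeoU.exists_prime_power hF
  have hq := LieClassical.HermBasic.two_le hF
  obtain ⟨m, rfl⟩ : ∃ m, n = m + 1 := ⟨n - 1, by omega⟩
  have hm : Odd m := Nat.not_even_iff_odd.1 (Nat.even_add_one.1 hev)
  by_cases hb : 9 ≤ m ∧ ¬ (p ^ f = 2 ∧ m = 9)
  · obtain ⟨l, hl⟩ := exists_gd hp hf (by omega) hm hb.2
    rcases h.pd.cyc hl.pr (BNN.cyc hF hp hf (by omega) hl.toPm hm (by omega) (by omega)) with h1 | h1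
    · obtain ⟨w, hw, h2⟩ := BNN.big hF hp hf hb.1 hm hl h.neX h1
      exact (hN w hw).1 h2
    · obtain ⟨w, hw, h2⟩ := BNN.big hF hp hf hb.1 hm hl h.neY h1
      exact (hN w hw).2 h2
  obtain ⟨l, h1, h2, -, -⟩ := H251.GeoU.exists_big hp hf (show 3 ≤ m by omega) hm (by omega)
  have hl : Pm p f m l := ⟨h1, h2⟩
  have hd := h.pd.prime_dvd h1 (hl.dvd_psu hp hf (by omega) hm (by omega) hF)
  have hT := fun w hw => (hN w hw).1
  have hB := fun w hw => (hN w hw).2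
  obtain ⟨c, hc⟩ := hm
  obtain rfl | rfl | rfl | rfl : m = 3 ∨ m = 5 ∨ m = 7 ∨ m = 9 := by omega
  · have h3 : p ^ f = 5 ∧ (Nat.card T ∣ 5040 ∨ Nat.card B ∣ 5040) := by
      rcases hd with hd | hd
      · exact (BNN.r4 hF hp hf (by omega) hl h.pd h.neX h.neY hd hT).imp_right .inl
      · exact (BNN.r4 hF hp hf (by omega) hl h.pd.symm h.neY h.neX hd hB).imp_right .inr
    obtain ⟨h4, h5⟩ := h3
    generalize p ^ f = q at *
    subst h4
    exact BNN.five hF h h5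
  · rcases hd with hd | hd
    · exact BNN.r6 hF hp hf (by omega) hl h.pd h.neX h.neY hd hT
    · exact BNN.r6 hF hp hf (by omega) hl h.pd.symm h.neY h.neX hd hB
  · rcases hd with hd | hd
    · exact BNN.r8 hF hp hf hl h.pd h.neX h.neY hd hT
    · exact BNN.r8 hF hp hf hl h.pd.symm h.neY h.neX hd hB
  · rcases hd with hd | hd
    · exact BNN.r10 hF hp hf (by omega) hl h.neX hd hT
    · exact BNN.r10 hF hp hf (by omega) hl h.neY hd hB

end Cfsg.Agent.SM.U
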