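import Cfsg.Agent.SM.U.B57
import Cfsg.Agent.H89.Reg.Ten
import Cfsg.Agent.S2150
import Cfsg.Agent.S5785
import Cfsg.Agent.S5803
import Cfsg.Agent.S5821
import Cfsg.Agent.S5842
import Cfsg.Agent.S5866
import Cfsg.Agent.SP.Mon.NL.Out
import Cfsg.Agent.H788.Rl.Aut
import Cfsg.Agent.H481.EP12.Rows
import Cfsg.Agent.H395.EPM.Count
import Cfsg.Agent.MTwelve.SylowEleven

/-!
# SM (S3570), unitary socles: `boxRT`, `boxRA`, `box62M` (helper74)
-/

set_option autoImplicit false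
set_option linter.unusedSectionVars false

namespace Cfsg.Agent.SM.U

namespace BRT

open Module Cfsg Cfsg.Geo Cfsg.Agent.H918 Cfsg.Agent.H89.Reg Cfsg.Agent.H533.Reg
open Cfsg.Agent.LieClassical.HermBasic
open Cfsg.Agent.H674.SUBlock (pr pr_surjective)
open Cfsg.Agent.LieClassical.HermSiegel (act)
open Cfsg.Agent.OrdDiv Cfsg.Agent.H940.Eng
open scoped MatrixGroups

theorem facts {q m y : ℕ} (hq : 2 ≤ q) (hy : 0 < y) (h : q ^ (m + 1) * (q ^ (m + 2) - 1) ∣ (q + 1) * y) :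
    q ^ (m + 1) ∣ y ∧ ∀ k ≤ q, k ^ (2 * m + 1) ≤ y := by
  refine ⟨(Nat.Coprime.pow_left _ (by simp)).dvd_of_dvd_mul_left ((Dvd.intro _ rfl).trans h), fun k hk => ?_⟩
  have h1 : (q + 1) * q ^ m ≤ q ^ (m + 2) - 1 := by
    have h2 : 0 < q ^ m := Nat.pow_pos (by omega)
    rw [pow_add]
    generalize q ^ m = a at *
    exact Nat.le_sub_one_of_lt (by rw [mul_comm]; exact Nat.mul_lt_mul_of_pos_left (by nlinarith) h2)
  refine (Nat.pow_le_pow_left hk _).trans (Nat.le_of_mul_le_mul_left ?_ (Nat.succ_pos q))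
  refine le_trans (le_of_eq ?_) ((Nat.mul_le_mul_left _ h1).trans (Nat.le_of_dvd (Nat.mul_pos (Nat.succ_pos q) hy) h))
  rw [Nat.succ_eq_add_one]
  ring

theorem prod_dvd {q s m : ℕ} (hs : s.Prime) (hq : 1 ≤ q)
    (h : s ∣ ∏ i ∈ Finset.range m, (if Even i then q ^ (i + 1) + 1 else q ^ (i + 1) - 1)) :
    ∃ i < m, (-(q : ZMod s)) ^ (i + 1) = 1 := by
  obtain ⟨i, hi, h1⟩ := (Prime.dvd_finsetProd_iff hs.prime _).1 h
  refine ⟨i, Finset.mem_range.1 hi, ?_⟩
  have h2 := (ZMod.natCast_eq_zero_iff _ _).2 h1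
  split_ifs at h2 with he
  · rw [he.add_one.neg_pow]
    push_cast at h2
    linear_combination -h2
  · rw [(Nat.even_add_one.2 he).neg_pow]
    rw [Nat.cast_sub (Nat.one_le_pow _ _ hq)] at h2
    push_cast at h2
    linear_combination h2

variable {F : Type} [Field F] [Fintype F] {n p f q : ℕ}

theorem aut_eq (hF : Fintype.card F = (p ^ f) ^ 2) (hp : p.Prime) (hf : 1 ≤ f) (hn : 3 ≤ n) (h32 : ¬ (n = 3 ∧ p ^ f = 2)) :
    (p ^ f + 1) * Nat.card (MulAut (PSU n F (p ^ f))) = (p ^ f) ^ (n * (n - 1) / 2) *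
      (2 * f * ∏ i ∈ Finset.range n, (if Even i then (p ^ f) ^ (i + 1) + 1 else (p ^ f) ^ (i + 1) - 1)) := by
  have := Fact.mk hp
  rw [S0815.result p f hf rfl hF n hn h32, mul_left_comm _ (2 * f), ← S0280.result hF n (by omega)]
  ring

/-- the power of `q` in `|Aut PSU_n(q)|` -/
theorem not_pow (hF : Fintype.card F = q ^ 2) (hn : 3 ≤ n) (h32 : ¬ (n = 3 ∧ q = 2)) {k : ℕ} (hk : n * (n - 1) / 2 + 2 ≤ k) :
    ¬ q ^ k ∣ Nat.card (MulAut (PSU n F q)) := fun h => by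
  obtain ⟨p, f, hp, hf, rfl, -⟩ := H251.GeoU.exists_prime_power hF
  have := Fact.mk hp
  have hq := one_lt_q hF
  have h1 := ((pow_dvd_pow _ hk).trans h).mul_left (p ^ f + 1)
  rw [aut_eq hF hp hf hn h32, pow_add] at h1
  have h2 := Nat.dvd_of_mul_dvd_mul_left (Nat.pow_pos (by omega)) h1
  have h3 : Nat.Coprime ((p ^ f) ^ 2) _ := Nat.Coprime.pow_left _ (Nat.Coprime.pow_left _ (hp.coprime_iff_not_dvd.2 fun hd => by
    obtain ⟨i, -, hi⟩ := prod_dvd (q := p ^ f) (m := n) hp (by omega) hd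
    rw [Nat.cast_pow, ZMod.natCast_self, zero_pow (by omega), neg_zero, zero_pow (by omega)] at hi
    exact zero_ne_one hi))
  have h4 := Nat.le_of_dvd (by omega) (h3.dvd_of_dvd_mul_right h2)
  have h5 := f_lt (f := f) hp
  nlinarith

/-- a prime of `q ^ 10 - 1` which does not divide `|Aut PSU_5(q)|` -/
theorem not_u5 (hF : Fintype.card F = q ^ 2) : ¬ q ^ 10 - 1 ∣ (q + 1) * Nat.card (MulAut (PSU 5 F q)) := fun h => by
  obtain ⟨p, f, hp, hf, rfl, -⟩ := H251.GeoU.exists_prime_power hF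
  have hq := one_lt_q hF
  obtain ⟨t, ht⟩ := exists_ev (n := 10) hp hf (by norm_num)
  have := Fact.mk ht.pr
  have h0 : (-((p ^ f : ℕ) : ZMod t)) ^ 10 = 1 := by rw [← ht.ord, pow_orderOf_eq_one]
  have h1 : t ∣ (p ^ f) ^ 10 - 1 := by
    rw [← ZMod.natCast_eq_zero_iff, Nat.cast_sub (Nat.one_le_pow _ _ (by omega)), Nat.cast_pow, Nat.cast_one, sub_eq_zero, ← h0]
    ring
  have h2 := h1.trans h
  rw [aut_eq hF hp hf (by norm_num) (by omega)] at h2
  rcases ht.pr.dvd_mul.1 h2 with h3 | h3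
  · rw [(ZMod.natCast_eq_zero_iff _ _).2 (ht.pr.dvd_of_dvd_pow h3), neg_zero, zero_pow (by norm_num)] at h0
    exact zero_ne_one h0
  rcases ht.pr.dvd_mul.1 h3 with h4 | h4
  · rcases ht.pr.dvd_mul.1 h4 with h5 | h5
    · exact ht.ne_two ((Nat.prime_dvd_prime_iff_eq ht.pr Nat.prime_two).1 h5)
    · exact ht.not_dvd_f h5
  · obtain ⟨i, hi, h5⟩ := prod_dvd ht.pr hq.le h4
    have h6 := orderOf_le_of_pow_eq_one (Nat.succ_pos i) h5
    rw [ht.ord] at h6
    omega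

theorem aut_u43 {K : Type} [Field K] [Fintype K] (hK : Fintype.card K = 9) : Nat.card (MulAut (PSU 4 K 3)) = 26127360 := by
  have h : 4 * Nat.card (MulAut (PSU 4 K 3)) = 4 * 26127360 :=
    (aut_eq (F := K) (p := 3) (f := 1) (n := 4) hK Nat.prime_three le_rfl (by norm_num) (by norm_num)).trans (by decide)
  omega

/-- `L_3(4)` in `PSU_4(3)` -/
theorem l34 (hF : Fintype.card F = 3 ^ 2) {Y : Subgroup (PSU 4 F 3)} {H P : Subgroup (GL (Fin 4) F)}
    (hH : IsMaximalIn (SUg 4 F 3) H) (hY : gl Y ≤ H) (hP : P ≤ H)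
    (hc : Nat.card (P ⧸ (scalars (Fin 4) F).subgroupOf P) = 20160) : Nat.card Y ∣ 20160 := by
  have hfin : Finite (PSU 4 F 3) := Quotient.finite _
  have h1 : H.comap (suHom 4 F 3) ≠ ⊤ := fun h => hH.1.not_ge fun g hg => by
    obtain ⟨g, rfl⟩ := exists_suHom hg
    exact (h ▸ Subgroup.mem_top g : g ∈ H.comap (suHom 4 F 3))
  have h2 := (S2150.result 3 hF (by norm_num)).1 _ (map_ne_top hF (by norm_num) (by norm_num) h1)
  have h3 : (pr : SU 4 F 3 →* PSU 4 F 3).ker = (scalars (Fin 4) F).comap (suHom 4 F 3) :=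
    Subgroup.ext (H264.FKS.hker_su hF (by norm_num))
  have h4 : Nat.card ((P.comap (suHom 4 F 3)).map pr) = 20160 := by
    rw [← Subgroup.relIndex_ker, h3, Subgroup.relIndex_comap,
      Subgroup.map_comap_eq_self fun g hg => exists_suHom (hH.1.le (hP hg))]
    exact hc
  have h5 := Subgroup.card_dvd_of_le (Subgroup.map_mono (f := pr) (Subgroup.comap_mono (f := suHom 4 F 3) hP))
  have h6 : Y ≤ (H.comap (suHom 4 F 3)).map pr := fun y hy => by
    obtain ⟨g, rfl⟩ := pr_surjective y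
    exact ⟨g, hY (mem_gl.2 hy), rfl⟩
  have h7 := ((H.comap (suHom 4 F 3)).map (pr : SU 4 F 3 →* PSU 4 F 3)).card_mul_index
  have h8 := S0280.result hF 4 (by norm_num)
  simp only [Finset.prod_range_succ, Finset.prod_range_zero] at h8
  norm_num [Nat.even_iff] at h8
  have h9 := Subgroup.card_dvd_of_le h6
  have h10 : 0 < Nat.card ((H.comap (suHom 4 F 3)).map (pr : SU 4 F 3 →* PSU 4 F 3)) := Nat.card_pos
  rw [h4] at h5
  have h11 := (Nat.mul_le_mul_left _ h2).trans h7.le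
  rwa [show Nat.card ((H.comap (suHom 4 F 3)).map (pr : SU 4 F 3 →* PSU 4 F 3)) = 20160 by omega] at h9

theorem kill {a b y : ℕ} (h1 : a ≤ y) (h2 : y ∣ b) (h0 : 0 < b) (h : b < a) : False :=
  absurd (h1.trans (Nat.le_of_dvd h0 h2)) (not_le.2 h)

theorem tr {Q L : Type} [Group Q] [Group L] (e : Q ≃* L) {y : ℕ} (h : y ∣ Nat.card (MulAut Q)) : y ∣ Nat.card (MulAut L) :=
  Nat.card_congr (MulAut.congr e).toEquiv ▸ h

theorem four (hF : Fintype.card F = q ^ 2) {Y : Subgroup (PSU 4 F q)} {H : Subgroup (GL (Fin 4) F)}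
    (hH : IsMaximalIn (SUg 4 F q) H) (hr : InUnitaryResidualClass H) (hY : gl Y ≤ H) (h1 : q ^ 3 ∣ Nat.card Y)
    (h2 : ∀ k ≤ q, k ^ 5 ≤ Nat.card Y) : False := by
  obtain ⟨P, hc, -, hcases⟩ := S5785.result q hF H hH hr
  have h3 := card_dvd_aut hc hY
  rcases hcases with ⟨⟨e⟩, h4⟩ | ⟨⟨K, _, _, hK, ⟨e⟩⟩, rfl⟩ | ⟨⟨K, _, _, hK, ⟨e⟩⟩, h4⟩
  · have h5 := (tr e h3).trans card_aut_a7
    rcases (by omega : q = 3 ∨ q = 5 ∨ 6 ≤ q) with rfl | rfl | h6
    · exact absurd (h1.trans h5) (by norm_num)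
    · exact absurd (h1.trans h5) (by norm_num)
    · exact kill (h2 6 h6) h5 (by norm_num) (by norm_num)
  · exact absurd (h1.trans (l34 hF hH hY hc.le ((Nat.card_congr e.toEquiv).trans (H107.EP.card_l34 hK)))) (by norm_num)
  · have h5 := (tr e h3).trans (H269.U5.card_aut_u42 hK)
    rcases (by omega : q = 5 ∨ 11 ≤ q) with rfl | h6
    · exact absurd (h1.trans h5) (by norm_num)
    · exact kill (h2 11 h6) h5 (by norm_num) (by norm_num)

theorem six (hF : Fintype.card F = q ^ 2) (hq : 3 ≤ q) {Y : Subgroup (PSU 6 F q)} {H : Subgroup (GL (Fin 6) F)}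
    (hH : IsMaximalIn (SUg 6 F q) H) (hr : InUnitaryResidualClass H) (hY : gl Y ≤ H) (h1 : q ^ 5 ∣ Nat.card Y)
    (h2 : ∀ k ≤ q, k ^ 9 ≤ Nat.card Y) : False := by
  obtain ⟨P, hc, hcases⟩ := S5803.result q hF H hH hr
  have h3 := card_dvd_aut hc hY
  rcases hcases with ⟨⟨e⟩, -⟩ | ⟨⟨e⟩, -⟩ | ⟨⟨K, _, _, hK, ⟨e⟩⟩, -, h4⟩ | ⟨-, h4⟩ | ⟨⟨K, _, _, hK, ⟨e⟩⟩, h4⟩ | ⟨⟨e⟩, -⟩
  · exact kill (h2 3 hq) ((tr e h3).trans H269.U5.card_aut_l211) (by norm_num) (by norm_num)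
  · exact kill (h2 3 hq) ((tr e h3).trans card_aut_a7) (by norm_num) (by norm_num)
  · exact kill (h2 5 (by omega)) (H107.EP.card_aut_l34 hK ▸ tr e h3) (by norm_num) (by norm_num)
  · omega
  · have h5 := aut_u43 hK ▸ tr e h3
    rcases (by omega : q = 5 ∨ 7 ≤ q) with rfl | h6
    · exact absurd (h1.trans h5) (by norm_num)
    · exact kill (h2 7 h6) h5 (by norm_num) (by norm_num)
  · exact not_pow hF le_rfl (by omega) le_rfl (h1.trans (tr e h3))

theorem eight (hF : Fintype.card F = q ^ 2) {Y : Subgroup (PSU 8 F q)} {H : Subgroup (GL (Fin 8) F)}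
    (hH : IsMaximalIn (SUg 8 F q) H) (hr : InUnitaryResidualClass H) (hY : gl Y ≤ H)
    (h2 : ∀ k ≤ q, k ^ 13 ≤ Nat.card Y) : False := by
  obtain ⟨P, hc, -, h4, K, _, _, hK, ⟨e⟩⟩ := S5821.result q hF H hH hr
  exact kill (h2 3 (by omega)) (H107.EP.card_aut_l34 hK ▸ tr e (card_dvd_aut hc hY)) (by norm_num) (by norm_num)

theorem ten (hF : Fintype.card F = q ^ 2) {Y : Subgroup (PSU 10 F q)} {H : Subgroup (GL (Fin 10) F)}
    (hH : IsMaximalIn (SUg 10 F q) H) (hr : InUnitaryResidualClass H) (hY : gl Y ≤ H) (h1 : q ^ 9 ∣ Nat.card Y)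
    (h2 : ∀ k ≤ q, k ^ 17 ≤ Nat.card Y) (h0 : q ^ 10 - 1 ∣ (q + 1) * Nat.card Y) : False := by
  obtain ⟨P, p, hc, hp, hch, hcases⟩ := S5842.result q hF H hH hr
  have h3 := card_dvd_aut hc hY
  have hfin : Finite (MulAut (P ⧸ (scalars (Fin 10) F).subgroupOf P)) :=
    Finite.of_injective (fun f : MulAut (P ⧸ (scalars (Fin 10) F).subgroupOf P) => (f : _ → _)) DFunLike.coe_injective
  have h5 := Nat.le_of_dvd Nat.card_pos h3
  have key : 3 ≤ q → ¬ Nat.card (MulAut (P ⧸ (scalars (Fin 10) F).subgroupOf P)) ≤ 26127360 := fun h6 h7 => by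
    have := h2 3 h6
    omega
  rcases hcases with ⟨⟨e⟩, h4, h7, h6⟩ | ⟨⟨e⟩, h4, h6⟩ | ⟨e, h4, h6⟩ | ⟨⟨e⟩, h4⟩ | ⟨⟨e⟩, -⟩ | ⟨⟨e⟩⟩
  · exact key (by omega) (Nat.card_congr (MulAut.congr e).toEquiv ▸ H788.Rl.aut_l219)
  · exact key (by omega) (Nat.card_congr (MulAut.congr e).toEquiv ▸ H788.Rl.aut_m12)
  · exact key (by omega) (by rw [H395.EPM.card_aut e]; norm_num)
  · refine not_pow hF le_rfl ?_ (by norm_num) (h1.trans (tr e h3))
    rintro ⟨-, rfl⟩
    exact kill h4 ((CharP.cast_eq_zero_iff F p (2 ^ 2)).1 (hF ▸ FiniteField.cast_card_eq_zero F)) (by norm_num) (by norm_num)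
  · exact not_pow hF (by norm_num) (by omega) (by norm_num) (h1.trans (tr e h3))
  · exact not_u5 hF (h0.trans (Nat.mul_dvd_mul_left _ (tr e h3)))

theorem twelve (hF : Fintype.card F = q ^ 2) {Y : Subgroup (PSU 12 F q)} {H : Subgroup (GL (Fin 12) F)}
    (hH : IsMaximalIn (SUg 12 F q) H) (hr : InUnitaryResidualClass H) (hY : gl Y ≤ H)
    (h2 : ∀ k ≤ q, k ^ 21 ≤ Nat.card Y) : q = 2 ∧ Nat.card Y ∣ 896690995200 := by
  obtain ⟨P, hc, -, hcases⟩ := S5866.result q hF H hH hr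
  have h3 := card_dvd_aut hc hY
  rcases hcases with ⟨⟨e⟩, h4⟩ | ⟨e, h4⟩
  · exact (kill (h2 2 (by omega)) (H481.EP12.aut_l223 ▸ tr e h3) (by norm_num) (by norm_num)).elim
  · have h5 := h3.trans (H481.EP12.aut_suz e)
    refine ⟨by_contra fun h6 => kill (h2 5 (by omega)) h5 (by norm_num) (by norm_num), h5⟩

/-- the residual subgroups of `PSU_6(2)` -/
theorem res62 (hF : Fintype.card F = 2 ^ 2) {Y : Subgroup (PSU 6 F 2)} {H : Subgroup (GL (Fin 6) F)}
    (hH : IsMaximalIn (SUg 6 F 2) H) (hr : InUnitaryResidualClass H) (hY : gl Y ≤ H) :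
    Nat.card Y ∣ 887040 ∨ Nat.card Y ∣ 26127360 := by
  obtain ⟨P, hc, hcases⟩ := S5803.result 2 hF H hH hr
  have h3 := card_dvd_aut hc hY
  rcases hcases with ⟨-, -, h4, -⟩ | ⟨-, -, h4⟩ | ⟨-, -, h4⟩ | ⟨e, -⟩ | ⟨⟨K, _, _, hK, ⟨e⟩⟩, -⟩ | ⟨-, h4⟩
  · exact absurd rfl h4
  · omega
  · omega
  · exact .inl (H395.EPM.card_aut e ▸ h3)
  · exact .inr (aut_u43 hK ▸ tr e h3)
  · exact absurd h4 (by decide)

theorem chk : ∀ e ∈ SP.Mon.NL.LM, e.2.2 % 3 = 0 → 896690995200 % e.2.1 = 0 → e.2.1 % 672 = 0 →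
    (887040 % e.2.1 = 0 ∨ 26127360 % e.2.1 = 0 ∨ e.2.1 % 2795520 = 0) → e.2.1 = 20160 := by decide +kernel

section abs

variable {S : Type} [Group S] [Finite S] {T B : Subgroup S}

theorem out (h : Fc T B) (h1 : Nat.card T ∣ 896690995200) (h2 : 672 ∣ Nat.card T)
    (h3 : Nat.card T ∣ 887040 ∨ Nat.card T ∣ 26127360 ∨ 2795520 ∣ Nat.card T) (h4 : 3 ∣ Nat.card (Out T)) :
    Nat.card T = 20160 := by
  have hs := h.simple
  obtain ⟨e, he, -, h5, h6⟩ := SP.Mon.NL.exists_name B3.base (B3.nab h) (h1.trans (by norm_num))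
  rw [← H934.OutB.card_out_mul T h.nab, ← h5] at h6
  rw [h5] at h1 h2 h3 ⊢
  exact chk e he (Nat.mod_eq_zero_of_dvd (h4.trans (Nat.dvd_of_mul_dvd_mul_right Nat.card_pos h6))) (Nat.mod_eq_zero_of_dvd h1)
    (Nat.mod_eq_zero_of_dvd h2) (h3.imp Nat.mod_eq_zero_of_dvd (Or.imp Nat.mod_eq_zero_of_dvd Nat.mod_eq_zero_of_dvd))

theorem thirty (h : Fc T B) (h1 : Nat.card T = 20160) (h2 : B.index = 672) : False := by
  have h3 := Sp.Rd.lc_sub h.lcX (inf_le_left : T ⊓ B ≤ T)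
  rw [Subgroup.subgroupOf_self] at h3
  have h4 : ((T ⊓ B).subgroupOf T).index = 672 := (B3.rel h).trans h2
  have h5 : Nat.card ((T ⊓ B).subgroupOf T) = 30 := by
    have h6 := ((T ⊓ B).subgroupOf T).card_mul_index
    rw [h4] at h6
    omega
  have key : ∀ p m : ℕ, p.Prime → ¬ p ∣ m → 30 = p ^ 1 * m → Nat.card (Sylow p ((T ⊓ B).subgroupOf T)) = 1 → 672 % p = 1 := by
    intro p m hp hm h6 h7
    have := Fact.mk hp
    obtain ⟨P, h8, -⟩ := Sp.Rd.exists_syl hm (h5.trans h6)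
    exact h4 ▸ (Sp.Rd.core h3 hp one_pos hm (h5.trans h6) P h8 (Sp.Rd.normal_of_card h7 P)).2
  rcases MTwelve.SylowEleven.card_thirty h5 with h6 | h6
  · exact absurd (key 3 10 Nat.prime_three (by norm_num) rfl h6) (by norm_num)
  · exact absurd (key 5 6 Nat.prime_five (by norm_num) rfl h6) (by norm_num)

end abs

theorem not_tr (hF : Fintype.card F = q ^ 2) (hn : 2 ≤ n) {A : Subgroup (SU n F q)} (ht : Tr A) {w : Fin n → F}
    (hw : hermForm n F q w w ≠ 0) (h : ∀ g ∈ A, ∃ c : F, act g w = c • w) : False := by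
  obtain ⟨z, hz1, hz⟩ := exists_perp_ns hF (nd_line hw) (by rw [finrank_span_singleton (ne_zero_of_ns hw)]; omega)
  obtain ⟨g, hg, c, hc⟩ := ht w z hw (by rw [hz1]; exact one_ne_zero)
  obtain ⟨d, hd⟩ := h g hg
  have h1 : hermForm n F q (c • z) w = 0 := by rw [herm_smul_left, hz w (Submodule.mem_span_singleton_self w), mul_zero]
  rw [← hc, hd, herm_smul_left] at h1
  have h2 := norm_eig hw hd
  rw [(mul_eq_zero.1 h1).resolve_right hw, zero_mul] at h2
  exact zero_ne_one h2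

theorem card_u62 (hF : Fintype.card F = 2 ^ 2) : Nat.card (PSU 6 F 2) = 9196830720 := by
  have h : 3 * (3 * Nat.card (PSU 6 F 2)) = 9 * 9196830720 := (S0280.result hF 6 (by norm_num)).trans (by decide)
  omega

theorem idx62 (hF : Fintype.card F = 2 ^ 2) {w : Fin 6 → F} (hw : hermForm 6 F 2 w w ≠ 0) : (Pt 2 w).index = 672 := by
  have h : 3 * (Pt 2 w).index = 3 * 672 := (index_Pt hF (by norm_num) hw).trans (by decide)
  omega

/-- the other factor lies in `M_22` -/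
theorem m22 (hF : Fintype.card F = 2 ^ 2) {X Y : Subgroup (PSU 6 F 2)} (hpd : Ex78.Pd X Y) (hY : Y ≠ ⊤) {w : Fin 6 → F}
    (hw : hermForm 6 F 2 w w ≠ 0) (hX : X ≤ Pt 2 w) (hd : ¬ 11 ∣ Nat.card X) : 11 ∣ Nat.card Y ∧ Nat.card Y ∣ 887040 := by
  have h1 := (hpd.prime_dvd (r := 11) (by norm_num) (by rw [card_u62 hF]; norm_num)).resolve_left hd
  obtain ⟨l, hl⟩ := exists_pm (p := 2) (f := 1) (k := 5) Nat.prime_two le_rfl le_rfl (by decide)
  obtain rfl : l = 11 := by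
    have h2 : l ∣ 3 * 11 := hl.dvd_add le_rfl (by norm_num)
    have h3 := hl.lt Nat.prime_two le_rfl (by norm_num)
    rcases hl.pr.dvd_mul.1 h2 with h4 | h4 <;> have := Nat.le_of_dvd (by norm_num) h4 <;> omega
  rcases even_gen (p := 2) (f := 1) (m := 5) hF Nat.prime_two le_rfl (by norm_num) (by decide) rfl hl (comap_ne_top hY)
    (h1.trans (card_dvd_comap Y)) with ⟨v, hv, h2⟩ | ⟨H, hH, hYH, hr⟩
  · exact (not_tr hF (by norm_num) (tr_of_pd hF (by norm_num) hpd hw hX) hv h2).elim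
  · exact ⟨h1, (res62 hF hH hr hYH).resolve_right fun h2 => absurd (h1.trans h2) (by norm_num)⟩

theorem card_zz (hF : Fintype.card F = q ^ 2) (hn : 2 ≤ n) : Nat.card (Subgroup.center (SU n F q)) = Nat.gcd n (q + 1) := by
  obtain ⟨p, f, -, -, rfl, -⟩ := H251.GeoU.exists_prime_power hF
  exact card_center hF hn

/-- proper subgroups of `PSU_5(2)` in `PSU_6(2)` -/
theorem small (hF : Fintype.card F = 2 ^ 2) {B : Subgroup (PSU 6 F 2)} {w : Fin 6 → F} (hw : hermForm 6 F 2 w w ≠ 0)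
    (hB : B ≤ Pt 2 w) (h2 : 2 ∣ Nat.card B) (hd : ¬ 11 ∣ Nat.card B) : Nat.card B ≤ 82944 := by
  have hfin : Finite (SU 5 F 2) := inferInstance
  have h0 : Nat.card (B.comap (pr : SU 6 F 2 →* _)) = 3 * Nat.card B := by
    rw [card_comap_pr, card_zz hF (by norm_num)]
    rfl
  have h1 := B57.card_u52 hF
  rcases line_case (n := 5) (A := B.comap pr) hF hw ((le_Pt hF (by norm_num)).1 hB) Nat.prime_two (by norm_num)
    (h2.trans (card_dvd_comap B)) with h3 | ⟨C, hC, -, h3⟩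
  · have h4 := Subgroup.card_dvd_of_le (show fixV 2 w ≤ B.comap pr from h3)
    rw [card_fixV (n := 5) hF hw, h0] at h4
    have h5 := (Subgroup.card_quotient_dvd_card (Subgroup.center (SU 5 F 2))).trans h4
    have h6 : 13685760 ∣ 3 * Nat.card B := h1 ▸ h5
    omega
  · have h7 : 3 * Nat.card B ≤ 3 * Nat.card C := h0 ▸ h3
    have h4 : 165 ≤ _ := (S2151.result 2 hF le_rfl 5 le_rfl (by decide)).1 _ (map_ne_top hF (by norm_num) (by norm_num) hC)
    have h5 := Subgroup.card_le_of_le (Subgroup.le_comap_map (pr : SU 5 F 2 →* _) C)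
    rw [card_comap_pr, card_zz hF (by norm_num), show Nat.gcd 5 (2 + 1) = 1 from rfl] at h5
    have h6 := (Nat.mul_le_mul_left _ h4).trans (C.map (pr : SU 5 F 2 →* _)).card_mul_index.le
    omega

end BRT

open BRT in
/-- **residual groups of order divisible by the number of nonsingular points** -/
theorem boxRT : BoxRT := by
  intro F _ _ n q hF h4 h12 he Y H hH hr hY hd
  have hfin : Finite (PSU n F q) := Quotient.finite _
  have hq := H533.Reg.one_lt_q hF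
  obtain ⟨m, rfl⟩ : ∃ m, n = m + 2 := ⟨n - 2, by omega⟩
  obtain ⟨h1, h2⟩ := facts (m := m) hq Nat.card_pos hd
  rw [Nat.even_iff] at he
  rcases (by omega : m = 2 ∨ m = 4 ∨ m = 6 ∨ m = 8 ∨ m = 10) with rfl | rfl | rfl | rfl | rfl
  · exact (four hF hH hr hY h1 h2).elim
  · exact .inl ⟨rfl, by_contra fun h3 => six hF (by omega) hH hr hY h1 h2⟩
  · exact (eight hF hH hr hY h2).elim
  · exact (ten hF hH hr hY h1 h2 ((Dvd.intro_left _ rfl).trans hd)).elim
  · exact .inr ⟨rfl, twelve hF hH hr hY h2⟩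

open BRT in
/-- **`B` the stabiliser of a nonsingular point of `PSU_6(2)` or `PSU_12(2)`** -/
theorem boxRA : BoxRA := by
  intro F _ _ n hF hn T B h ⟨hT, w, hw, hB⟩ h3
  have hfin : Finite (PSU n F 2) := Quotient.finite _
  obtain ⟨H, hH, hTH, hr⟩ := exists_res hF (by omega) (by omega) h.neX hT
  have h1 := h.pd.index_dvd
  rcases hn with rfl | rfl
  · have h2 : B.index = 672 := hB ▸ idx62 hF hw
    have h4 := res62 hF hH hr hTH
    exact thirty h (out h (h4.elim (fun h5 => h5.trans (by norm_num)) fun h5 => h5.trans (by norm_num)) (h2 ▸ h1)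
      (h4.imp_right .inl) h3) h2
  · have h2 := index_Pt hF (by norm_num) hw
    rw [if_pos (by decide), ← hB] at h2
    have h4 : B.index = 2795520 := by omega
    rcases boxRT F 12 2 hF (by norm_num) le_rfl (by decide) T H hH hr hTH (h2 ▸ Nat.mul_dvd_mul_left _ h1) with h5 | ⟨-, -, h5⟩
    · omega
    · rw [h4] at h1
      have h6 := out h h5 (dvd_trans (by norm_num) h1) (.inr (.inr h1)) h3
      omega

open BRT OrdDiv H940.Eng in
/-- **`PSU_6(2)`: a factor that fixes a nonsingular point has order divisible by `11`** -/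
theorem box62M : Box62M := by
  intro F _ _ hF T B h w hw
  have hfin : Finite (PSU 6 F 2) := Quotient.finite _
  obtain ⟨h1, h1', h2, h3, h4, h5, h6, -⟩ := B3.nums h
  rw [card_u62 hF] at h2
  refine ⟨fun hT => by_contra fun hd => ?_, fun hB => by_contra fun hd => ?_⟩
  · have h7 := h.pd.symm.index_dvd.trans (m22 hF h.pd h.neY hw hT hd).2
    have h8 := (Pt 2 w).card_mul_index
    rw [idx62 hF hw, card_u62 hF] at h8
    have h9 := ords_of B3.base (l := [(2, 10), (3, 5), (5, 1), (11, 1)]) (n := 13685760) (by decide +kernel)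
      (L := [60, 360, 660, 7920, 25920, 95040, 13685760]) (by decide +kernel) T h.simple (B3.nab h)
      ((show Nat.card (Pt 2 w) = 13685760 by omega) ▸ Subgroup.card_dvd_of_le hT)
    simp only [List.mem_cons, List.not_mem_nil, or_false] at h9
    have h10 := Nat.le_of_dvd (by norm_num) h7
    have h11 : T.index = 354816 := by
      rcases h9 with h9 | h9 | h9 | h9 | h9 | h9 | h9 <;> rw [h9] at h2 hd <;> omega
    exact absurd (h11 ▸ h7) (by norm_num)
  · obtain ⟨h7, h8⟩ := m22 hF h.pd.symm h.neX hw hB hd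
    have h9 := ords_of B3.base (l := [(2, 8), (3, 2), (5, 1), (7, 1), (11, 1)]) (n := 887040) (by decide +kernel)
      (L := [60, 168, 360, 504, 660, 2520, 7920, 20160, 443520]) (by decide +kernel) T h.simple (B3.nab h) h8
    have h10 : 672 ∣ Nat.card T := (idx62 hF hw ▸ Subgroup.index_dvd_of_le hB).trans h.pd.index_dvd
    simp only [List.mem_cons, List.not_mem_nil, or_false] at h9
    rw [show Nat.card T = 443520 by omega] at h2
    rw [show T.index = 20736 by omega] at h1'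
    have h12 := small hF hw hB (by omega) hd
    have h13 : 0 < Nat.card ↥(T ⊓ B) := Nat.card_pos
    omega

end Cfsg.Agent.SM.U
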