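import Cfsg.Agent.SM.U.Bas
import Cfsg.Agent.SM.CS.One
import Cfsg.Agent.SM.CSi.Cnt
import Cfsg.Agent.H930.UnitaryTwo

/-!
# SM (S3570), unitary socles: `BoxCS` from the common boxes (helper10)
-/

set_option autoImplicit false

namespace Cfsg.Agent.SM.U

open Cfsg Cfsg.Geo Subgroup Matrix
open Cfsg.Agent.LieClassical.HermBasic
open Cfsg.Agent.H918 (suHom SUg)

/-- **class `S` on the nonsingular points** -/
theorem boxCS_of (hH : CS.BoxHy) (hD : CS.BoxD) (hX : CS.BoxX) : BoxCS := by
  intro F _ _ n q hF hn he Y hY hr ht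
  obtain ⟨P, hP, -⟩ := hr
  obtain ⟨m, hm⟩ := he
  have hq : q ≠ 0 := by
    rintro rfl
    exact Fintype.card_ne_zero hF
  let v : Fin n → F := Pi.single ⟨0, by omega⟩ 1
  have hv : hermForm n F q v v ≠ 0 := by
    have h1 : hermForm n F q v v = 1 := by
      unfold hermForm
      rw [Finset.sum_eq_single (⟨0, by omega⟩ : Fin n)]
      · simp [v]
      · intro b _ hb
        simp [v, hb]
      · simp
    rw [h1]
    exact one_ne_zero
  have s : CS.Sph q m .u (hermForm n F q) (fun x => hermForm n F q x x = 0) (SUg n F q)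
      (subspaceStabilizer (Submodule.span F {v})) :=
    CS.Sph.u _ (H930.hermForm_isUnitaryFormPow hF n) hF (by rw [Fintype.card_fin]; omega) v hv
  have c : CS.Cs .u (SUg n F q) (subspaceStabilizer (Submodule.span F {v})) Y P := by
    refine ⟨by rw [Fintype.card_fin]; omega, hP, hY.1.le, fun h => ?_, fun g hg => ?_, fun h => by cases h⟩
    · refine H918.sup_scalars_ne hF (by omega) (by omega) hY (le_antisymm (sup_le hY.1.le inf_le_right) fun g hg => ?_)
      obtain ⟨y, hy, z, hz, rfl⟩ := mem_sup_of_normal_right.1 (h hg)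
      exact mul_mem (mem_sup_left hy) (mem_sup_right ⟨hz, (mul_mem_cancel_left (hY.1.le hy)).1 hg⟩)
    · obtain ⟨y, hy, c, hc⟩ := ht ((g : Matrix (Fin n) (Fin n) F) *ᵥ v) v (by rwa [(H918.mem_SUg.1 hg).1]) hv
      refine ⟨y⁻¹, inv_mem hy, y * g, CS.Ix.mem_stab_point.2 ⟨c, ?_⟩, by group⟩
      rw [Units.val_mul, ← mulVec_mulVec, hc]
  rcases CS.kind_of hH hD hX s c with h | h <;> cases h

end Cfsg.Agent.SM.U
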