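import Cfsg.Agent.SM.Fac
import Cfsg.Agent.SM.Sp.Red
import Cfsg.Agent.H533.Reg.Ev

/-!
# SM (S3570), unitary socles: definitions (helper10)

* `Fc T B` : what is seen of the factorisation inside the socle; `fc_of` : from `Fac`;
* `St W`, `Pt w` : stabilisers in `PSU_n(q)` of a subspace and of a point;
* `NG Y` : the preimage of `Y` lies in no member of a geometric class;
* `Row` : the surviving rows; the boxes.
-/

set_option autoImplicit false
set_option linter.unusedSectionVars false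

namespace Cfsg.Agent.SM.U

open Cfsg Cfsg.Geo Subgroup
open Cfsg.Agent.LieClassical.HermSiegel (act act_mul act_one act_inv_act act_act_inv act_smul)
open Cfsg.Agent.H674.SUBlock (pr pr_surjective pr_eq_one_iff)
open Cfsg.Agent.H918 (suHom SUg)

/-- `β` fixes `L` -/
def Fx {S : Type} [Group S] (β : MulAut S) (L : Subgroup S) : Prop := ∀ x, x ∈ L ↔ β x ∈ L

/-- the factorisation inside the socle -/
structure Fc {S : Type} [Group S] (T B : Subgroup S) : Prop extends Sp.Fa T B where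
  cen : ∀ g : S, (∀ t ∈ T, g * t = t * g) → g = 1
  mxT : ∀ L : Subgroup S, L ≤ T → (∀ β : MulAut S, Fx β T → Fx β B → ∀ x ∈ L, β x ∈ L) → L ≤ B ∨ L = T
  mxB : ∀ L : Subgroup S, L ≠ ⊤ → (∀ β : MulAut S, Fx β B → ∀ x ∈ L, β x ∈ L) → L ≤ B
  mxN : ∀ L : Subgroup S, L ≠ ⊤ → (∀ β : MulAut S, Fx β T → ∀ x ∈ L, β x ∈ L) → L ≤ normalizer (T : Set S)

section abs

variable {Γ S₀ : Type} [Group Γ] [Group S₀] {M S H T B : Subgroup Γ}

/-- the image in the model -/
def im (e : S ≃* S₀) (X : Subgroup Γ) : Subgroup S₀ := (X.subgroupOf S).map e.toMonoidHom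

theorem mem_im (e : S ≃* S₀) {X : Subgroup Γ} {x : S₀} : x ∈ im e X ↔ ((e.symm x : S) : Γ) ∈ X := by
  constructor
  · rintro ⟨s, hs, rfl⟩
    simpa using (mem_subgroupOf.1 hs)
  · intro h
    exact ⟨e.symm x, h, e.apply_symm_apply x⟩

theorem card_im (e : S ≃* S₀) {X : Subgroup Γ} (h : X ≤ S) : Nat.card (im e X) = Nat.card X := by
  rw [im, card_map_of_injective (f := e.toMonoidHom) e.injective]
  exact Nat.card_congr (subgroupOfEquivOfLe h).toEquiv

theorem index_im (e : S ≃* S₀) (X : Subgroup Γ) : (im e X).index = X.relIndex S :=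
  index_map_of_bijective e.bijective _

/-- the isomorphism with the image -/
noncomputable def imEquiv (e : S ≃* S₀) {X : Subgroup Γ} (h : X ≤ S) : X ≃* im e X :=
  (subgroupOfEquivOfLe h).symm.trans (equivMapOfInjective _ e.toMonoidHom e.injective)

/-- conjugation, transported to the model -/
noncomputable def cjm (a : AS M S) (e : S ≃* S₀) (m : M) : MulAut S₀ := (e.symm.trans (a.aut m)).trans e

theorem symm_cjm (a : AS M S) (e : S ≃* S₀) (m : M) (x : S₀) :
    ((e.symm (cjm a e m x) : S) : Γ) = m * (e.symm x : S) * (m : Γ)⁻¹ := by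
  have h : e.symm (cjm a e m x) = a.aut m (e.symm x) := e.symm_apply_apply _
  rw [h, a.aut_apply]
  rfl

theorem fx_cjm (a : AS M S) (e : S ≃* S₀) (m : M) {X : Subgroup Γ} (h : (m : Γ) ∈ normalizer (X : Set Γ)) :
    Fx (cjm a e m) (im e X) := fun x => by
  rw [mem_im, mem_im, symm_cjm]
  exact mem_normalizer_iff.1 h _

/-- the pull back of a subgroup of the model -/
def pb (e : S ≃* S₀) (L : Subgroup S₀) : Subgroup Γ := (L.comap e.toMonoidHom).map S.subtype

theorem mem_pb (e : S ≃* S₀) {L : Subgroup S₀} {x : S₀} : ((e.symm x : S) : Γ) ∈ pb e L ↔ x ∈ L := by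
  constructor
  · rintro ⟨s, hs, h⟩
    have h1 : s = e.symm x := Subtype.ext h
    subst h1
    simpa using (mem_comap.1 hs)
  · intro h
    exact ⟨e.symm x, by simpa using h, rfl⟩

theorem pb_le (e : S ≃* S₀) (L : Subgroup S₀) : pb e L ≤ S := map_subtype_le _

theorem exists_symm (e : S ≃* S₀) {g : Γ} (hg : g ∈ S) : ∃ x, g = ((e.symm x : S) : Γ) :=
  ⟨e ⟨g, hg⟩, by simp⟩

theorem pb_conj (a : AS M S) (e : S ≃* S₀) {L : Subgroup S₀} {m : Γ} (hm : m ∈ M)
    (h : ∀ x ∈ L, cjm a e ⟨m, hm⟩ x ∈ L) : ∀ y ∈ pb e L, m * y * m⁻¹ ∈ pb e L := by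
  intro y hy
  obtain ⟨x, rfl⟩ := exists_symm e (pb_le e L hy)
  have h1 := symm_cjm a e ⟨m, hm⟩ x
  rw [← h1, mem_pb]
  exact h x ((mem_pb e).1 hy)

theorem pb_le_of (a : AS M S) (e : S ≃* S₀) {D : Subgroup Γ} (hD : D ⋖ M) {L : Subgroup S₀} (hL : L ≠ ⊤)
    (h : ∀ m ∈ D, ∀ y ∈ pb e L, m * y * m⁻¹ ∈ pb e L) : pb e L ≤ D := by
  rcases le_or_mul_of_covBy hD ((pb_le e L).trans a.le) h with h1 | h1
  · exact h1
  · have h2 : ∀ g ∈ S, ∀ x ∈ pb e L, g * x * g⁻¹ ∈ pb e L := by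
      intro g hg x hx
      obtain ⟨d, hd, y, hy, rfl⟩ := h1 g (a.le hg)
      have h3 := h d hd _ ((pb e L).mul_mem ((pb e L).mul_mem hy hx) ((pb e L).inv_mem hy))
      rwa [show d * (y * x * y⁻¹) * d⁻¹ = d * y * x * (d * y)⁻¹ by group] at h3
    by_cases h0 : pb e L = ⊥
    · rw [h0]
      exact bot_le
    · exfalso
      apply hL
      rw [eq_top_iff]
      intro x _
      exact (mem_pb e).1 (a.le_of_conj ((pb_le e L).trans a.le) h2 h0 (e.symm x).2)

/-- **from `Fac` to the model of the socle** -/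
theorem fc_of (f : Fac M S H T B) (e : S ≃* S₀) : Fc (im e T) (im e B) := by
  have nm : ∀ {X : Subgroup Γ} {m : Γ}, m ∈ X → m ∈ normalizer (X : Set Γ) := fun h => le_normalizer h
  refine ⟨Sp.Rd.fa_map e (Sp.Rd.fa_of f), fun g hg => ?_, fun L hL h => ?_, fun L hL h => ?_, fun L hL h => ?_⟩
  · have h1 : ((e.symm g : S) : Γ) = 1 := by
      refine f.cen (f.asM.le (e.symm g).2) fun t ht => ?_
      obtain ⟨x, rfl⟩ := exists_symm e (f.le ht)
      rw [← coe_mul, ← coe_mul, ← map_mul, ← map_mul, hg x ((mem_im e).2 ht)]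
    rw [← e.apply_symm_apply g, show e.symm g = 1 from Subtype.ext h1, map_one]
  · have hLT : pb e L ≤ T := by
      intro y hy
      obtain ⟨x, rfl⟩ := exists_symm e (pb_le e L hy)
      exact (mem_im e).1 (hL ((mem_pb e).1 hy))
    have hc : ∀ m ∈ H ⊓ B, ∀ y ∈ pb e L, m * y * m⁻¹ ∈ pb e L := fun m hm =>
      pb_conj f.asM e (f.hm.le hm.1) (h _ (fx_cjm _ e _ (f.asH.le_normalizer hm.1)) (fx_cjm _ e _ (nm hm.2)))
    rcases le_or_mul_of_covBy f.pr (hLT.trans f.asH.le) hc with h1 | h1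
    · exact .inl fun x hx => (mem_im e).2 (h1 ((mem_pb e).2 hx)).2
    · by_cases h0 : pb e L = ⊥
      · refine .inl fun x hx => (mem_im e).2 ?_
        have h2 := (mem_pb e).2 hx
        rw [h0, mem_bot] at h2
        rw [h2]
        exact B.one_mem
      · refine .inr (le_antisymm hL fun x hx => (mem_pb e).1 ?_)
        refine f.asH.le_of_conj (hLT.trans f.asH.le) (fun g hg x hx => ?_) h0 ((mem_im e).1 hx)
        obtain ⟨d, hd, y, hy, rfl⟩ := h1 g (f.asH.le hg)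
        have h3 := hc d hd _ ((pb e L).mul_mem ((pb e L).mul_mem hy hx) ((pb e L).inv_mem hy))
        rwa [show d * (y * x * y⁻¹) * d⁻¹ = d * y * x * (d * y)⁻¹ by group] at h3
  · intro x hx
    exact (mem_im e).2 (pb_le_of f.asM e f.bm hL (fun m hm => pb_conj f.asM e (f.bm.le hm)
      (h _ (fx_cjm _ e _ (nm hm)))) ((mem_pb e).2 hx))
  · intro x hx
    have h1 := pb_le_of f.asM e f.hm hL (fun m hm => pb_conj f.asM e (f.hm.le hm)
      (h _ (fx_cjm _ e _ (f.asH.le_normalizer hm)))) ((mem_pb e).2 hx)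
    rw [mem_normalizer_iff]
    intro y
    rw [mem_im, mem_im, map_mul, map_mul, map_inv]
    exact mem_normalizer_iff.1 (f.asH.le_normalizer h1) _

end abs

section geo

variable {F : Type} [Field F] [Fintype F] {n q : ℕ}

/-- the stabiliser of a subspace in `SU_n(q)` -/
def Sb (q : ℕ) (W : Submodule F (Fin n → F)) : Subgroup (SU n F q) where
  carrier := {g | ∀ v, v ∈ W ↔ act g v ∈ W}
  mul_mem' := fun {a b} ha hb v => by rw [act_mul, ← ha, ← hb]
  one_mem' := fun v => by rw [act_one]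
  inv_mem' := fun {a} ha v => by rw [ha (act a⁻¹ v), act_act_inv]

/-- the stabiliser of a subspace in `PSU_n(q)` -/
def St (q : ℕ) (W : Submodule F (Fin n → F)) : Subgroup (PSU n F q) := (Sb q W).map pr

/-- the stabiliser of a point in `PSU_n(q)` -/
def Pt (q : ℕ) (w : Fin n → F) : Subgroup (PSU n F q) := St q (F ∙ w)

/-- the preimage in `GL_n(q²)` -/
def gl (Y : Subgroup (PSU n F q)) : Subgroup (GL (Fin n) F) := (Y.comap pr).map (suHom n F q)

/-- `Y` lies in no member of a geometric class -/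
def NG (Y : Subgroup (PSU n F q)) : Prop := ∀ M, InUnitaryClass n F q M → ¬ gl Y ≤ M

/-- no factor fixes a nonsingular point -/
def NN (T B : Subgroup (PSU n F q)) : Prop := ∀ w, hermForm n F q w w ≠ 0 → ¬ T ≤ Pt q w ∧ ¬ B ≤ Pt q w

/-- `B` is the stabiliser of a nonsingular point, `T` is not geometric -/
def CA (T B : Subgroup (PSU n F q)) : Prop := NG T ∧ ∃ w, hermForm n F q w w ≠ 0 ∧ B = Pt q w

/-- `T` is the stabiliser of a nonsingular point, `B` is not geometric -/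
def CB (T B : Subgroup (PSU n F q)) : Prop := NG B ∧ n % (q + 1) = 0 ∧ ∃ w, hermForm n F q w w ≠ 0 ∧ T = Pt q w

/-- **the surviving rows** -/
def Row (T B : Subgroup (PSU n F q)) : Prop :=
  (n = 3 ∧ q = 3 ∧ Nat.card T = 168 ∧ B.index = 28) ∨
  (n = 4 ∧ q = 3 ∧ Nat.card T = 20160 ∧ B.index = 280) ∨
  (n = 6 ∧ q = 2 ∧ (∃ w, hermForm n F q w w ≠ 0 ∧ T = Pt q w) ∧ (B.index = 1408 ∨ B.index = 20736)) ∨
  (q = 2 ∧ 3 ∣ n ∧ ¬ 3 ∣ Nat.card (Out T) ∧ ∃ w, w ≠ 0 ∧ B = Pt q w)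

end geo

/-- class `S` on the nonsingular points, `n ≥ 14` even -/
def BoxCS : Prop :=
  ∀ (F : Type) [Field F] [Fintype F] (n q : ℕ), Fintype.card F = q ^ 2 → 14 ≤ n → Even n →
    ∀ Y : Subgroup (GL (Fin n) F), IsMaximalIn (SUg n F q) Y → InUnitaryResidualClass Y →
      (∀ v w : Fin n → F, hermForm n F q v v ≠ 0 → hermForm n F q w w ≠ 0 →
        ∃ g ∈ Y, ∃ c : F, (g : Matrix (Fin n) (Fin n) F).mulVec v = c • w) → False

/-- `PSU_3(q)` -/
def Box3 : Prop :=
  ∀ (F : Type) [Field F] [Fintype F] (q : ℕ), Fintype.card F = q ^ 2 → q ≠ 2 → ∀ T B : Subgroup (PSU 3 F q), Fc T B →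
    q = 3 ∧ Nat.card T = 168 ∧ B.index = 28

/-- `PSU_4(2)` -/
def Box42 : Prop :=
  ∀ (F : Type) [Field F] [Fintype F], Fintype.card F = 2 ^ 2 → ∀ T B : Subgroup (PSU 4 F 2), Fc T B → False

/-- `PSU_4(3)` -/
def Box43 : Prop :=
  ∀ (F : Type) [Field F] [Fintype F], Fintype.card F = 3 ^ 2 → ∀ T B : Subgroup (PSU 4 F 3), Fc T B → NN T B →
    Nat.card T = 20160 ∧ B.index = 280

/-- `PSU_6(2)`, no factor fixes a nonsingular point -/
def Box62N : Prop :=
  ∀ (F : Type) [Field F] [Fintype F], Fintype.card F = 2 ^ 2 → ∀ T B : Subgroup (PSU 6 F 2), Fc T B → NN T B → False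

/-- `PSU_6(2)`, `T = PSU_5(2)` -/
def Box62B : Prop :=
  ∀ (F : Type) [Field F] [Fintype F], Fintype.card F = 2 ^ 2 → ∀ T B : Subgroup (PSU 6 F 2), Fc T B → CB T B →
    B.index = 1408 ∨ B.index = 20736

/-- `PSU_12(2)`, `T = PSU_11(2)` -/
def Box12B : Prop :=
  ∀ (F : Type) [Field F] [Fintype F], Fintype.card F = 2 ^ 2 → ∀ T B : Subgroup (PSU 12 F 2), Fc T B → CB T B → False

/-- **the result** -/
def BoxRows : Prop :=
  ∀ (F : Type) [Field F] [Fintype F] (n q : ℕ), Fintype.card F = q ^ 2 → 3 ≤ n → ¬ (n = 3 ∧ q = 2) →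
    ∀ T B : Subgroup (PSU n F q), Fc T B → Row T B

end Cfsg.Agent.SM.U
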