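import Cfsg.Agent.SM.U.Bas

/-!
# SM (S3570), unitary socles: more boxes (helper10)
-/

set_option autoImplicit false

namespace Cfsg.Agent.SM.U

open Cfsg Cfsg.Geo
open Cfsg.Agent.H918 (suHom SUg)

/-- the normaliser of a field is not transitive on the nonsingular points -/
def BoxNF : Prop :=
  ∀ (F : Type) [Field F] [Fintype F] (n q : ℕ), Fintype.card F = q ^ 2 → 3 ≤ n → ∀ A : Subgroup (SU n F q), Tr A →
    ∀ (r : ℕ) (K : Subalgebra F (Matrix (Fin n) (Fin n) F)), r.Prime → Odd r → IsFieldSubalgebra r K →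
      IsAdjointClosedFor (hermForm n F q) K → A.map (suHom n F q) ≤ subalgebraNormalizer K → False

/-- `PSU_5(q)`, `PSU_7(q)` -/
def Box57 : Prop :=
  ∀ (F : Type) [Field F] [Fintype F] (n q : ℕ), Fintype.card F = q ^ 2 → n = 5 ∨ n = 7 →
    ∀ T B : Subgroup (PSU n F q), Fc T B → False

/-- `PSU_9(q)` -/
def Box9 : Prop :=
  ∀ (F : Type) [Field F] [Fintype F] (q : ℕ), Fintype.card F = q ^ 2 → ∀ T B : Subgroup (PSU 9 F q), Fc T B → Row T B

/-- `PSU_n(q)`, `n ≥ 11` odd, has no factorisation -/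
def Box11 : Prop :=
  ∀ (F : Type) [Field F] [Fintype F] (n q : ℕ), Fintype.card F = q ^ 2 → 11 ≤ n → Odd n →
    ∀ X Y : Subgroup (PSU n F q), X ≠ ⊤ → Y ≠ ⊤ → Ex78.Pd X Y → False

/-- `n` even: some factor fixes a nonsingular point -/
def BoxNN : Prop :=
  ∀ (F : Type) [Field F] [Fintype F] (n q : ℕ), Fintype.card F = q ^ 2 → 4 ≤ n → Even n → ¬ (n = 4 ∧ q = 2) →
    ¬ (n = 4 ∧ q = 3) → ¬ (n = 6 ∧ q = 2) → ∀ T B : Subgroup (PSU n F q), Fc T B → NN T B → False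

/-- residual groups whose order is divisible by the number of nonsingular points, `n ≤ 12` even -/
def BoxRT : Prop :=
  ∀ (F : Type) [Field F] [Fintype F] (n q : ℕ), Fintype.card F = q ^ 2 → 4 ≤ n → n ≤ 12 → Even n →
    ∀ (Y : Subgroup (PSU n F q)) (H : Subgroup (GL (Fin n) F)), IsMaximalIn (SUg n F q) H → InUnitaryResidualClass H →
      gl Y ≤ H → q ^ (n - 1) * (q ^ n - 1) ∣ (q + 1) * Nat.card Y →
        (n = 6 ∧ q = 2) ∨ (n = 12 ∧ q = 2 ∧ Nat.card Y ∣ 896690995200)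

/-- `B` the stabiliser of a nonsingular point of `PSU_6(2)` or `PSU_12(2)` -/
def BoxRA : Prop :=
  ∀ (F : Type) [Field F] [Fintype F] (n : ℕ), Fintype.card F = 2 ^ 2 → n = 6 ∨ n = 12 →
    ∀ T B : Subgroup (PSU n F 2), Fc T B → CA T B → ¬ 3 ∣ Nat.card (Out T)

/-- `PSU_6(2)`: a factor that fixes a nonsingular point has order divisible by `11` -/
def Box62M : Prop :=
  ∀ (F : Type) [Field F] [Fintype F], Fintype.card F = 2 ^ 2 → ∀ T B : Subgroup (PSU 6 F 2), Fc T B →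
    ∀ w, hermForm 6 F 2 w w ≠ 0 → (T ≤ Pt 2 w → 11 ∣ Nat.card T) ∧ (B ≤ Pt 2 w → 11 ∣ Nat.card B)

end Cfsg.Agent.SM.U
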