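import Cfsg.Agent.SM.U.Pt

/-!
# SM (S3570), unitary socles: the assembly (helper10)
-/

set_option autoImplicit false
set_option linter.unusedSectionVars false

namespace Cfsg.Agent.SM.U

open Cfsg Cfsg.Geo Subgroup Module Matrix
open Cfsg.Agent.LieClassical.HermBasic
open Cfsg.Agent.LieClassical.HermSiegel
open Cfsg.Agent.H674.SUBlock (pr pr_surjective)
open Cfsg.Agent.H918 (suHom SUg)
open Cfsg.Agent.H89.Reg (InvA ne_zero_of_ns card_dvd_comap Pm exists_elt_pr le_fx fx_dim comap_ne_top)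

variable {F : Type} [Field F] [Fintype F] {n q p f l : ℕ}

theorem uq_of_pm (hp : p.Prime) (hf : 1 ≤ f) (hF : Fintype.card F = (p ^ f) ^ 2) (hn : 3 ≤ n) (ho : Odd n)
    (hl : Pm p f n l) {X : Subgroup (PSU (n + 1) F (p ^ f))} (hd : l ∣ Nat.card X) {w : Fin (n + 1) → F}
    (hw : hermForm (n + 1) F (p ^ f) w w ≠ 0) (h : X ≤ Pt (p ^ f) w) : Uq X w := by
  obtain ⟨g, hg, hgl, hg1, -⟩ := exists_elt_pr hl.pr hd
  have he := hl.card_ord hp hf (by omega) ho hF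
  have key : ∀ v, v ≠ 0 → X ≤ Pt (p ^ f) v → F ∙ v ≤ GpUn.fx g := fun v hv h =>
    le_fx (a := 1) hl.pr he (by rw [pow_one]; exact hgl) ((le_St hF (by omega)).1 h g hg)
      (by rw [finrank_span_singleton hv]; omega)
  have h1 := fx_dim (a := 1) hl.pr he (by omega) (by rw [pow_one]; exact hgl) hg1
  intro v hv hX
  rw [Submodule.eq_of_le_of_finrank_le (key w (ne_zero_of_ns hw) h)
    (by rw [finrank_span_singleton (ne_zero_of_ns hw)]; omega)]
  exact key v (ne_zero_of_ns hv) hX (Submodule.mem_span_singleton_self v)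

theorem res_tr (hCS : BoxCS) (hRT : BoxRT) (hF : Fintype.card F = q ^ 2) (hn : 4 ≤ n) (he : Even n)
    {X Y : Subgroup (PSU n F q)} (h : Ex78.Pd X Y) {w : Fin n → F} (hw : hermForm n F q w w ≠ 0) (hX : X ≤ Pt q w)
    {H : Subgroup (GL (Fin n) F)} (hH : IsMaximalIn (SUg n F q) H) (hle : gl Y ≤ H) (hr : InUnitaryResidualClass H) :
    (n = 6 ∧ q = 2) ∨ (n = 12 ∧ q = 2 ∧ Nat.card Y ∣ 896690995200) := by
  rcases Nat.lt_or_ge n 14 with h1 | h1
  · exact hRT F n q hF hn (by obtain ⟨k, hk⟩ := he; omega) he Y H hH hr hle (card_tr hF (by omega) he h hw hX)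
  · refine (hCS F n q hF h1 he H hH hr fun u v hu hv => ?_).elim
    obtain ⟨g, hg, c, hc⟩ := tr_of_pd hF (by omega) h hw hX u v hu hv
    exact ⟨_, hle (mem_gl.2 hg), c, hc⟩

/-- the factor that fixes a nonsingular point fixes only one -/
theorem uq_ev (hCS : BoxCS) (hRT : BoxRT) (hF : Fintype.card F = q ^ 2) (hn : 4 ≤ n) (he : Even n)
    (h42 : ¬ (n = 4 ∧ q = 2)) {X Y : Subgroup (PSU n F q)} (h : Ex78.Pd X Y) (hY : Y ≠ ⊤) {w : Fin n → F}
    (hw : hermForm n F q w w ≠ 0) (hX : X ≤ Pt q w) (h11 : n = 6 → q = 2 → 11 ∣ Nat.card X) : Uq X w := by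
  obtain ⟨p, f, hp, hf, rfl, -⟩ := H251.GeoU.exists_prime_power hF
  obtain ⟨m, rfl⟩ : ∃ m, n = m + 1 := ⟨n - 1, by omega⟩
  have ho : Odd m := by
    obtain ⟨k, hk⟩ := he
    exact ⟨k - 1, by omega⟩
  obtain ⟨l, hl1, hl2, -⟩ := H251.GeoU.exists_big hp hf (m := m) (by omega) ho (by omega)
  have hl : Pm p f m l := ⟨hl1, hl2⟩
  refine uq_of_pm hp hf hF (by omega) ho hl ?_ hw hX
  by_contra hd
  have hdY := (h.prime_dvd hl1 (hl.dvd_psu hp hf (by omega) ho (by omega) hF)).resolve_left hd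
  have h1 := hl.dvd_add hf (by omega)
  have h2 := hl.lt hp hf (by omega)
  have h3 : 2 * m * 1 ≤ 2 * m * f := Nat.mul_le_mul_left _ hf
  rcases H533.Reg.even_gen hF hp hf hn ho rfl hl (comap_ne_top hY) (hdY.trans (card_dvd_comap Y)) with
    ⟨v, hv, h4⟩ | ⟨H, hH, hle, hr⟩
  · refine Pt_ne_top hF (by omega) hv (eq_top_iff.2 fun x _ => ?_)
    obtain ⟨s, rfl⟩ := pr_surjective x
    obtain ⟨g, hg, c, hc⟩ := tr_of_pd hF (by omega) h hw hX v (act s v) hv (by rwa [herm_act])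
    obtain ⟨d, hd⟩ := h4 g hg
    have hc0 : c ≠ 0 := by
      rintro rfl
      rw [zero_smul, act_eq_zero] at hc
      exact ne_zero_of_ns hv hc
    exact (mem_Pt hF (by omega)).2 ⟨c⁻¹ * d, by rw [mul_smul, ← hd, hc, smul_smul, inv_mul_cancel₀ hc0, one_smul]⟩
  · rcases res_tr hCS hRT hF hn he h hw hX hH hle hr with ⟨h5, h6⟩ | ⟨h5, h6, h7⟩
    · obtain rfl : m = 5 := by omega
      rw [h6] at h1
      have h8 : l ≤ 33 := Nat.le_of_dvd (by norm_num) h1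
      have h9 : l = 11 := by
        have h10 : 10 < l := by omega
        interval_cases l <;> first | rfl | (exfalso; revert h1; decide) | (exfalso; revert hl1; decide)
      exact hd (h9 ▸ h11 rfl h6)
    · obtain rfl : m = 11 := by omega
      rw [h6] at h1
      have h8 := Nat.le_of_dvd (by norm_num) (Nat.dvd_gcd h1 (hdY.trans h7))
      rw [show Nat.gcd (2 ^ 11 + 1) 896690995200 = 3 by norm_num] at h8
      omega

/-- **the rows from the boxes** -/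
theorem boxRows_of (hCS : BoxCS) (b3 : Box3) (b42 : Box42) (b43 : Box43) (b62N : Box62N) (b62B : Box62B)
    (b12B : Box12B) (b57 : Box57) (b9 : Box9) (b11 : Box11) (bNN : BoxNN) (hRT : BoxRT) (bRA : BoxRA) (b62M : Box62M) :
    BoxRows := by
  intro F _ _ n q hF hn h32 T B f
  rcases Nat.even_or_odd n with he | ho
  swap
  · rcases Nat.lt_or_ge n 11 with h1 | h1
    · have h2 : n = 3 ∨ (n = 5 ∨ n = 7) ∨ n = 9 := by
        obtain ⟨k, hk⟩ := ho
        omega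
      rcases h2 with rfl | h2 | rfl
      · exact .inl ⟨rfl, b3 F q hF (fun h => h32 ⟨rfl, h⟩) T B f⟩
      · exact (b57 F n q hF h2 T B f).elim
      · exact b9 F q hF T B f
    · exact (b11 F n q hF h1 ho T B f.neX f.neY f.pd).elim
  have h4 : 4 ≤ n := by
    obtain ⟨k, hk⟩ := he
    omega
  by_cases h42 : n = 4 ∧ q = 2
  · obtain ⟨rfl, rfl⟩ := h42
    exact (b42 F hF T B f).elim
  by_cases hN : NN T B
  · by_cases h43 : n = 4 ∧ q = 3
    · obtain ⟨rfl, rfl⟩ := h43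
      exact .inr (.inl ⟨rfl, rfl, b43 F hF T B f hN⟩)
    by_cases h62 : n = 6 ∧ q = 2
    · obtain ⟨rfl, rfl⟩ := h62
      exact (b62N F hF T B f hN).elim
    exact (bNN F n q hF h4 he h42 h43 h62 T B f hN).elim
  obtain ⟨w, hw, h1⟩ : ∃ w, hermForm n F q w w ≠ 0 ∧ (T ≤ Pt q w ∨ B ≤ Pt q w) := by
    by_contra h1
    exact hN fun w hw => ⟨fun h => h1 ⟨w, hw, .inl h⟩, fun h => h1 ⟨w, hw, .inr h⟩⟩
  rcases h1 with h1 | h1
  · have hu := uq_ev hCS hRT hF h4 he h42 f.pd f.neY hw h1 (by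
      rintro rfl rfl
      exact (b62M F hF T B f w hw).1 h1)
    obtain ⟨h2, h3⟩ := caseB hF h4 f hw h1 hu
    have h5 := ngB hF h4 he f hw h3 hu
    obtain ⟨H, hH, hle, hr⟩ := exists_res hF hn h32 f.neY h5
    rcases res_tr hCS hRT hF h4 he f.pd hw h1 hH hle hr with ⟨rfl, rfl⟩ | ⟨rfl, rfl, -⟩
    · exact .inr (.inr (.inl ⟨rfl, rfl, ⟨w, hw, h3⟩, b62B F hF T B f ⟨h5, h2, w, hw, h3⟩⟩))
    · exact (b12B F hF T B f ⟨h5, h2, w, hw, h3⟩).elim
  · have hu := uq_ev hCS hRT hF h4 he h42 f.pd.symm f.neX hw h1 (by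
      rintro rfl rfl
      exact (b62M F hF T B f w hw).2 h1)
    have h3 := caseA hF h4 f hw h1 hu
    have h5 := ngA hF h4 he f hw h3 hu
    obtain ⟨H, hH, hle, hr⟩ := exists_res hF hn h32 f.neX h5
    rcases res_tr hCS hRT hF h4 he f.pd.symm hw h1 hH hle hr with ⟨rfl, rfl⟩ | ⟨rfl, rfl, -⟩
    · exact .inr (.inr (.inr ⟨rfl, by norm_num, bRA F 6 hF (.inl rfl) T B f ⟨h5, w, hw, h3⟩, w, ne_zero_of_ns hw, h3⟩))
    · exact .inr (.inr (.inr ⟨rfl, by norm_num, bRA F 12 hF (.inr rfl) T B f ⟨h5, w, hw, h3⟩, w, ne_zero_of_ns hw, h3⟩))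

end Cfsg.Agent.SM.U
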