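import Cfsg.Agent.SM.U.Defs2

/-!
# SM (S3570), unitary socles: the normaliser of a field is not transitive on the nonsingular points (helper10)
-/

set_option autoImplicit false
set_option linter.unusedSectionVars false

namespace Cfsg.Agent.SM.U

open Cfsg Cfsg.Geo Subgroup Module Matrix
open Cfsg.Agent.LieClassical.HermBasic
open Cfsg.Agent.LieClassical.HermSiegel
open Cfsg.Agent.H918 (suHom SUg)

theorem herm_single_one {F : Type} [Field F] [Fintype F] {n q : ℕ} (i : Fin n) :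
    hermForm n F q (Pi.single i 1) (Pi.single i 1) = 1 := by
  rw [herm_single_left, Pi.single_eq_same, one_pow, one_mul]

/-- **`BoxNF`** -/
theorem boxNF : BoxNF := by
  intro F _ _ n q hF hn A hA r K hr hro hK hadj hAK
  classical
  have hne : Nonempty (Fin n) := ⟨⟨0, by omega⟩⟩
  let _ : Field K := (H912.isField_of_fieldSub hK).toField
  have hfd : Module.Finite F K := inferInstance
  have hKfin : Finite K := Module.finite_of_finite F
  let _ : Fintype K := Fintype.ofFinite K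
  have hgal : IsGalois F K := inferInstance
  have hadj' : ∀ k : K, ∃ k' : K, ∀ u v : Fin n → F,
      hermForm n F q ((k : Matrix (Fin n) (Fin n) F) *ᵥ u) v = hermForm n F q u ((k' : Matrix (Fin n) (Fin n) F) *ᵥ v) := by
    intro k
    obtain ⟨k', hk', h⟩ := hadj k k.2
    exact ⟨⟨k', hk'⟩, h⟩
  choose f hf using hadj'
  have huniq : ∀ {b c : K}, (∀ u v : Fin n → F, hermForm n F q u ((b : Matrix (Fin n) (Fin n) F) *ᵥ v) =
      hermForm n F q u ((c : Matrix (Fin n) (Fin n) F) *ᵥ v)) → b = c := fun h =>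
    Subtype.ext (H533.Reg.mulVec_unique hF h)
  have hff : ∀ a, f (f a) = a := by
    intro a
    apply huniq
    intro u v
    rw [← hf, herm_swap hF v, ← hf, ← herm_swap hF]
  have hadd : ∀ a b, f (a + b) = f a + f b := by
    intro a b
    apply huniq
    intro u v
    rw [← hf, Subalgebra.coe_add, Subalgebra.coe_add, Matrix.add_mulVec, Matrix.add_mulVec, herm_add_left,
      herm_add_right hF, hf, hf]
  have hmul : ∀ a b, f (a * b) = f a * f b := by
    intro a b
    apply huniq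
    intro u v
    rw [← hf, Subalgebra.coe_mul, Subalgebra.coe_mul, ← Matrix.mulVec_mulVec, ← Matrix.mulVec_mulVec, hf, hf]
    have h1 : (f b : Matrix (Fin n) (Fin n) F) * f a = f a * f b := hK.comm _ (f b).2 _ (f a).2
    rw [Matrix.mulVec_mulVec, Matrix.mulVec_mulVec, h1]
  let σ : K ≃+* K := { toFun := f, invFun := f, left_inv := hff, right_inv := hff, map_mul' := hmul, map_add' := hadd }
  have hal : ∀ (x : F) (u : Fin n → F), ((algebraMap F K x : K) : Matrix (Fin n) (Fin n) F) *ᵥ u = x • u := by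
    intro x u
    rw [Subalgebra.coe_algebraMap, Algebra.algebraMap_eq_smul_one, Matrix.smul_mulVec, Matrix.one_mulVec]
  have hσc : ∀ c : F, f (algebraMap F K c) = algebraMap F K (c ^ q) := by
    intro c
    apply huniq
    intro u v
    rw [← hf, hal, hal, herm_smul_left, herm_smul_right, pow_q_pow_q hF]
  obtain ⟨c0, hc0⟩ := exists_not_fixed hF
  obtain ⟨Q, hQ, hQa⟩ := H533.Reg.inv_eq_pow σ hff ⟨algebraMap F K c0, fun h => hc0 ((algebraMap F K).injective (by
    rw [← hσc]; exact h))⟩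
  have hQf : ∀ a, f a = a ^ Q := hQa
  have hcard : Fintype.card K = (q ^ r) ^ 2 := by
    rw [Module.card_eq_pow_finrank (K := F), hK.finrank_eq, hF, ← pow_mul, ← pow_mul, mul_comm]
  have hQn : Q = q ^ r := by
    rw [hcard] at hQ
    exact (Nat.pow_left_injective two_ne_zero hQ).symm
  -- the functional
  obtain ⟨v, hv⟩ : ∃ v : Fin n → F, hermForm n F q v v = 1 := ⟨_, herm_single_one ⟨0, by omega⟩⟩
  let ψ : K → F := fun k => hermForm n F q v ((k : Matrix (Fin n) (Fin n) F) *ᵥ v)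
  have hψ : ∀ k : K, ψ k = hermForm n F q v ((k : Matrix (Fin n) (Fin n) F) *ᵥ v) := fun _ => rfl
  have ψ1 : ψ 1 = 1 := by rw [hψ, Subalgebra.coe_one, Matrix.one_mulVec, hv]
  have ψadd : ∀ a b, ψ (a + b) = ψ a + ψ b := fun a b => by
    rw [hψ, hψ, hψ, Subalgebra.coe_add, Matrix.add_mulVec, herm_add_right hF]
  have ψal : ∀ c : F, ψ (algebraMap F K c) = c ^ q := fun c => by rw [hψ, hal, herm_smul_right, hv, mul_one]
  have ψx : ∀ x k : K, hermForm n F q ((x : Matrix (Fin n) (Fin n) F) *ᵥ v)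
      ((k : Matrix (Fin n) (Fin n) F) *ᵥ ((x : Matrix (Fin n) (Fin n) F) *ᵥ v)) = ψ (x * f x * k) := by
    intro x k
    rw [hf, hψ, Matrix.mulVec_mulVec, Matrix.mulVec_mulVec, ← Subalgebra.coe_mul, ← Subalgebra.coe_mul,
      show f x * k * x = x * f x * k by ring]
  have hN : H912.NormAlg (subalgebraNormalizer K) K := fun _ hh a ha => (hh a).mp ha
  have key : ∀ z : {z : K // z ^ Q = z ∧ ψ z = 0}, ∃ τ : K ≃ₐ[F] K, ∀ k, ψ (τ k) = ψ ((1 + z.1) * k) := by
    rintro ⟨z, hz, hz0⟩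
    obtain ⟨x, hx⟩ := exists_norm_eq hQ (c := 1 + z) (by rw [add_pow_q hQ, one_pow, hz])
    rw [← hQf] at hx
    have h1 : ψ (1 + z) = 1 := by rw [ψadd, ψ1, hz0, add_zero]
    have h2 : hermForm n F q ((x : Matrix (Fin n) (Fin n) F) *ᵥ v) ((x : Matrix (Fin n) (Fin n) F) *ᵥ v) = 1 := by
      have h3 := ψx x 1
      rwa [Subalgebra.coe_one, Matrix.one_mulVec, mul_one, hx, h1] at h3
    obtain ⟨g, hg, c, hc⟩ := hA v ((x : Matrix (Fin n) (Fin n) F) *ᵥ v) (by rw [hv]; exact one_ne_zero)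
      (by rw [h2]; exact one_ne_zero)
    have h4 : c * c ^ q = 1 := by
      have h5 := herm_act g v v
      rwa [hc, herm_smul_left, herm_smul_right, h2, hv, mul_one] at h5
    refine ⟨H912.conjSub hN ⟨suHom n F q g⁻¹, hAK ⟨g⁻¹, A.inv_mem hg, rfl⟩⟩, fun k => ?_⟩
    rw [hψ, H912.conjSub_coe, ← hx, ← ψx, ← Matrix.mulVec_mulVec, ← Matrix.mulVec_mulVec]
    change hermForm n F q v (act g⁻¹ ((k : Matrix (Fin n) (Fin n) F) *ᵥ
      ((((suHom n F q g⁻¹)⁻¹ : GL (Fin n) F) : Matrix (Fin n) (Fin n) F) *ᵥ v))) = _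
    rw [← map_inv, inv_inv, suHom_mulVec, ← herm_act_left, hc, Matrix.mulVec_smul, herm_smul_left, herm_smul_right,
      ← mul_assoc, h4, one_mul]
  choose τ hτ using key
  have hτi : Function.Injective τ := by
    intro z z' h
    apply Subtype.ext
    by_contra hz
    have h0 : z.1 - z'.1 ≠ 0 := sub_ne_zero.2 hz
    have h1 := hτ z (z.1 - z'.1)⁻¹
    rw [h, hτ z', show (1 + z.1) * (z.1 - z'.1)⁻¹ = 1 + (1 + z'.1) * (z.1 - z'.1)⁻¹ by field_simp; ring, ψadd, ψ1] at h1
    exact one_ne_zero (right_eq_add.1 h1)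
  have hZ := Nat.card_le_card_of_injective τ hτi
  rw [IsGalois.card_aut_eq_finrank, hK.finrank_eq] at hZ
  have hfx : ∀ a : K, a ^ Q = a → ψ a ^ q = ψ a := fun a ha => by
    rw [hψ, ← herm_swap hF, hf, hQf, ha]
  let j : {a : K // a ^ Q = a} → {x : F // x ^ q = x} × {z : K // z ^ Q = z ∧ ψ z = 0} := fun a =>
    (⟨ψ a.1, hfx a.1 a.2⟩, ⟨a.1 + algebraMap F K (-ψ a.1), by
      rw [add_pow_q hQ, a.2, ← hQf, hσc, neg_pow_q hF, hfx a.1 a.2], by
      rw [ψadd, ψal, neg_pow_q hF, hfx a.1 a.2, add_neg_cancel]⟩)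
  have hj : Function.Injective j := by
    intro a b h
    have h1 : ψ a.1 = ψ b.1 := congrArg (fun x => x.1.1) h
    have h2 : a.1 + algebraMap F K (-ψ a.1) = b.1 + algebraMap F K (-ψ b.1) := congrArg (fun x => x.2.1) h
    rw [h1] at h2
    exact Subtype.ext (add_right_cancel h2)
  have h1 := Nat.card_le_card_of_injective j hj
  rw [Nat.card_prod, card_fixed hQ, card_fixed hF] at h1
  replace h1 := hQn.ge.trans h1
  have h2 := two_le hF
  obtain ⟨s, rfl⟩ : ∃ s, r = s + 3 := ⟨r - 3, by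
    have := hr.two_le
    obtain ⟨k, hk⟩ := hro
    omega⟩
  have h3 : q * q ^ (s + 2) ≤ q * (s + 3) := by
    rw [← pow_succ']
    exact h1.trans (Nat.mul_le_mul_left _ hZ)
  have h4 := Nat.le_of_mul_le_mul_left h3 (by omega)
  have h5 : 2 ^ (s + 2) ≤ q ^ (s + 2) := Nat.pow_le_pow_left h2 _
  have h6 : s < 2 ^ s := Nat.lt_two_pow_self
  rw [pow_add] at h5
  omega

end Cfsg.Agent.SM.U
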