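import Cfsg.Agent.SM.U.Sec

/-!
# SM (S3570), unitary socles: one factor fixes a nonsingular point (helper10)
-/

set_option autoImplicit false
set_option linter.unusedSectionVars false

namespace Cfsg.Agent.SM.U

open Cfsg Cfsg.Geo Subgroup Module Matrix
open Cfsg.Agent.LieClassical.HermBasic Cfsg.Agent.ClassicalGeometry.HermOrtho
open Cfsg.Agent.LieClassical.HermSiegel
open Cfsg.Agent.H674.SUBlock (pr pr_surjective pr_eq_one_iff)
open Cfsg.Agent.H918 (suHom SUg suHom_injective)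
open Cfsg.Agent.H89.Reg (InvA ne_zero_of_ns finrank_perp card_dvd_comap nd_line exists_perp_ns)
open Cfsg.Agent.ClassicalGeometry.PSUAutBasic (exists_scalar_of_mem_center act_suScalar)

theorem Fc.nrm {S : Type} [Group S] [Finite S] {T B : Subgroup S} (f : Fc T B) {t : S} (ht : t ∈ T)
    (h : ∀ a ∈ T ⊓ B, t * a * t⁻¹ ∈ T ⊓ B) : t ∈ B := by
  refine (f.lcX ⊤ inferInstance (fun h0 => f.nb ?_) ⟨ht, ?_⟩).2
  · rw [← (T ⊓ B).range_subtype, MonoidHom.range_eq_map, h0, Subgroup.map_bot]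
  · rw [← MonoidHom.range_eq_map, range_subtype]
    exact mem_normalizer_fintype h

variable {F : Type} [Field F] [Fintype F] {n q : ℕ}

/-- `X` fixes no other nonsingular point -/
def Uq (X : Subgroup (PSU n F q)) (w : Fin n → F) : Prop := ∀ v, hermForm n F q v v ≠ 0 → X ≤ Pt q v → v ∈ F ∙ w

theorem Sl.kp_uq {β : MulAut (PSU n F q)} {b : MulAut (SU n F q)} {ρ : F ≃+* F} {φ : (Fin n → F) → (Fin n → F)}
    (s : Sl β b ρ φ) (hF : Fintype.card F = q ^ 2) (hn : 3 ≤ n) {X : Subgroup (PSU n F q)} (hX : ∀ x ∈ X, β x ∈ X)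
    {w : Fin n → F} (hw : hermForm n F q w w ≠ 0) (h : X ≤ Pt q w) (hu : Uq X w) : Kp φ (F ∙ w) := by
  obtain ⟨u, rfl⟩ := s.surj w
  exact s.kp_span (ne_zero_of_ns hw) rfl (hu u (s.ns.1 hw) fun x hx => (s.pt hF hn).1 (h (hX x hx)))

theorem Sl.kp_unq {β : MulAut (PSU n F q)} {b : MulAut (SU n F q)} {ρ : F ≃+* F} {φ : (Fin n → F) → (Fin n → F)}
    (s : Sl β b ρ φ) {X : Subgroup (PSU n F q)} (hX : ∀ x ∈ X, β x ∈ X) {W : Submodule F (Fin n → F)}
    (h : Unq (X.comap H674.SUBlock.pr) W) : Kp φ W :=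
  s.kp_of (h.uniq _ (s.pb_ne_bot h.bot) (s.pb_ne_top h.top) (s.pb_inv hX h.inv))

theorem not_mem_span {w v : Fin n → F} (hw : hermForm n F q w w ≠ 0) (h0 : v ≠ 0) (h : hermForm n F q v w = 0) :
    v ∉ F ∙ w := by
  intro hv
  obtain ⟨c, rfl⟩ := Submodule.mem_span_singleton.1 hv
  rw [herm_smul_left] at h
  exact h0 (by rw [(mul_eq_zero.1 h).resolve_right hw, zero_smul])

theorem mem_perp_span {w v : Fin n → F} :
    v ∈ hermPerp q ((F ∙ w : Submodule F (Fin n → F)) : Set (Fin n → F)) ↔ hermForm n F q v w = 0 := by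
  refine ⟨fun h => h w (Submodule.mem_span_singleton_self w), fun h u hu => ?_⟩
  obtain ⟨c, rfl⟩ := Submodule.mem_span_singleton.1 hu
  rw [herm_smul_right, h, mul_zero]

theorem Unq.dim (hF : Fintype.card F = q ^ 2) {A : Subgroup (SU n F q)} {W : Submodule F (Fin n → F)} (h : Unq A W) :
    2 * finrank F W = n := by
  have h1 := finrank_perp hF W
  rw [h.perp] at h1
  omega

theorem exists_perp (hF : Fintype.card F = q ^ 2) {W : Submodule F (Fin n → F)} (h : 2 ≤ finrank F W) {w : Fin n → F}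
    (hw : w ≠ 0) : ∃ a ∈ W, a ≠ 0 ∧ hermForm n F q a w = 0 := by
  have h1 := finrank_perp hF (F ∙ w)
  rw [finrank_span_singleton hw] at h1
  have h2 := Submodule.finrank_sup_add_finrank_inf_eq W (hermPerp q ((F ∙ w : Submodule F (Fin n → F)) : Set (Fin n → F)))
  have h3 := Submodule.finrank_le (W ⊔ hermPerp q ((F ∙ w : Submodule F (Fin n → F)) : Set (Fin n → F)))
  rw [finrank_fin_fun] at h3
  obtain ⟨a, ha, h0⟩ := Submodule.exists_mem_ne_zero_of_ne_bot
    (p := W ⊓ hermPerp q ((F ∙ w : Submodule F (Fin n → F)) : Set (Fin n → F))) (fun h4 => by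
      rw [h4, finrank_bot] at h2
      omega)
  exact ⟨a, ha.1, h0, mem_perp_span.1 ha.2⟩

theorem herm_eig {w : Fin n → F} (hw : hermForm n F q w w ≠ 0) {g : SU n F q} {c : F} (h : act g w = c • w)
    (v : Fin n → F) : hermForm n F q (act g v) w = c * hermForm n F q v w := by
  have h1 := herm_act g v w
  rw [h, herm_smul_right] at h1
  rw [← h1, ← mul_assoc, norm_eig hw h, one_mul]

theorem QQ.comm {z g : SU n F q} {y y' : Fin n → F} {b c c' : F} (h : QQ z y y' b) (hy : hermForm n F q y y ≠ 0)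
    (hy' : hermForm n F q y' y' ≠ 0) (h1 : act g y = c • y) (h2 : act g y' = c' • y') : z * g = g * z := by
  refine ext_act fun v => ?_
  rw [act_mul, act_mul, h, h, act_add, act_add, act_smul, act_smul, h1, h2, herm_eig hy h1, herm_eig hy' h2, smul_smul,
    smul_smul]
  congr 2 <;> ring_nf

theorem card_tr (hF : Fintype.card F = q ^ 2) (hn : 3 ≤ n) (he : Even n) {X Y : Subgroup (PSU n F q)}
    (h : Ex78.Pd X Y) {w : Fin n → F} (hw : hermForm n F q w w ≠ 0) (hX : X ≤ Pt q w) :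
    q ^ (n - 1) * (q ^ n - 1) ∣ (q + 1) * Nat.card Y := by
  have h1 := index_Pt hF hn hw
  rw [if_pos he] at h1
  rw [← h1]
  exact mul_dvd_mul_left _ (h.symm.mono le_rfl hX).index_dvd

variable {T B : Subgroup (PSU n F q)} {w : Fin n → F}

theorem caseA (hF : Fintype.card F = q ^ 2) (hn : 4 ≤ n) (f : Fc T B) (hw : hermForm n F q w w ≠ 0) (h : B ≤ Pt q w)
    (hu : Uq B w) : B = Pt q w := by
  refine le_antisymm h (f.mxB _ (Pt_ne_top hF (by omega) hw) fun β hβ => ?_)
  obtain ⟨b, ρ, φ, s⟩ := exists_sl hF (by omega) (by omega) β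
  exact s.st hF (by omega) (s.kp_uq hF (by omega) (fun x hx => (hβ x).1 hx) hw h hu)

theorem ngA (hF : Fintype.card F = q ^ 2) (hn : 4 ≤ n) (he : Even n) (f : Fc T B) (hw : hermForm n F q w w ≠ 0)
    (hB : B = Pt q w) (hu : Uq B w) : NG T := by
  intro M hM hle
  have h3 : 3 ≤ n := by omega
  have hfin : Finite (PSU n F q) := inferInstance
  have hT := tr_of_pd hF h3 f.pd.symm hw hB.le
  have hw0 := ne_zero_of_ns hw
  rcases hT.cls hF hn he ((card_tr hF h3 he f.pd.symm hw hB.le).trans (mul_dvd_mul_left _ (card_dvd_comap T))) hM hle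
    with hs | ⟨W, hW⟩
  · obtain ⟨w', hw', ho, h1, -⟩ := hs w hw
    obtain ⟨t, ht, c, hc⟩ := hT w w' hw hw'
    have h2 : (pr t)⁻¹ ∈ B := by
      refine f.nrm (T.inv_mem ht) fun a ha =>
        mem_inf.2 ⟨T.mul_mem (T.mul_mem (T.inv_mem ht) ha.1) (T.inv_mem (T.inv_mem ht)), ?_⟩
      obtain ⟨a, rfl⟩ := pr_surjective a
      obtain ⟨d, hd⟩ := h1 a ha.1 ((mem_Pt hF h3).1 (hB.le ha.2))
      rw [inv_inv, ← map_inv, ← map_mul, ← map_mul, hB, mem_Pt hF h3]
      exact ⟨d, by rw [act_mul, act_mul, hc, act_smul, hd, smul_comm, ← hc, act_smul, act_inv_act]⟩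
    obtain ⟨e, he'⟩ := (mem_Pt hF h3).1 (hB.le (B.inv_mem_iff.1 h2))
    have h4 := norm_eig hw he'
    have h5 := herm_eig hw he' w
    rw [hc, herm_smul_left, ho, mul_zero] at h5
    rw [(mul_eq_zero.1 h5.symm).resolve_right hw, zero_mul] at h4
    exact zero_ne_one h4
  · have hd := hW.dim hF
    rcases f.mxT (T ⊓ St q (W ⊔ F ∙ w)) inf_le_left (fun β h1 h2 x hx => by
      obtain ⟨b, ρ, φ, s⟩ := exists_sl hF h3 (by omega) β
      exact ⟨(h1 x).1 hx.1, s.st hF h3 (s.kp_sup (s.kp_unq (fun x hx => (h1 x).1 hx) hW)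
        (s.kp_uq hF h3 (fun x hx => (h2 x).1 hx) hw hB.le hu)) x hx.2⟩) with h1 | h1
    · obtain ⟨a, ha, ha0, haw⟩ := exists_perp hF (W := W) (by omega) hw0
      have h2 : hermForm n F q (w + a) (w + a) ≠ 0 := by
        rwa [herm_add_left, herm_add_right hF, herm_add_right hF, haw, herm_eq_zero_swap hF haw, hW.perp.ge ha a ha,
          add_zero, add_zero, add_zero]
      obtain ⟨t, ht, c, hc⟩ := hT w (w + a) hw h2
      have h4 : pr t ∈ St q (W ⊔ F ∙ w) := by
        refine (mem_St hF h3).2 (mem_Sb_of fun v hv => ?_)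
        obtain ⟨x, hx, y, hy, rfl⟩ := Submodule.mem_sup.1 hv
        obtain ⟨d, rfl⟩ := Submodule.mem_span_singleton.1 hy
        rw [act_add, act_smul, hc]
        exact Submodule.add_mem _ (Submodule.mem_sup_left (hW.inv t ht x hx)) (Submodule.smul_mem _ _
          (Submodule.smul_mem _ _ (Submodule.add_mem _ (Submodule.mem_sup_right (Submodule.mem_span_singleton_self w))
            (Submodule.mem_sup_left ha))))
      obtain ⟨e, he'⟩ := (mem_Pt hF h3).1 (hB.le (h1 ⟨ht, h4⟩))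
      have hc0 : c ≠ 0 := by
        rintro rfl
        rw [zero_smul, act_eq_zero] at hc
        exact hw0 hc
      refine not_mem_span hw ha0 haw (Submodule.mem_span_singleton.2 ⟨c⁻¹ * e - 1, ?_⟩)
      rw [sub_smul, mul_smul, ← he', hc, smul_smul, inv_mul_cancel₀ hc0, one_smul, one_smul, add_sub_cancel_left]
    · refine hw (hT.iso ((le_St hF h3).1 (h1.ge.trans inf_le_right)) (fun h2 => ?_) w
        (Submodule.mem_sup_right (Submodule.mem_span_singleton_self w)))
      have h4 := Submodule.finrank_add_le_finrank_add_finrank W (F ∙ w)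
      rw [h2, finrank_top, finrank_fin_fun, finrank_span_singleton hw0] at h4
      omega

theorem exists_gen (hF : Fintype.card F = q ^ 2) : ∃ c : F, orderOf c = q + 1 := by
  obtain ⟨γ, hγ⟩ := IsCyclic.exists_ofOrder_eq_natCard (α := Fˣ)
  have h1 := two_le hF
  refine ⟨((γ ^ (q - 1) : Fˣ) : F), ?_⟩
  rw [orderOf_units, orderOf_pow_of_dvd (by omega) (by rw [hγ, card_units_eq hF]; exact dvd_mul_left _ _), hγ,
    card_units_eq hF, Nat.mul_div_cancel _ (by omega)]

theorem caseB (hF : Fintype.card F = q ^ 2) (hn : 4 ≤ n) (f : Fc T B) (hw : hermForm n F q w w ≠ 0) (h : T ≤ Pt q w)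
    (hu : Uq T w) : n % (q + 1) = 0 ∧ T = Pt q w := by
  have h3 : 3 ≤ n := by omega
  have hw0 := ne_zero_of_ns hw
  have hN : Pt q w ≤ normalizer (T : Set (PSU n F q)) := f.mxN _ (Pt_ne_top hF h3 hw) fun β hβ => by
    obtain ⟨b, ρ, φ, s⟩ := exists_sl hF h3 (by omega) β
    exact s.st hF h3 (s.kp_uq hF h3 (fun x hx => (hβ x).1 hx) hw h hu)
  have hpow : ∀ c : F, c ^ (q + 1) = 1 → c ^ n = 1 := by
    intro c hc
    have hc0 : c ≠ 0 := by
      rintro rfl
      rw [zero_pow (by omega)] at hc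
      exact zero_ne_one hc
    have hε : (c ^ n)⁻¹ ^ (q + 1) = 1 := by rw [inv_pow, ← pow_mul, mul_comm, pow_mul, hc, one_pow, inv_one]
    let g : SU n F q := mkSU (c • (H876.reflGL hF w (c ^ n)⁻¹ hw hε : Matrix (Fin n) (Fin n) F))
      (by rw [det_smul, H876.reflGL_det, Fintype.card_fin, mul_inv_cancel₀ (pow_ne_zero _ hc0)])
      (fun u v => by
        rw [smul_mulVec, smul_mulVec, herm_smul_left, herm_smul_right, ← mul_assoc, ← pow_succ', hc, one_mul]
        exact (mem_GU_iff _).1 (H876.reflGL_mem hF hw hε) u v)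
    have hg : ∀ v, act g v = c • (v + (((c ^ n)⁻¹ - 1) / hermForm n F q w w * hermForm n F q v w) • w) := fun v => by
      rw [act_def, mat_mkSU, smul_mulVec, H876.reflGL_mulVec]
    have h1 : pr g = 1 := f.cen _ fun t ht => by
      obtain ⟨t, rfl⟩ := pr_surjective t
      obtain ⟨d, hd⟩ := (mem_Pt hF h3).1 (h ht)
      rw [← map_mul, ← map_mul]
      congr 1
      refine ext_act fun v => ?_
      rw [act_mul, act_mul, hg, hg, act_smul, act_add, act_smul, hd, herm_eig hw hd, smul_smul]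
      congr 3
      ring
    obtain ⟨e, -, -, he⟩ := exists_scalar_of_mem_center hF h3 ((pr_eq_one_iff g).1 h1)
    obtain ⟨z, hz1, hz⟩ := exists_perp_ns hF (nd_line hw) (by rw [finrank_span_singleton hw0]; omega)
    have h2 := he z
    rw [hg, hz w (Submodule.mem_span_singleton_self w), mul_zero, zero_smul, add_zero] at h2
    have h4 := smul_left_injective F (ne_zero_of_ns (q := q) (by rw [hz1]; exact one_ne_zero)) h2
    have h5 := he w
    rw [hg, div_mul_cancel₀ _ hw, sub_smul, one_smul, add_sub_cancel, smul_smul, ← h4] at h5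
    exact inv_eq_one.1 ((mul_eq_left₀ hc0).1 (smul_left_injective F hw0 h5))
  have hq : n % (q + 1) = 0 := by
    obtain ⟨c, hc⟩ := exists_gen hF
    rw [← Nat.dvd_iff_mod_eq_zero, ← hc]
    exact orderOf_dvd_of_pow_eq_one (hpow c (by rw [← hc, pow_orderOf_eq_one]))
  refine ⟨hq, ?_⟩
  obtain ⟨m, rfl⟩ : ∃ m, n = m + 1 := ⟨n - 1, by omega⟩
  obtain ⟨ι, -, hι⟩ := H89.Reg.exists_iota hF hw
  have hr : ∀ x ∈ Pt q w, ∃ y, pr (ι y) = x := by
    intro x hx
    obtain ⟨g, rfl⟩ := pr_surjective x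
    obtain ⟨c, hc⟩ := (mem_Pt hF h3).1 hx
    have h1 : c ^ (q + 1) = 1 := by rw [pow_succ', norm_eig hw hc]
    have hc0 : c ≠ 0 := by
      rintro rfl
      rw [zero_pow (by omega)] at h1
      exact zero_ne_one h1
    have h2 : c⁻¹ ^ (q + 1) = 1 := by rw [inv_pow, h1, inv_one]
    obtain ⟨y, hy⟩ := (hι (LieClassical.SUBasic.suScalar q c⁻¹ (hpow _ h2) h2 * g)).1 (by
      rw [act_mul, act_suScalar, hc, smul_smul, inv_mul_cancel₀ hc0, one_smul])
    exact ⟨y, by rw [hy, map_mul, (pr_eq_one_iff _).2 (LieClassical.SUBasic.suScalar_mem_center _ _ _ _), one_mul]⟩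
  have hin : ∀ y, pr (ι y) ∈ Pt q w := fun y => (mem_Pt hF h3).2 ⟨1, by rw [one_smul]; exact (hι _).2 ⟨y, rfl⟩⟩
  have hNn : (T.comap ((pr : SU (m + 1) F q →* _).comp ι)).Normal := ⟨fun x hx g => by
    rw [mem_comap, map_mul, map_mul, map_inv]
    exact (mem_normalizer_iff.1 (hN (hin g)) _).1 hx⟩
  by_cases hc : T.comap ((pr : SU (m + 1) F q →* _).comp ι) ≤ center (SU m F q)
  · refine absurd ⟨⟨fun a b => Subtype.ext ?_⟩⟩ f.nab
    obtain ⟨x, hx⟩ := hr a (h a.2)
    obtain ⟨y, hy⟩ := hr b (h b.2)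
    have h1 : y ∈ T.comap ((pr : SU (m + 1) F q →* _).comp ι) := by
      rw [mem_comap, MonoidHom.comp_apply, hy]
      exact b.2
    rw [coe_mul, coe_mul, ← hx, ← hy, ← map_mul, ← map_mul, ← map_mul, ← map_mul, mem_center_iff.1 (hc h1) x]
  · have h1 := LieClassical.HermPerfect.normal_eq_top hF (by omega) (by rintro ⟨rfl, rfl⟩; omega) hc
    refine le_antisymm h fun x hx => ?_
    obtain ⟨y, rfl⟩ := hr x hx
    exact h1.ge (mem_top y)

theorem ngB (hF : Fintype.card F = q ^ 2) (hn : 4 ≤ n) (he : Even n) (f : Fc T B) (hw : hermForm n F q w w ≠ 0)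
    (hT : T = Pt q w) (hu : Uq T w) : NG B := by
  intro M hM hle
  have h3 : 3 ≤ n := by omega
  have hfin : Finite (PSU n F q) := inferInstance
  have hB := tr_of_pd hF h3 f.pd hw hT.le
  have hw0 := ne_zero_of_ns hw
  obtain ⟨b, hb1, hb⟩ := exists_b hF
  have hb0 : b ≠ 0 := by
    rintro rfl
    rw [zero_mul] at hb1
    exact zero_ne_one hb1
  have hb2 : b - 1 ≠ 0 := fun h0 => hb (by rw [sub_eq_zero.1 h0, one_mul])
  have hz : ∀ {u : Fin n → F}, hermForm n F q u u ≠ 0 → hermForm n F q u w = 0 → ∃ z, QQ z u w b ∧ pr z ∈ T := by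
    intro u h1 h2
    obtain ⟨z, hz⟩ := exists_qq hF h1 hw (herm_eq_zero_swap hF h2) hb1
    exact ⟨z, hz, hT.ge ((mem_Pt hF h3).2 ⟨_, QQ.right hz hw (herm_eq_zero_swap hF h2)⟩)⟩
  rcases hB.cls hF hn he ((card_tr hF h3 he f.pd hw hT.le).trans (mul_dvd_mul_left _ (card_dvd_comap B))) hM hle
    with hs | ⟨W, hW⟩
  · obtain ⟨w', hw', ho, h1, h2⟩ := hs w hw
    let Φ : (Fin n → F) → Prop := fun u => hermForm n F q u u ≠ 0 ∧ hermForm n F q u w = 0 ∧ T ⊓ B ≤ Pt q u
    have hΦ : Φ w' := ⟨hw', ho, (le_Pt hF h3).2 fun g hg => h1 g hg.2 ((mem_Pt hF h3).1 (hT.le hg.1))⟩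
    have orth : ∀ u u', Φ u → Φ u' → u' ∈ F ∙ u ∨ hermForm n F q u' u = 0 := by
      intro u u' k k'
      obtain ⟨z, hz1, hz2⟩ := hz k.1 k.2.1
      have h4 : pr z ∈ B := f.nrm hz2 fun a ha => by
        obtain ⟨a, rfl⟩ := pr_surjective a
        obtain ⟨c, hc⟩ := (mem_Pt hF h3).1 (k.2.2 ha)
        obtain ⟨c', hc'⟩ := (mem_Pt hF h3).1 (hT.le ha.1)
        rwa [← map_mul, hz1.comm k.1 hw hc hc', map_mul, mul_inv_cancel_right]
      obtain ⟨d, hd⟩ := (mem_Pt hF h3).1 (k'.2.2 ⟨hz2, h4⟩)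
      rw [hz1, k'.2.1, mul_zero, zero_smul, add_zero] at hd
      by_contra h5
      push Not at h5
      have h6 : ((b - 1) / hermForm n F q u u * hermForm n F q u' u) • u = (d - 1) • u' := by
        rw [sub_smul, ← hd, one_smul, add_sub_cancel_left]
      have h7 : d - 1 ≠ 0 := fun h0 => by
        rw [h0, zero_smul] at h6
        exact smul_ne_zero (mul_ne_zero (div_ne_zero hb2 k.1) h5.2) (ne_zero_of_ns k.1) h6
      exact h5.1 (Submodule.mem_span_singleton.2 ⟨(d - 1)⁻¹ * _, by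
        rw [mul_smul, h6, smul_smul, inv_mul_cancel₀ h7, one_smul]⟩)
    rcases f.mxT (T ⊓ ⨅ u : {u // Φ u}, Pt q u.1) inf_le_left (fun β k1 k2 x hx => by
      obtain ⟨b, ρ, φ, s⟩ := exists_sl hF h3 (by omega) β
      refine ⟨(k1 x).1 hx.1, mem_iInf.2 ?_⟩
      rintro ⟨u, hu'⟩
      obtain ⟨u, rfl⟩ := s.surj u
      have k3 := s.kp_perp (s.kp_uq hF h3 (fun x hx => (k1 x).1 hx) hw hT.le hu)
      exact (s.pt hF h3).2 (mem_iInf.1 hx.2 ⟨u, s.ns.1 hu'.1, mem_perp_span.1 ((k3 u).1 (mem_perp_span.2 hu'.2.1)),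
        fun a ha => (s.pt hF h3).1 (hu'.2.2 ⟨(k1 a).1 ha.1, (k2 a).1 ha.2⟩)⟩)) with k | k
    · obtain ⟨x, hx, hxw, hxw', hxΦ⟩ : ∃ x, hermForm n F q x x ≠ 0 ∧ hermForm n F q x w = 0 ∧ hermForm n F q x w' = 0 ∧
          ∀ u, Φ u → u ∈ F ∙ x ∨ hermForm n F q u x = 0 := by
        by_cases h4 : ∃ x, Φ x ∧ x ∉ F ∙ w'
        · obtain ⟨x, h5, h6⟩ := h4
          exact ⟨x, h5.1, h5.2.1, (orth w' x hΦ h5).resolve_left h6, fun u k' => orth x u h5 k'⟩
        · push Not at h4
          obtain ⟨x, h5, h6⟩ := exists_perp_ns hF (W := (F ∙ w) ⊔ (F ∙ w')) (fun v hv h0 => by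
            obtain ⟨y, hy, y', hy', rfl⟩ := Submodule.mem_sup.1 hv
            obtain ⟨c, rfl⟩ := Submodule.mem_span_singleton.1 hy
            obtain ⟨c', rfl⟩ := Submodule.mem_span_singleton.1 hy'
            have e1 := h0 w (Submodule.mem_sup_left (Submodule.mem_span_singleton_self w))
            have e2 := h0 w' (Submodule.mem_sup_right (Submodule.mem_span_singleton_self w'))
            rw [herm_add_left, herm_smul_left, herm_smul_left, ho, mul_zero, add_zero] at e1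
            rw [herm_add_left, herm_smul_left, herm_smul_left, herm_eq_zero_swap hF ho, mul_zero, zero_add] at e2
            rw [(mul_eq_zero.1 e1).resolve_right hw, (mul_eq_zero.1 e2).resolve_right hw', zero_smul, zero_smul,
              add_zero]) (by
            have h5 := Submodule.finrank_add_le_finrank_add_finrank (F ∙ w) (F ∙ w')
            rw [finrank_span_singleton hw0, finrank_span_singleton (ne_zero_of_ns hw')] at h5
            omega)
          have h7 := h6 w' (Submodule.mem_sup_right (Submodule.mem_span_singleton_self w'))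
          refine ⟨x, by rw [h5]; exact one_ne_zero, h6 w (Submodule.mem_sup_left (Submodule.mem_span_singleton_self w)),
            h7, fun u k' => .inr ?_⟩
          obtain ⟨c, rfl⟩ := Submodule.mem_span_singleton.1 (h4 u k')
          rw [herm_smul_left, herm_eq_zero_swap hF h7, mul_zero]
      obtain ⟨g, hg⟩ := exists_qq hF hw' hx hxw' hb1
      have hg' : QQ g w' x b := hg
      refine h2 x b g hx (herm_eq_zero_swap hF hxw) (herm_eq_zero_swap hF hxw') hb1 hb hg' (k ⟨?_, mem_iInf.2 ?_⟩)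
      · exact hT.ge ((mem_Pt hF h3).2 ⟨1, by
          rw [one_smul]; exact hg'.fix (herm_eq_zero_swap hF ho) (herm_eq_zero_swap hF hxw)⟩)
      · rintro ⟨u, k'⟩
        refine (mem_Pt hF h3).2 ?_
        rcases orth w' u hΦ k' with e1 | e1
        · obtain ⟨c, rfl⟩ := Submodule.mem_span_singleton.1 e1
          exact ⟨b, by rw [act_smul, hg'.left hw' (herm_eq_zero_swap hF hxw'), smul_comm]⟩
        · rcases hxΦ u k' with e2 | e2
          · obtain ⟨c, rfl⟩ := Submodule.mem_span_singleton.1 e2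
            exact ⟨b⁻¹, by rw [act_smul, hg'.right hx hxw', smul_comm]⟩
          · exact ⟨1, by rw [one_smul]; exact hg'.fix e1 e2⟩
    · exact not_mem_span hw (ne_zero_of_ns hw') ho (hu w' hw' fun x hx => mem_iInf.1 (k.ge hx).2 ⟨w', hΦ⟩)
  · have hd := hW.dim hF
    rcases f.mxT (T ⊓ St q (W ⊓ hermPerp q ((F ∙ w : Submodule F (Fin n → F)) : Set (Fin n → F)))) inf_le_left
      (fun β h1 h2 x hx => by
        obtain ⟨b, ρ, φ, s⟩ := exists_sl hF h3 (by omega) β
        exact ⟨(h1 x).1 hx.1, s.st hF h3 (Sl.kp_inf (s.kp_unq (fun x hx => (h2 x).1 hx) hW)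
          (s.kp_perp (s.kp_uq hF h3 (fun x hx => (h1 x).1 hx) hw hT.le hu))) x hx.2⟩) with h1 | h1
    · obtain ⟨x, hx, hxw⟩ : ∃ x ∈ W, hermForm n F q x w ≠ 0 := by
        by_contra h2
        push Not at h2
        have h4 : w ∈ W := hW.perp.le fun v hv => herm_eq_zero_swap hF (h2 v hv)
        exact hw (h2 w h4)
      obtain ⟨α, hα⟩ : ∃ α, α = hermForm n F q x w / hermForm n F q w w := ⟨_, rfl⟩
      have hα0 : α ≠ 0 := by rw [hα]; exact div_ne_zero hxw hw
      obtain ⟨w', rfl⟩ : ∃ w', x = w' + α • w := ⟨x - α • w, (sub_add_cancel _ _).symm⟩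
      have e1 : hermForm n F q w' w = 0 := by
        rw [eq_div_iff hw, herm_add_left, herm_smul_left] at hα
        exact right_eq_add.1 hα
      have e2 := hW.perp.ge hx _ hx
      rw [herm_add_left, herm_add_right hF, herm_add_right hF, herm_smul_left, herm_smul_left, herm_smul_right,
        herm_smul_right, e1, herm_eq_zero_swap hF e1] at e2
      have e3 : hermForm n F q w' w' ≠ 0 := fun h0 => by
        rw [h0] at e2
        exact mul_ne_zero hα0 (mul_ne_zero (pow_ne_zero q hα0) hw) (by linear_combination e2)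
      obtain ⟨z, hz1, hz2⟩ := hz e3 e1
      have e4 : pr z ∈ B := h1 ⟨hz2, (mem_St hF h3).2 (mem_Sb_of fun v hv => by
        have k1 := mem_perp_span.1 hv.2
        have k2 := hW.perp.ge hv.1 _ hx
        rw [herm_add_right hF, herm_smul_right, k1, mul_zero, add_zero] at k2
        rwa [hz1.fix k2 k1])⟩
      have e5 := hW.perp.ge (hW.inv z e4 _ hx) _ hx
      rw [act_add, act_smul, hz1.left e3 e1, hz1.right hw (herm_eq_zero_swap hF e1)] at e5
      simp only [herm_add_left, herm_add_right hF, herm_smul_left, herm_smul_right, e1, herm_eq_zero_swap hF e1] at e5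
      have e6 : (b * b - 1) * hermForm n F q w' w' = 0 := by
        field_simp at e5
        linear_combination e5 - e2
      exact mul_ne_zero (sub_ne_zero.2 hb) e3 e6
    · obtain ⟨u, hu1, hu0, huw⟩ := exists_perp hF (W := W) (by omega) hw0
      obtain ⟨x, hx, hx1, hx2⟩ := exists_ns_ne hF (hermPerp_nondeg hF _ (nd_line hw)) (mem_perp_span.2 huw) hu0
      obtain ⟨z, hz1, hz2⟩ := hz hx1 (mem_perp_span.1 hx)
      have e1 := ((le_St hF h3).1 (h1.ge.trans inf_le_right) z hz2 u ⟨hu1, mem_perp_span.2 huw⟩).1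
      rw [hz1, huw, mul_zero, zero_smul, add_zero] at e1
      have e2 := (W.smul_mem_iff (mul_ne_zero (div_ne_zero hb2 hx1) hx2)).1 ((W.add_mem_iff_right hu1).1 e1)
      exact hx1 (hW.perp.ge e2 x e2)

end Cfsg.Agent.SM.U
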