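import Cfsg.Agent.SM.U.Trn

/-!
# SM (S3570), unitary socles: groups transitive on the nonsingular points, part two (helper10)

`cls` : a geometric group that is transitive on the nonsingular points (`n ≥ 4` even) has a second point structure `Sec`
or a unique invariant subspace `Unq`.
-/

set_option autoImplicit false
set_option linter.unusedSectionVars false

namespace Cfsg.Agent.SM.U

open Cfsg Cfsg.Geo Subgroup Module Matrix
open Cfsg.Agent.LieClassical.HermBasic Cfsg.Agent.ClassicalGeometry.HermOrtho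
open Cfsg.Agent.LieClassical.HermSiegel
open Cfsg.Agent.H918 (suHom SUg suHom_injective)
open Cfsg.Agent.H89.Reg (InvA ne_zero_of_ns finrank_perp Ev)

variable {F : Type} [Field F] [Fintype F] {n q : ℕ} {A : Subgroup (SU n F q)}

/-- the formula of `exists_qq` -/
def QQ (g : SU n F q) (y z : Fin n → F) (b : F) : Prop :=
  ∀ v, act g v = v + ((b - 1) / hermForm n F q y y * hermForm n F q v y) • y +
    ((b⁻¹ - 1) / hermForm n F q z z * hermForm n F q v z) • z

theorem QQ.fix {g : SU n F q} {y z v : Fin n → F} {b : F} (h : QQ g y z b) (h1 : hermForm n F q v y = 0)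
    (h2 : hermForm n F q v z = 0) : act g v = v := by
  rw [h, h1, h2, mul_zero, mul_zero, zero_smul, zero_smul, add_zero, add_zero]

theorem QQ.left {g : SU n F q} {y z : Fin n → F} {b : F} (h : QQ g y z b) (hy : hermForm n F q y y ≠ 0)
    (h2 : hermForm n F q y z = 0) : act g y = b • y := by
  rw [h, h2, mul_zero, zero_smul, add_zero, div_mul_cancel₀ _ hy, sub_smul, one_smul, add_sub_cancel]

theorem QQ.right {g : SU n F q} {y z : Fin n → F} {b : F} (h : QQ g y z b) (hz : hermForm n F q z z ≠ 0)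
    (h2 : hermForm n F q z y = 0) : act g z = b⁻¹ • z := by
  rw [h, h2, mul_zero, zero_smul, add_zero, div_mul_cancel₀ _ hz, sub_smul, one_smul, add_sub_cancel]

/-- the eigenvectors for `b` -/
theorem QQ.eig {g : SU n F q} {y z v : Fin n → F} {b : F} (h : QQ g y z b) (hz : hermForm n F q z z ≠ 0)
    (h2 : hermForm n F q y z = 0) (hb0 : b ≠ 0) (hb : b * b ≠ 1) (hv : act g v = b • v) : ∃ c : F, v = c • y := by
  have h1 := congrArg (fun u => hermForm n F q u z) (h v)
  simp only [hv, herm_add_left, herm_smul_left, h2, mul_zero, add_zero] at h1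
  have h3 : hermForm n F q v z = 0 := by
    have h4 : (b * b - 1) * hermForm n F q v z = 0 := by
      field_simp at h1
      linear_combination h1
    exact (mul_eq_zero.1 h4).resolve_left (sub_ne_zero.2 hb)
  have h4 := h v
  rw [hv, h3, mul_zero, zero_smul, add_zero] at h4
  have h5 : b - 1 ≠ 0 := fun h0 => hb (by rw [sub_eq_zero.1 h0, one_mul])
  refine ⟨(b - 1)⁻¹ * ((b - 1) / hermForm n F q y y * hermForm n F q v y), ?_⟩
  rw [mul_smul, ← sub_eq_iff_eq_add'.2 h4, show b • v - v = (b - 1) • v by rw [sub_smul, one_smul], smul_smul,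
    inv_mul_cancel₀ h5, one_smul]

/-- the stabiliser of a nonsingular point fixes a second one, and does not contain certain products of quasi-reflections -/
def Sec (A : Subgroup (SU n F q)) : Prop :=
  ∀ w, hermForm n F q w w ≠ 0 → ∃ w', hermForm n F q w' w' ≠ 0 ∧ hermForm n F q w' w = 0 ∧
    (∀ g ∈ A, (∃ c : F, act g w = c • w) → ∃ d : F, act g w' = d • w') ∧
    ∀ x b g, hermForm n F q x x ≠ 0 → hermForm n F q w x = 0 → hermForm n F q w' x = 0 → b * b ^ q = 1 → b * b ≠ 1 →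
      QQ g w' x b → g ∉ A

/-- `W` is the only proper invariant subspace -/
structure Unq (A : Subgroup (SU n F q)) (W : Submodule F (Fin n → F)) : Prop where
  bot : W ≠ ⊥
  top : W ≠ ⊤
  inv : InvA A W
  perp : hermPerp q (W : Set (Fin n → F)) = W
  uniq : ∀ W' : Submodule F (Fin n → F), W' ≠ ⊥ → W' ≠ ⊤ → InvA A W' → W' = W

/-- a pair of complementary isotropic subspaces -/
theorem sec_of_pair (hF : Fintype.card F = q ^ 2) {W W' : Submodule F (Fin n → F)}
    (hW : ∀ u ∈ W, ∀ v ∈ W, hermForm n F q u v = 0) (hW' : ∀ u ∈ W', ∀ v ∈ W', hermForm n F q u v = 0)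
    (hd : W ⊓ W' = ⊥) (hs : W ⊔ W' = ⊤)
    (h : ∀ g ∈ A, ((∀ v ∈ W, act g v ∈ W) ∧ ∀ v ∈ W', act g v ∈ W') ∨ ((∀ v ∈ W, act g v ∈ W') ∧ ∀ v ∈ W', act g v ∈ W)) :
    Sec A := by
  intro w hw
  obtain ⟨a, ha, a', ha', rfl⟩ := Submodule.mem_sup.1 (show w ∈ W ⊔ W' by rw [hs]; trivial)
  have hun : ∀ {x y x' y' : Fin n → F}, x ∈ W → y ∈ W → x' ∈ W' → y' ∈ W' → x + x' = y + y' → x = y ∧ x' = y' := by
    intro x y x' y' hx hy hx' hy' he
    have h1 : x - y = y' - x' := by rw [sub_eq_sub_iff_add_eq_add, he, add_comm]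
    have h2 : x - y ∈ W ⊓ W' := ⟨W.sub_mem hx hy, by rw [h1]; exact W'.sub_mem hy' hx'⟩
    rw [hd, Submodule.mem_bot] at h2
    exact ⟨sub_eq_zero.1 h2, (sub_eq_zero.1 (h1.symm.trans h2)).symm⟩
  obtain ⟨μ, hμ⟩ : ∃ μ, μ = hermForm n F q a a' := ⟨_, rfl⟩
  have hμ' : hermForm n F q a' a = μ ^ q := by rw [hμ, ← herm_swap hF]
  have hN : hermForm n F q (a + a') (a + a') = μ + μ ^ q := by
    rw [herm_add_left, herm_add_right hF, herm_add_right hF, hW a ha a ha, hW' a' ha' a' ha', ← hμ, hμ', zero_add,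
      add_zero]
  have hμ0 : μ ≠ 0 := by
    rintro rfl
    exact hw (by rw [hN, zero_pow_q hF, add_zero])
  have hn' : hermForm n F q (μ ^ q • a - μ • a') (μ ^ q • a - μ • a') ≠ 0 := by
    rw [herm_sub_left, herm_sub_right hF, herm_sub_right hF]
    simp only [herm_smul_left, herm_smul_right]
    rw [hW a ha a ha, hW' a' ha' a' ha', ← hμ, hμ', pow_q_pow_q hF,
      show μ * (μ ^ q * 0) - μ ^ q * (μ ^ q * μ) - (μ * (μ * μ ^ q) - μ ^ q * (μ * 0)) = -(μ * μ ^ q * (μ + μ ^ q)) by ring]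
    exact neg_ne_zero.2 (mul_ne_zero (mul_ne_zero hμ0 (pow_ne_zero _ hμ0)) (hN ▸ hw))
  have ho : hermForm n F q (μ ^ q • a - μ • a') (a + a') = 0 := by
    rw [herm_sub_left, herm_add_right hF, herm_add_right hF]
    simp only [herm_smul_left]
    rw [hW a ha a ha, hW' a' ha' a' ha', ← hμ, hμ']
    ring
  have key : ∀ g ∈ A, ∀ c : F, act g (a + a') = c • (a + a') →
      act g (μ ^ q • a - μ • a') = c • (μ ^ q • a - μ • a') ∨ act g (μ ^ q • a - μ • a') = (-c) • (μ ^ q • a - μ • a') := by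
    intro g hg c hc
    have hc1 := norm_eig hw hc
    rw [act_add, smul_add] at hc
    rcases h g hg with ⟨h1, h2⟩ | ⟨h1, h2⟩
    · obtain ⟨h3, h4⟩ := hun (h1 a ha) (W.smul_mem c ha) (h2 a' ha') (W'.smul_mem c ha') hc
      left
      rw [act_sub, act_smul, act_smul, h3, h4, smul_sub, smul_comm c, smul_comm c]
    · obtain ⟨h3, h4⟩ := hun (h2 a' ha') (W.smul_mem c ha) (h1 a ha) (W'.smul_mem c ha') (by rw [add_comm, hc])
      have h5 := herm_act g a a'
      rw [h3, h4, herm_smul_left, herm_smul_right, ← mul_assoc, hc1, one_mul, ← hμ, hμ'] at h5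
      right
      rw [act_sub, act_smul, act_smul, h3, h4, h5, neg_smul, smul_sub, neg_sub, smul_comm c, smul_comm c]
  refine ⟨_, hn', ho, fun g hg ⟨c, hc⟩ => (key g hg c hc).elim (fun h => ⟨_, h⟩) fun h => ⟨_, h⟩, ?_⟩
  intro x b g _ h1 h2 _ hb hq hg
  have h3 := hq.left hn' h2
  have h4 := hq.fix (herm_eq_zero_swap hF ho) h1
  have h5 := ne_zero_of_ns hn'
  rcases key g hg 1 (by rw [h4, one_smul]) with h6 | h6
  · rw [h3] at h6
    exact hb (by rw [smul_left_injective F h5 h6, one_mul])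
  · rw [h3] at h6
    exact hb (by rw [smul_left_injective F h5 h6]; ring)

theorem mem_sub_iff (hF : Fintype.card F = q ^ 2) {F₀ : Subfield F} (hc : Fintype.card F = Nat.card F₀ ^ 2) {x : F} :
    x ∈ F₀ ↔ x ^ q = x := by
  have h0 : Nat.card F₀ = q := by
    rw [hF] at hc
    exact (Nat.pow_left_injective two_ne_zero hc).symm
  have h1 : ∀ y ∈ F₀, y ^ q = y := by
    intro y hy
    have := Fintype.ofFinite F₀
    have h2 := FiniteField.pow_card (⟨y, hy⟩ : F₀)
    rw [← Nat.card_eq_fintype_card, h0] at h2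
    exact congrArg Subtype.val h2
  refine ⟨h1 x, fun hx => ?_⟩
  let j : F₀ → {x : F // x ^ q = x} := fun y => ⟨y.1, h1 y.1 y.2⟩
  have hj : Function.Bijective j := (Nat.bijective_iff_injective_and_card j).2
    ⟨fun a b h => Subtype.ext (congrArg (fun z : {x : F // x ^ q = x} => z.1) h), by rw [h0, card_fixed hF]⟩
  obtain ⟨y, hy⟩ := hj.2 ⟨x, hx⟩
  have h2 : y.1 = x := congrArg Subtype.val hy
  rw [← h2]
  exact y.2

/-- (C5), index two -/
theorem Tr.sec_of_sub (hA : Tr A) (hF : Fintype.card F = q ^ 2) (hn : 4 ≤ n) {F₀ : Subfield F}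
    (hc : Fintype.card F = Nat.card F₀ ^ 2) {P : GL (Fin n) F} (h : A.map (suHom n F q) ≤ subfieldSubgroup F₀ P) :
    Sec A := by
  obtain ⟨π, hπ⟩ : ∃ π : (Fin n → F) → Fin n → F, ∀ v, (P : Matrix (Fin n) (Fin n) F) *ᵥ π v = v :=
    ⟨fun v => ((P⁻¹ : GL (Fin n) F) : Matrix (Fin n) (Fin n) F) *ᵥ v, fun v => by
      rw [mulVec_mulVec, ← Units.val_mul, mul_inv_cancel, Units.val_one, one_mulVec]⟩
  have hP : ∀ {x y}, (P : Matrix (Fin n) (Fin n) F) *ᵥ x = (P : Matrix (Fin n) (Fin n) F) *ᵥ y → x = y := by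
    intro x y h
    have h1 := congrArg (fun v => ((P⁻¹ : GL (Fin n) F) : Matrix (Fin n) (Fin n) F) *ᵥ v) h
    simpa only [mulVec_mulVec, ← Units.val_mul, inv_mul_cancel, Units.val_one, one_mulVec] using h1
  let s : (Fin n → F) → Fin n → F := fun x => (P : Matrix (Fin n) (Fin n) F) *ᵥ fun i => x i ^ q
  have hs : ∀ x, s x = (P : Matrix (Fin n) (Fin n) F) *ᵥ fun i => x i ^ q := fun _ => rfl
  -- the elements of `A` commute with the conjugation up to scalars
  have hcm : ∀ g ∈ A, ∃ κ : F, ∀ (x : Fin n → F) (e : F), act g ((P : Matrix (Fin n) (Fin n) F) *ᵥ x) =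
      e • (P : Matrix (Fin n) (Fin n) F) *ᵥ x → act g (s x) = (κ * e ^ q) • s x := by
    intro g hg
    obtain ⟨c, M, hc0, hM, hx⟩ := sub_elt (h ⟨g, hg, rfl⟩)
    refine ⟨c⁻¹ * c ^ q, fun x e he => ?_⟩
    have h1 := hx x
    rw [he, smul_smul, ← mulVec_smul] at h1
    have h2 : (M *ᵥ fun i => x i ^ q) = (c * e) ^ q • fun i => x i ^ q := by
      funext i
      have h3 := congrFun (hP h1) i
      have h4 : (M *ᵥ x) i ^ q = (M *ᵥ fun i => x i ^ q) i := by
        rw [mulVec, mulVec, dotProduct, dotProduct, sum_pow_q hF]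
        exact Finset.sum_congr rfl fun j _ => by rw [mul_pow, (mem_sub_iff hF hc).1 (hM i j)]
      rw [← h4, ← h3, Pi.smul_apply, Pi.smul_apply, smul_eq_mul, smul_eq_mul, mul_pow]
    have h3 := hx fun i => x i ^ q
    rw [h2, mulVec_smul, ← hs] at h3
    rw [mul_assoc, ← mul_pow, mul_smul, ← h3, smul_smul, inv_mul_cancel₀ hc0, one_smul]
  intro w hw
  obtain ⟨θ, hθ⟩ := exists_not_fixed hF
  have hθ0 : θ - θ ^ q ≠ 0 := sub_ne_zero.2 hθ.symm
  obtain ⟨x, rfl⟩ : ∃ x, w = (P : Matrix (Fin n) (Fin n) F) *ᵥ x := ⟨π w, (hπ w).symm⟩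
  obtain ⟨a, b, ha, hb, hx⟩ : ∃ a b : Fin n → F, (∀ i, a i ^ q = a i) ∧ (∀ i, b i ^ q = b i) ∧ x = a + θ • b := by
    have hb : ∀ i, ((x i - x i ^ q) / (θ - θ ^ q)) ^ q = (x i - x i ^ q) / (θ - θ ^ q) := fun i => by
      rw [div_pow, sub_pow_q hF, sub_pow_q hF, pow_q_pow_q hF, pow_q_pow_q hF, ← neg_sub (x i), ← neg_sub θ, neg_div_neg_eq]
    refine ⟨fun i => x i - θ * ((x i - x i ^ q) / (θ - θ ^ q)), fun i => (x i - x i ^ q) / (θ - θ ^ q), fun i => ?_, hb,
      funext fun i => ?_⟩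
    · rw [sub_pow_q hF, mul_pow, hb]
      field_simp
      ring
    · simp
  have hsx : s x = (P : Matrix (Fin n) (Fin n) F) *ᵥ a + θ ^ q • (P : Matrix (Fin n) (Fin n) F) *ᵥ b := by
    rw [hs, ← mulVec_smul, ← mulVec_add]
    congr 1
    funext i
    rw [hx, Pi.add_apply, Pi.add_apply, Pi.smul_apply, Pi.smul_apply, smul_eq_mul, smul_eq_mul, add_pow_q hF, mul_pow,
      ha, hb]
  have hxx : (P : Matrix (Fin n) (Fin n) F) *ᵥ x =
      (P : Matrix (Fin n) (Fin n) F) *ᵥ a + θ • (P : Matrix (Fin n) (Fin n) F) *ᵥ b := by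
    rw [hx, mulVec_add, mulVec_smul]
  have i1 := hA.sub_iso hF hn le_rfl hc h fun i => (mem_sub_iff hF hc).2 (ha i)
  have i2 := hA.sub_iso hF hn le_rfl hc h fun i => (mem_sub_iff hF hc).2 (hb i)
  have i3 := hA.sub_iso hF hn le_rfl hc h (u := a + b)
    fun i => F₀.add_mem ((mem_sub_iff hF hc).2 (ha i)) ((mem_sub_iff hF hc).2 (hb i))
  rw [mulVec_add, herm_add_left, herm_add_right hF, herm_add_right hF, i1, i2, zero_add, add_zero,
    add_eq_zero_iff_neg_eq] at i3
  have hn' : hermForm n F q (s x) (s x) ≠ 0 := by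
    intro h0
    apply hw
    rw [hsx] at h0
    rw [hxx]
    simp only [herm_add_left, herm_add_right hF, herm_smul_left, herm_smul_right, pow_q_pow_q hF, i1, i2, ← i3] at h0 ⊢
    linear_combination -h0
  have ho : hermForm n F q (s x) ((P : Matrix (Fin n) (Fin n) F) *ᵥ x) = 0 := by
    rw [hsx, hxx]
    simp only [herm_add_left, herm_add_right hF, herm_smul_left, herm_smul_right, i1, i2, ← i3]
    ring
  refine ⟨s x, hn', ho, fun g hg ⟨e, he⟩ => ?_, ?_⟩
  · obtain ⟨κ, hκ⟩ := hcm g hg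
    exact ⟨_, hκ x e he⟩
  intro z β g hz h1 h2 hβ1 hβ hq hg
  obtain ⟨κ, hκ⟩ := hcm g hg
  have h3 := hκ x 1 (by rw [one_smul]; exact hq.fix (herm_eq_zero_swap hF ho) h1)
  rw [hq.left hn' h2, one_pow, mul_one] at h3
  have h4 : β = κ := smul_left_injective F (ne_zero_of_ns hn') h3
  have hβ0 : β ≠ 0 := by
    rintro rfl
    rw [zero_mul] at hβ1
    exact zero_ne_one hβ1
  obtain ⟨y, hy, hyw⟩ : ∃ y ∈ hermPerp q (((F ∙ s x) ⊔ (F ∙ z) : Submodule F (Fin n → F)) : Set (Fin n → F)),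
      y ∉ (F ∙ ((P : Matrix (Fin n) (Fin n) F) *ᵥ x) : Submodule F (Fin n → F)) := by
    by_contra h5
    push Not at h5
    have h6 := Submodule.finrank_mono h5
    have h7 := finrank_perp hF ((F ∙ s x) ⊔ (F ∙ z))
    have h8 := Submodule.finrank_add_le_finrank_add_finrank (F ∙ s x) (F ∙ z)
    rw [finrank_span_singleton (ne_zero_of_ns hn'), finrank_span_singleton (ne_zero_of_ns hz)] at h8
    rw [finrank_span_singleton (ne_zero_of_ns hw)] at h6
    omega
  have h5 := hκ (π y) 1 (by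
    rw [one_smul, hπ]
    exact hq.fix (hy _ (Submodule.mem_sup_left (Submodule.mem_span_singleton_self _)))
      (hy _ (Submodule.mem_sup_right (Submodule.mem_span_singleton_self _))))
  rw [one_pow, mul_one, ← h4] at h5
  obtain ⟨c, hc'⟩ := hq.eig hz h2 hβ0 hβ h5
  rw [hs, hs, ← mulVec_smul] at hc'
  refine hyw (Submodule.mem_span_singleton.2 ⟨c ^ q, ?_⟩)
  rw [← hπ y, ← mulVec_smul]
  congr 1
  funext i
  have h6 := congrFun (hP hc') i
  rw [Pi.smul_apply, smul_eq_mul] at h6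
  rw [Pi.smul_apply, smul_eq_mul, ← pow_q_pow_q hF (π y i), h6, mul_pow, pow_q_pow_q hF]

/-- the order of the normaliser of a group of symplectic type -/
theorem card_symp [Nonempty (Fin n)] {r k : ℕ} {R : Subgroup (GL (Fin n) F)} (hR : IsSymplecticTypeGroup r R)
    (habs : ActsAbsolutelyIrreducibly (matrixSet R)) (ht : H920.IsType r k R) (hk : 1 ≤ k) :
    Nat.card (subgroupNormalizer R) ∣
      Nat.card R * (Nat.card F - 1) * (r ^ (k ^ 2) * ∏ i ∈ Finset.range k, (r ^ (2 * (i + 1)) - 1)) := by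
  have hfin : Finite (GL (Fin n) F) := inferInstance
  have hr := Fact.mk hR.prime
  obtain ⟨C⟩ := H920.exists_coord habs (H920.comm_of_type hR habs ht) hR.prime hk
    (H920.pow_of_type hR habs ht) (H920.card_of_type hR habs ht)
  have h1 : ∀ g : subgroupNormalizer R, ∃ M : Matrix.symplecticGroup (Fin k) (ZMod r), C.Ind g M := fun g => by
    obtain ⟨M, hM, h⟩ := C.exists_ind_of_mem g.2
    exact ⟨⟨M, hM⟩, h⟩
  choose φ hφ using h1
  let Φ : subgroupNormalizer R →* Matrix.symplecticGroup (Fin k) (ZMod r) :=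
    MonoidHom.mk' φ fun a b => Subtype.ext ((hφ (a * b)).unique ((hφ a).mul (hφ b)))
  have h2 : Φ.ker.map (subgroupNormalizer R).subtype ≤ R ⊔ scalars (Fin n) F := by
    rintro _ ⟨g, hg, rfl⟩
    have h3 : C.Ind g 1 := by
      have h4 := hφ g
      have h5 : φ g = 1 := hg
      rwa [h5] at h4
    obtain ⟨x, hx⟩ := C.mem_of_ind_one habs h3
    have h4 := Subgroup.mul_mem_sup x.2 hx
    rwa [mul_inv_cancel_left] at h4
  have h3 := card_dvd_of_le h2
  rw [card_map_of_injective (subtype_injective _)] at h3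
  rw [← Φ.ker.card_mul_index, index_ker]
  refine mul_dvd_mul ((h3.trans (H251.GeoCard.card_sup_dvd _ _ fun z hz g => H251.GeoCard.scalars_central hz g)).trans
    (mul_dvd_mul_left _ H251.GeoCard.card_scalars_dvd)) ?_
  have h4 := card_subgroup_dvd_card Φ.range
  rwa [LieClassical.SympCount.card_symplecticGroup, ZMod.card] at h4

theorem prod_lt (k : ℕ) : ∏ i ∈ Finset.range (k + 4), (2 ^ (2 * (i + 1)) - 1) < 3 ^ (2 ^ (k + 4) - 1) := by
  induction k with
  | zero => decide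
  | succ k ih =>
    rw [add_right_comm, Finset.prod_range_succ]
    have h1 : 2 * (k + 4 + 1) ≤ 2 ^ (k + 4) := by
      have : k < 2 ^ k := Nat.lt_two_pow_self
      rw [pow_add]
      omega
    have h2 : 2 ^ (2 * (k + 4 + 1)) ≤ 3 ^ 2 ^ (k + 4) :=
      (Nat.pow_le_pow_right (by norm_num) h1).trans (Nat.pow_le_pow_left (by norm_num) _)
    have h3 : 2 ^ (k + 4 + 1) - 1 = (2 ^ (k + 4) - 1) + 2 ^ (k + 4) := by
      have : 0 < 2 ^ (k + 4) := by positivity
      rw [pow_succ]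
      omega
    rw [h3, pow_add]
    exact Nat.mul_lt_mul_of_lt_of_le ih ((Nat.sub_le _ _).trans h2) (by positivity)

theorem not_dvd_prod {p k : ℕ} (hp : 3 ≤ p) (hk : 2 ≤ k) :
    ¬ p ^ (2 ^ k - 1) ∣ ∏ i ∈ Finset.range k, (2 ^ (2 * (i + 1)) - 1) := by
  intro h
  have h0 : 0 < ∏ i ∈ Finset.range k, (2 ^ (2 * (i + 1)) - 1) := Finset.prod_pos fun i _ => by
    have : 1 < 2 ^ (2 * (i + 1)) := Nat.one_lt_pow (by omega) (by norm_num)
    omega
  have h1 := Nat.le_of_dvd h0 h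
  rcases Nat.lt_or_ge k 4 with h4 | h4
  · rcases Nat.lt_or_ge p 4 with h5 | h5
    · obtain rfl : p = 3 := by omega
      interval_cases k <;> revert h <;> decide
    · have h6 := (Nat.pow_le_pow_left h5 _).trans h1
      interval_cases k <;> revert h6 <;> decide
  · obtain ⟨j, rfl⟩ := Nat.exists_eq_add_of_le' h4
    have h5 := prod_lt j
    have h6 := (Nat.pow_le_pow_left hp _).trans h1
    omega

/-- **the geometric groups that are transitive on the nonsingular points** -/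
theorem Tr.cls (hA : Tr A) (hF : Fintype.card F = q ^ 2) (hn : 4 ≤ n) (he : Even n)
    (hd : q ^ (n - 1) * (q ^ n - 1) ∣ (q + 1) * Nat.card A) {M : Subgroup (GL (Fin n) F)} (hM : InUnitaryClass n F q M)
    (h : A.map (suHom n F q) ≤ M) : Sec A ∨ ∃ W, Unq A W := by
  have hfin : Finite (GL (Fin n) F) := inferInstance
  have hne : Nonempty (Fin n) := ⟨⟨0, by omega⟩⟩
  have hcd : Nat.card A ∣ Nat.card M := by
    rw [← card_map_of_injective (K := A) suHom_injective]
    exact card_dvd_of_le h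
  have red : ∀ W : Submodule F (Fin n → F), W ≠ ⊥ → W ≠ ⊤ → InvA A W → Sec A ∨ ∃ W, Unq A W := by
    intro W h0 h1 hW
    by_cases hu : ∀ W' : Submodule F (Fin n → F), W' ≠ ⊥ → W' ≠ ⊤ → InvA A W' → W' = W
    · exact .inr ⟨W, h0, h1, hW, hA.perp_eq hF hW h0 h1, hu⟩
    push Not at hu
    obtain ⟨W', h0', h1', hW', hne'⟩ := hu
    have e1 := hA.perp_eq hF hW h0 h1
    have e2 := hA.perp_eq hF hW' h0' h1'
    have d1 := finrank_perp hF W
    have d2 := finrank_perp hF W'
    rw [e1] at d1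
    rw [e2] at d2
    have hi : W ⊓ W' = ⊥ := by
      by_contra h2
      have h3 : InvA A (W ⊓ W') := fun g hg v hv => ⟨hW g hg v hv.1, hW' g hg v hv.2⟩
      have d3 := finrank_perp hF (W ⊓ W')
      rw [hA.perp_eq hF h3 h2 fun h4 => h1 (eq_top_iff.2 (h4.ge.trans inf_le_left))] at d3
      exact hne' ((Submodule.eq_of_le_of_finrank_le (inf_le_right (a := W)) (by omega)).symm.trans
        (Submodule.eq_of_le_of_finrank_le inf_le_left (by omega)))
    have hs : W ⊔ W' = ⊤ := by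
      have d3 := Submodule.finrank_sup_add_finrank_inf_eq W W'
      rw [hi, finrank_bot] at d3
      exact Submodule.eq_top_of_finrank_eq (by rw [finrank_fin_fun]; omega)
    exact .inl (sec_of_pair hF (fun u hu v hv => (e1.ge hu) v hv) (fun u hu v hv => (e2.ge hu) v hv) hi hs
      fun g hg => .inl ⟨hW g hg, hW' g hg⟩)
  have inv : ∀ {W : Submodule F (Fin n → F)}, A.map (suHom n F q) ≤ subspaceStabilizer W ⊓ GU n F q → InvA A W :=
    fun h g hg v hv => ((h ⟨g, hg, rfl⟩).1 v).1 hv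
  obtain ⟨p, f, hp, hf, rfl, hpF⟩ := H251.GeoU.exists_prime_power hF
  rcases hM with (hM | hM | hM | hM | hM | hM | hM | hM) | hM | hM | hM
  · obtain ⟨W, h0, hW, rfl⟩ := hM
    refine red W h0 ?_ (inv h)
    rintro rfl
    have h1 := hW (Pi.single ⟨0, by omega⟩ 1) trivial (Pi.single ⟨0, by omega⟩ 1) trivial
    rw [herm_single_one] at h1
    exact one_ne_zero h1
  · obtain ⟨W, h0, -, hW, rfl⟩ := hM
    refine red W h0 ?_ (inv h)
    rintro rfl
    rw [finrank_top, finrank_fin_fun] at hW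
    omega
  · obtain ⟨t, k, D, hD, rfl⟩ := hM
    exact (hA.not_decomp hF (by omega) hD (h.trans inf_le_left)).elim
  · obtain ⟨k, D, -, hD, hts, rfl⟩ := hM
    refine .inl (sec_of_pair hF (hts 0) (hts 1) ?_ ?_ fun g hg => ?_)
    · exact (hD.indep.pairwiseDisjoint (show (0 : Fin 2) ≠ 1 by decide)).eq_bot
    · rw [← hD.iSup_eq_top]
      refine le_antisymm (sup_le (le_iSup D 0) (le_iSup D 1)) (iSup_le fun i => ?_)
      fin_cases i
      · exact le_sup_left
      · exact le_sup_right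
    · obtain ⟨σ, hσ⟩ := (h ⟨g, hg, rfl⟩).1
      have h1 : ∀ i, ∀ v ∈ D i, act g v ∈ D (σ i) := fun i v hv => by
        rw [← hσ]
        exact ⟨v, hv, rfl⟩
      have h2 : ∀ σ : Equiv.Perm (Fin 2), (σ 0 = 0 ∧ σ 1 = 1) ∨ (σ 0 = 1 ∧ σ 1 = 0) := by decide
      have h5 := h1 0
      have h6 := h1 1
      rcases h2 σ with ⟨h3, h4⟩ | ⟨h3, h4⟩
      · rw [h3] at h5
        rw [h4] at h6
        exact .inl ⟨h5, h6⟩
      · rw [h3] at h5
        rw [h4] at h6
        exact .inr ⟨h5, h6⟩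
  · obtain ⟨F₀, r, P, hr, hro, hc, -, rfl⟩ := hM
    exact (hA.not_sub_odd hF hn hr.two_le hro hc (h.trans inf_le_left)).elim
  · obtain ⟨F₀, P, -, hc, -, rfl⟩ := hM
    exact .inl (hA.sec_of_sub hF hn hc (h.trans inf_le_left))
  · obtain ⟨F₀, P, ζ, -, hc, -, -, -, -, rfl⟩ := hM
    exact .inl (hA.sec_of_sub hF hn hc (h.trans inf_le_left))
  · obtain ⟨r, R, p', e, k, hR, habs, -, hrp, hmin, hc, rfl⟩ := hM
    exfalso
    have ht : H920.IsType r k R := by
      rcases hc with ⟨h1, h2, -, h3⟩ | ⟨h1, -, h2, h3⟩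
      · exact Or.inl ⟨h1, h2, h3⟩
      · exact Or.inr ⟨h1, h2, h3⟩
    have hcard := H920.card_of_type hR habs ht
    rw [Fintype.card_fin] at hcard
    obtain rfl : r = 2 := ((Nat.prime_dvd_prime_iff_eq Nat.prime_two hR.prime).1
      (Nat.prime_two.dvd_of_dvd_pow (hcard ▸ he.two_dvd))).symm
    have hk : 2 ≤ k := by
      by_contra h1
      have : k ≤ 1 := by omega
      interval_cases k <;> omega
    have hp2 : p ≠ 2 := by
      rintro rfl
      have := hmin.2.1
      exact hrp ((Nat.prime_dvd_prime_iff_eq hmin.1 Nat.prime_two).1 ((CharP.cast_eq_zero_iff F p' 2).1 hpF)).symm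
    have h1 : p ^ (n - 1) ∣ (p ^ f + 1) * Nat.card A :=
      ((pow_dvd_pow_of_dvd (dvd_pow_self p (by omega)) _).trans (dvd_mul_right _ _)).trans hd
    have hpq : p ∣ p ^ f := dvd_pow_self p (by omega)
    have c1 : (p ^ (n - 1)).Coprime (p ^ f + 1) := Nat.Coprime.pow_left _ ((Nat.Prime.coprime_iff_not_dvd hp).2
      fun h2 => hp.one_lt.ne' (Nat.dvd_one.1 ((Nat.dvd_add_right hpq).1 h2)))
    have h2 := ((c1.dvd_of_dvd_mul_left h1).trans hcd).trans ((card_dvd_of_le inf_le_left).trans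
      (card_symp hR habs ht (by omega)))
    have c2 : ∀ j, (p ^ (n - 1)).Coprime (2 ^ j) := fun j => Nat.Coprime.pow _ _
      ((Nat.coprime_primes hp Nat.prime_two).2 hp2)
    obtain ⟨a, ha⟩ := IsPGroup.iff_card.1 (haveI := Fact.mk Nat.prime_two; hR.pGroup)
    have c3 : (p ^ (n - 1)).Coprime (Nat.card F - 1) := Nat.Coprime.pow_left _ ((Nat.Prime.coprime_iff_not_dvd hp).2
      fun h3 => by
        rw [H251.GeoU.nat_card_eq hF] at h3
        have h4 := (Nat.dvd_sub_iff_right (Nat.one_le_pow _ _ (q_pos hF)) (dvd_pow hpq two_ne_zero)).1 h3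
        exact hp.one_lt.ne' (Nat.dvd_one.1 h4))
    rw [ha, mul_assoc] at h2
    have h3 := (c2 _).dvd_of_dvd_mul_left (c3.dvd_of_dvd_mul_left ((c2 _).dvd_of_dvd_mul_left h2))
    rw [hcard] at h3
    exact not_dvd_prod (by have := hp.two_le; omega) hk h3
  · obtain ⟨r, K, hr, hro, hK, hadj, rfl⟩ := hM
    exact (boxNF F n _ hF (by omega) A hA r K hr hro hK hadj (h.trans inf_le_left)).elim
  · obtain ⟨n₁, n₂, e, P, f₁, f₂, h2, hlt, -, -, -, rfl⟩ := hM
    exact (hA.not_tensor hF e P h2 hlt (h.trans inf_le_left)).elim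
  · obtain ⟨k, t, e, P, f₁, hk, ht, -, -, -, rfl⟩ := hM
    exfalso
    obtain ⟨s, hs⟩ := H89.Reg.exists_ev (p := p) (f := f) hp hf hn
    have hsq := H251.GeoU.not_dvd_of_ord hs.pr hs.ord (by omega)
    have h1 : s ∣ (p ^ f) ^ n - 1 := by
      rw [Lib.Zsigmondy.dvd_pow_sub_one_iff (q_pos hF)]
      apply orderOf_dvd_of_pow_eq_one
      rw [← he.neg_pow, ← hs.ord, pow_orderOf_eq_one]
    have h2 : s ∣ Nat.card (tensorWreathSubgroup k t e P) :=
      (((hs.pr.dvd_mul.1 ((h1.mul_left _).trans hd)).resolve_left (hs.not_dvd_succ (by omega))).trans hcd).trans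
        (card_dvd_of_le inf_le_left)
    have hcard : n = k ^ t := by simpa using Fintype.card_congr e
    have h3 := hs.le (by omega)
    rcases H251.GeoCard.wreath e P hs.pr (H251.GeoU.not_dvd_card hF hs.pr hsq) h2 with h4 | h4
    · have : t < k ^ t := Nat.lt_pow_self (by omega)
      omega
    · rw [H251.GeoU.nat_card_eq hF] at h4
      have h5 := H251.GeoU.ord_le_of_div (Nat.one_le_pow _ _ (q_pos hF)) h4
      rw [H251.GeoU.ord_sq_even hs.ord he] at h5
      have h6 : k ^ 2 ≤ k ^ t := Nat.pow_le_pow_right (by omega) ht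
      have h7 : 3 * k ≤ k ^ 2 := by rw [pow_two]; exact Nat.mul_le_mul_right _ hk
      omega

end Cfsg.Agent.SM.U
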