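import Cfsg.Agent.SM.U.NF
import Cfsg.Agent.H883.Tensor
import Cfsg.Agent.H914.Sub

/-!
# SM (S3570), unitary socles: groups transitive on the nonsingular points, part one (helper10)
-/

set_option autoImplicit false
set_option linter.unusedSectionVars false

namespace Cfsg.Agent.SM.U

open Cfsg Cfsg.Geo Subgroup Module Matrix
open Cfsg.Agent.LieClassical.HermBasic Cfsg.Agent.ClassicalGeometry.HermOrtho
open Cfsg.Agent.LieClassical.HermSiegel
open Cfsg.Agent.H918 (suHom SUg)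
open Cfsg.Agent.H89.Reg (InvA ne_zero_of_ns finrank_perp)

variable {F : Type} [Field F] [Fintype F] {n q : ℕ} {A : Subgroup (SU n F q)}

/-- there are many nonsingular vectors -/
theorem big (hF : Fintype.card F = q ^ 2) (hn : 1 ≤ n) {α : Type} [Finite α] (f : α → Fin n → F)
    (h : ∀ v, hermForm n F q v v ≠ 0 → ∃ a, f a = v) : q ^ (2 * n - 2) ≤ Nat.card α ∧
      (2 ≤ n → q ^ (2 * n - 2) < Nat.card α) := by
  have h1 : ∀ v : {v : Fin n → F // hermForm n F q v v = 1}, ∃ a, f a = v.1 := fun v =>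
    h v.1 (by rw [v.2]; exact one_ne_zero)
  choose s hs using h1
  have h2 := Nat.card_le_card_of_injective s fun v w hvw => Subtype.ext (by rw [← hs, ← hs, hvw])
  rw [LieClassical.HermCount.card_norm_one hF] at h2
  obtain ⟨m, rfl⟩ : ∃ m, n = m + 1 := ⟨n - 1, by omega⟩
  have h3 := two_le hF
  have h4 : 0 < q ^ m := by positivity
  have h5 : q ^ m * 2 ≤ q ^ (m + 1) := by rw [pow_succ]; exact Nat.mul_le_mul_left _ h3
  rw [show 2 * (m + 1) - 2 = m + m by omega, pow_add]
  rw [Nat.add_sub_cancel] at h2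
  constructor
  · split_ifs at h2
    · exact (Nat.mul_le_mul_left _ (by omega)).trans h2
    · exact (Nat.mul_le_mul_left _ (by omega)).trans h2
  · intro hm
    have h6 : 1 < q ^ m := Nat.one_lt_pow (by omega) (by omega)
    split_ifs at h2
    · exact (Nat.mul_lt_mul_of_pos_left (by omega) h4).trans_le h2
    · exact (Nat.mul_lt_mul_of_pos_left (by omega) h4).trans_le h2

/-- an invariant cone with a nonsingular vector contains all of them -/
theorem Tr.cone (hA : Tr A) {Ω : Set (Fin n → F)} (hc : ∀ (c : F), ∀ v ∈ Ω, c • v ∈ Ω)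
    (hi : ∀ g ∈ A, ∀ v ∈ Ω, act g v ∈ Ω) {v : Fin n → F} (hv : v ∈ Ω) (h0 : hermForm n F q v v ≠ 0) :
    ∀ w, hermForm n F q w w ≠ 0 → w ∈ Ω := by
  intro w hw
  obtain ⟨g, hg, c, h⟩ := hA v w h0 hw
  have hc0 : c ≠ 0 := by
    rintro rfl
    rw [zero_smul, act_eq_zero] at h
    exact ne_zero_of_ns h0 h
  have h1 := hc c⁻¹ _ (hi g hg v hv)
  rwa [h, smul_smul, inv_mul_cancel₀ hc0, one_smul] at h1

theorem Tr.small (hA : Tr A) (hF : Fintype.card F = q ^ 2) (hn : 2 ≤ n) {α : Type} [Finite α] (f : α → Fin n → F)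
    (hc : ∀ (c : F) a, ∃ a', f a' = c • f a) (hi : ∀ g ∈ A, ∀ a, ∃ a', f a' = act g (f a))
    (hs : Nat.card α ≤ q ^ (2 * n - 2)) (a : α) : hermForm n F q (f a) (f a) = 0 := by
  by_contra h0
  have h1 := hA.cone (Ω := Set.range f) (by rintro c _ ⟨a, rfl⟩; exact hc c a)
    (by rintro g hg _ ⟨a, rfl⟩; exact hi g hg a) ⟨a, rfl⟩ h0
  have h2 := (big hF (by omega) f h1).2 hn
  omega

/-- proper invariant subspaces are isotropic -/
theorem Tr.iso (hA : Tr A) {W : Submodule F (Fin n → F)} (hW : InvA A W) (h1 : W ≠ ⊤) :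
    ∀ v ∈ W, hermForm n F q v v = 0 := by
  intro v hv
  by_contra h0
  have h2 := hA.cone (Ω := W) (fun c _ hv => W.smul_mem c hv) hW hv h0
  apply h1
  rw [eq_top_iff]
  intro x _
  rw [pi_eq_sum_univ' x]
  exact W.sum_mem fun i _ => W.smul_mem _ (h2 _ (by rw [herm_single_one]; exact one_ne_zero))

theorem Tr.perp_eq (hA : Tr A) (hF : Fintype.card F = q ^ 2) {W : Submodule F (Fin n → F)} (hW : InvA A W)
    (h0 : W ≠ ⊥) (h1 : W ≠ ⊤) : hermPerp q (W : Set (Fin n → F)) = W := by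
  have k1 : ∀ {U : Submodule F (Fin n → F)}, InvA A U → U ≠ ⊤ → U ≤ hermPerp q (U : Set (Fin n → F)) :=
    fun hU h u hu v hv => herm_eq_zero_of_isotropic hF _ (hA.iso hU h) hu hv
  have h2 := finrank_perp hF W
  have h3 := finrank_perp hF (hermPerp q (W : Set (Fin n → F)))
  have h4 : hermPerp q (W : Set (Fin n → F)) ≠ ⊤ := by
    intro h
    rw [h, finrank_top, finrank_fin_fun] at h2
    exact h0 (Submodule.finrank_eq_zero.1 (by omega))
  have h5 := Submodule.finrank_mono (k1 hW.perp h4)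
  exact (Submodule.eq_of_le_of_finrank_le (k1 hW h1) (by omega)).symm

/-- polarisation -/
theorem pol (hF : Fintype.card F = q ^ 2) {X : Type} [AddCommGroup X] [Module F X] (L L' : X →ₗ[F] (Fin n → F))
    (h : ∀ y, hermForm n F q (L y) (L' y) = 0) (y y' : X) : hermForm n F q (L y) (L' y') = 0 := by
  obtain ⟨c, hc⟩ := exists_not_fixed hF
  have h1 : ∀ d : F, d ^ q * hermForm n F q (L y) (L' y') + d * hermForm n F q (L y') (L' y) = 0 := by
    intro d
    have h2 := h (y + d • y')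
    rw [map_add, map_add, map_smul, map_smul, herm_add_left, herm_add_right hF, herm_add_right hF, herm_smul_left,
      herm_smul_left, herm_smul_right, herm_smul_right, h, h] at h2
    linear_combination h2
  have h2 := h1 1
  have h3 := h1 c
  rw [one_pow] at h2
  have h4 : (c ^ q - c) * hermForm n F q (L y) (L' y') = 0 := by linear_combination h3 - c * h2
  exact (mul_eq_zero.1 h4).resolve_left (sub_ne_zero.2 hc)

/-- (C4) -/
theorem Tr.not_tensor (hA : Tr A) (hF : Fintype.card F = q ^ 2) {n₁ n₂ : ℕ} (e : Fin n ≃ Fin n₁ × Fin n₂)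
    (P : GL (Fin n) F) (h2 : 2 ≤ n₁) (h12 : n₁ < n₂) (h : A.map (suHom n F q) ≤ tensorProductSubgroup n₁ n₂ e P) :
    False := by
  have hcard : n = n₁ * n₂ := by simpa using Fintype.card_congr e
  have hle : n₁ + n₂ + 1 ≤ n := by
    obtain ⟨a, rfl⟩ := Nat.exists_eq_add_of_le h2
    obtain ⟨b, rfl⟩ := Nat.exists_eq_add_of_lt h12
    rw [hcard]
    nlinarith
  have h1 := hA.small hF (by omega) (fun a : (Fin n₁ → F) × (Fin n₂ → F) => H883.Tensor.pure e P a.1 a.2)
    (fun c a => ⟨(c • a.1, a.2), H883.Tensor.pure_smul_left e P c a.1 a.2⟩)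
    (fun g hg a => by
      obtain ⟨x, y, hxy⟩ := (H883.Tensor.mem_tensorProductSubgroup_iff e P _).1 (h ⟨g, hg, rfl⟩)
      exact ⟨(_, _), (hxy a.1 a.2).symm⟩)
    (by
      rw [Nat.card_prod, Nat.card_fun, Nat.card_fun, Nat.card_eq_fintype_card (α := F), hF, Nat.card_fin, Nat.card_fin,
        ← pow_add, ← pow_mul]
      exact Nat.pow_le_pow_right (q_pos hF) (by omega))
  have h3 : ∀ x x' y, hermForm n F q (H883.Tensor.pure e P x y) (H883.Tensor.pure e P x' y) = 0 := fun x x' y =>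
    pol hF ((H883.Tensor.pureBilin e P).flip y) ((H883.Tensor.pureBilin e P).flip y) (fun x => h1 (x, y)) x x'
  have h4 : ∀ x x' y y', hermForm n F q (H883.Tensor.pure e P x y) (H883.Tensor.pure e P x' y') = 0 :=
    fun x x' y y' => pol hF (H883.Tensor.pureBilin e P x) (H883.Tensor.pureBilin e P x') (fun y => h3 x x' y) y y'
  have h5 := herm_single_one (F := F) (q := q) (n := n) ⟨0, by omega⟩
  rw [H883.Tensor.eq_sum_pure e P (Pi.single _ 1), herm_sum_left] at h5
  rw [Finset.sum_eq_zero fun i _ => by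
    rw [herm_sum_right hF]
    exact Finset.sum_eq_zero fun j _ => h4 _ _ _ _] at h5
  exact zero_ne_one h5

/-- (C2), nondegenerate members -/
theorem Tr.not_decomp (hA : Tr A) (hF : Fintype.card F = q ^ 2) (hn : 3 ≤ n) {t k : ℕ}
    {D : Fin t → Submodule F (Fin n → F)} (hD : IsNondegenerateMDecomposition (hermForm n F q) k D)
    (h : A.map (suHom n F q) ≤ decompositionStabilizer D) : False := by
  have htk : t * k = n := by rw [H918.decomp_card hD.decomp, Fintype.card_fin]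
  have ht := hD.decomp.two_le
  have hk := hD.decomp.pos
  have hq := two_le hF
  have h1 := hA.small hF (by omega) (fun a : Σ i, D i => (a.2 : Fin n → F))
    (fun c a => ⟨⟨a.1, c • a.2⟩, rfl⟩)
    (fun g hg a => by
      obtain ⟨σ, hσ⟩ := h ⟨g, hg, rfl⟩
      exact ⟨⟨σ a.1, act g a.2, by rw [← hσ]; exact ⟨a.2, a.2.2, rfl⟩⟩, rfl⟩)
    (by
      have h2 : ∀ i, Nat.card (D i) = (q ^ 2) ^ k := fun i => by
        rw [Module.natCard_eq_pow_finrank (K := F), hD.decomp.finrank_eq, Nat.card_eq_fintype_card, hF]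
      rw [Nat.card_sigma, Finset.sum_congr rfl fun i _ => h2 i, Finset.sum_const, Finset.card_univ, Fintype.card_fin,
        smul_eq_mul, ← pow_mul]
      obtain ⟨s, rfl⟩ : ∃ s, t = s + 1 := ⟨t - 1, by omega⟩
      have h3 : s + 1 ≤ q ^ s := (Nat.succ_le_of_lt Nat.lt_two_pow_self).trans (Nat.pow_le_pow_left hq _)
      refine (Nat.mul_le_mul_right _ h3).trans ?_
      rw [← pow_add]
      refine Nat.pow_le_pow_right (by omega) ?_
      rcases Nat.lt_or_ge k 2 with h4 | h4
      · obtain rfl : k = 1 := by omega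
        omega
      · have h5 : s * 2 ≤ s * k := Nat.mul_le_mul_left _ h4
        rw [add_mul] at htk
        omega)
  have hnd : GpUn.ND q (D ⟨0, by omega⟩) := by
    intro v hv h
    by_contra hv0
    obtain ⟨-, u, hu, huv⟩ := hD.nondegenerate _ v hv hv0
    exact huv (h u hu)
  obtain ⟨v, hv, hv1⟩ := exists_norm_one_vector hF _ hnd (fun h0 => by
    have h2 := hD.decomp.finrank_eq ⟨0, by omega⟩
    rw [h0, finrank_bot] at h2
    omega)
  have h2 := h1 ⟨_, v, hv⟩
  rw [hv1] at h2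
  exact one_ne_zero h2

/-- the matrix of an element of a subfield group -/
theorem sub_elt {F₀ : Subfield F} {P : GL (Fin n) F} {g : SU n F q} (h : suHom n F q g ∈ subfieldSubgroup F₀ P) :
    ∃ (c : F) (M : Matrix (Fin n) (Fin n) F), c ≠ 0 ∧ (∀ i j, M i j ∈ F₀) ∧
      ∀ x, c • act g ((P : Matrix (Fin n) (Fin n) F) *ᵥ x) = (P : Matrix (Fin n) (Fin n) F) *ᵥ (M *ᵥ x) := by
  obtain ⟨c, hc, h1⟩ := H914.mem_subfieldSubgroup_iff.1 h
  refine ⟨c, c • ((P⁻¹ * suHom n F q g * P : GL (Fin n) F) : Matrix (Fin n) (Fin n) F), hc, h1, fun x => ?_⟩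
  rw [smul_mulVec, mulVec_smul, mulVec_mulVec, ← Units.val_mul, ← mul_assoc, ← mul_assoc, mul_inv_cancel, one_mul,
    Units.val_mul, ← mulVec_mulVec, suHom_mulVec]

/-- (C5): the rational vectors are isotropic -/
theorem Tr.sub_iso (hA : Tr A) (hF : Fintype.card F = q ^ 2) (hn : 4 ≤ n) {F₀ : Subfield F} {r : ℕ} (hr : 2 ≤ r)
    (hc : Fintype.card F = Nat.card F₀ ^ r) {P : GL (Fin n) F} (h : A.map (suHom n F q) ≤ subfieldSubgroup F₀ P)
    {u : Fin n → F} (hu : ∀ i, u i ∈ F₀) :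
    hermForm n F q ((P : Matrix (Fin n) (Fin n) F) *ᵥ u) ((P : Matrix (Fin n) (Fin n) F) *ᵥ u) = 0 := by
  have h0 : Nat.card F₀ ≤ q := by
    by_contra h1
    have h2 : q ^ 2 < Nat.card F₀ ^ 2 := Nat.pow_lt_pow_left (by omega) two_ne_zero
    have h3 : Nat.card F₀ ^ 2 ≤ Nat.card F₀ ^ r := Nat.pow_le_pow_right Nat.card_pos hr
    omega
  have h1 := hA.small hF (by omega)
    (fun a : F × (Fin n → F₀) => a.1 • (P : Matrix (Fin n) (Fin n) F) *ᵥ fun i => (a.2 i : F))
    (fun c a => ⟨(c * a.1, a.2), mul_smul _ _ _⟩)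
    (fun g hg a => by
      obtain ⟨c, M, hc0, hM, hx⟩ := sub_elt (h ⟨g, hg, rfl⟩)
      refine ⟨(a.1 * c⁻¹, fun i => ⟨(M *ᵥ fun i => (a.2 i : F)) i,
        F₀.sum_mem (t := Finset.univ) fun j _ => F₀.mul_mem (hM i j) (a.2 j).2⟩), ?_⟩
      change (a.1 * c⁻¹) • (P : Matrix (Fin n) (Fin n) F) *ᵥ (M *ᵥ fun i => (a.2 i : F)) = _
      rw [← hx, smul_smul, inv_mul_cancel_right₀ hc0, act_smul])
    (by
      rw [Nat.card_prod, Nat.card_fun, Nat.card_eq_fintype_card (α := F), hF, Nat.card_fin]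
      refine (Nat.mul_le_mul_left _ (Nat.pow_le_pow_left h0 _)).trans ?_
      rw [← pow_add]
      exact Nat.pow_le_pow_right (q_pos hF) (by omega))
    (1, fun i => ⟨u i, hu i⟩)
  rwa [one_smul] at h1

/-- (C5), odd index -/
theorem Tr.not_sub_odd (hA : Tr A) (hF : Fintype.card F = q ^ 2) (hn : 4 ≤ n) {F₀ : Subfield F} {r : ℕ} (hr : 2 ≤ r)
    (hro : Odd r) (hc : Fintype.card F = Nat.card F₀ ^ r) {P : GL (Fin n) F}
    (h : A.map (suHom n F q) ≤ subfieldSubgroup F₀ P) : False := by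
  obtain ⟨c, hc0, hc1⟩ : ∃ c ∈ F₀, c ^ q ≠ c := by
    by_contra h1
    push Not at h1
    let K : Subfield F := RingHom.eqLocusField (conj hF : F →+* F) (RingHom.id F)
    have hK : Nat.card K = q := by
      rw [← card_fixed hF]
      rfl
    have hle : F₀ ≤ K := fun x hx => h1 x hx
    let _ := (Subfield.inclusion hle).toAlgebra
    have h2 := Module.natCard_eq_pow_finrank (K := F₀) (V := K)
    rw [hK] at h2
    rw [hF, h2, ← pow_mul] at hc
    have h3 := Nat.pow_right_injective (Finite.one_lt_card (α := F₀)) hc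
    obtain ⟨k, hk⟩ := hro
    omega
  have h1 : ∀ i j, hermForm n F q ((P : Matrix (Fin n) (Fin n) F) *ᵥ Pi.single i 1)
      ((P : Matrix (Fin n) (Fin n) F) *ᵥ Pi.single j 1) = 0 := by
    intro i j
    have hs : ∀ (i k : Fin n), (Pi.single i 1 : Fin n → F) k ∈ F₀ := fun i k => by
      rw [Pi.single_apply]
      split_ifs
      · exact F₀.one_mem
      · exact F₀.zero_mem
    have h2 : ∀ d ∈ F₀, d ^ q * hermForm n F q ((P : Matrix (Fin n) (Fin n) F) *ᵥ Pi.single i 1)
        ((P : Matrix (Fin n) (Fin n) F) *ᵥ Pi.single j 1) + d * hermForm n F q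
        ((P : Matrix (Fin n) (Fin n) F) *ᵥ Pi.single j 1) ((P : Matrix (Fin n) (Fin n) F) *ᵥ Pi.single i 1) = 0 := by
      intro d hd
      have h3 := hA.sub_iso hF hn hr hc h (u := Pi.single i 1 + d • Pi.single j 1)
        fun k => F₀.add_mem (hs i k) (F₀.mul_mem hd (hs j k))
      rw [mulVec_add, mulVec_smul, herm_add_left, herm_add_right hF, herm_add_right hF, herm_smul_left,
        herm_smul_left, herm_smul_right, herm_smul_right, hA.sub_iso hF hn hr hc h (hs i),
        hA.sub_iso hF hn hr hc h (hs j)] at h3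
      linear_combination h3
    have h3 := h2 1 F₀.one_mem
    have h4 := h2 c hc0
    rw [one_pow] at h3
    have h5 : (c ^ q - c) * hermForm n F q ((P : Matrix (Fin n) (Fin n) F) *ᵥ Pi.single i 1)
      ((P : Matrix (Fin n) (Fin n) F) *ᵥ Pi.single j 1) = 0 := by linear_combination h4 - c * h3
    exact (mul_eq_zero.1 h5).resolve_left (sub_ne_zero.2 hc1)
  have h5 := herm_single_one (F := F) (q := q) (n := n) ⟨0, by omega⟩
  generalize (Pi.single (⟨0, by omega⟩ : Fin n) 1 : Fin n → F) = v at h5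
  obtain ⟨x, rfl⟩ : ∃ x, v = (P : Matrix (Fin n) (Fin n) F) *ᵥ x :=
    ⟨((P⁻¹ : GL (Fin n) F) : Matrix (Fin n) (Fin n) F) *ᵥ v, by
      rw [mulVec_mulVec, ← Units.val_mul, mul_inv_cancel, Units.val_one, one_mulVec]⟩
  rw [pi_eq_sum_univ' x, mulVec_sum, herm_sum_left, Finset.sum_eq_zero fun i _ => by
    rw [herm_sum_right hF]
    refine Finset.sum_eq_zero fun j _ => ?_
    rw [mulVec_smul, mulVec_smul, herm_smul_left, herm_smul_right, h1, mul_zero, mul_zero]] at h5
  exact zero_ne_one h5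

end Cfsg.Agent.SM.U
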